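import Mathlib
import Cfsg.Agent.Lib.M24E.Tools
import Cfsg.Agent.Lib.Comput.Lin2

/-!
# Bit vectors of length 12, packed matrices, and the tables of the 6-dimensional `GF(4)`-module of `3.M22.2`

Vectors are numbers below 4096 (addition is `^^^`).  A matrix is a number with twelve columns of twelve bits.
`rho` is multiplication by a primitive cube root of unity, `beta x y = Tr (ω h(x, y))` for the hermitian form `h`,
`qf x = h(x, x)`, `bf` is the polar form.  `ty` is the orbit type of a vector, `dv x y` a vector attached to a duad.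
-/

set_option autoImplicit false

namespace CfsgLib.J4T

open Cfsg CfsgLib.Golay CfsgLib.M24E

/-! ### induction over bit vectors -/

theorem xor_lt {n x y : ℕ} (hx : x < 2 ^ n) (hy : y < 2 ^ n) : x ^^^ y < 2 ^ n := Nat.xor_lt_two_pow hx hy

theorem xor_lt' {x y : ℕ} (hx : x < 4096) (hy : y < 4096) : x ^^^ y < 4096 := xor_lt (n := 12) hx hy

theorem bits_ind' (n : ℕ) {P : ℕ → Prop} (h0 : P 0) (hb : ∀ i < n, P (2 ^ i))
    (hx : ∀ x < 2 ^ n, ∀ y < 2 ^ n, P x → P y → P (x ^^^ y)) : ∀ x < 2 ^ n, P x := by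
  have key : ∀ m ≤ n, ∀ x < 2 ^ m, P x := by
    intro m
    induction m with
    | zero => intro _ x hx; rw [pow_zero, Nat.lt_one_iff] at hx; rw [hx]; exact h0
    | succ m ih =>
      intro hm x hx'
      by_cases h : x < 2 ^ m
      · exact ih (by omega) x h
      · have h1 : x - 2 ^ m < 2 ^ m := by rw [pow_succ] at hx'; omega
        have h2 : x = 2 ^ m ^^^ (x - 2 ^ m) := by
          have h3 : 2 ^ m ^^^ (x - 2 ^ m) = 2 ^ m + (x - 2 ^ m) := by
            apply Nat.eq_of_testBit_eq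
            intro i
            rw [Nat.testBit_xor, Nat.testBit_two_pow]
            rcases lt_trichotomy i m with hi | rfl | hi
            · rw [Nat.testBit_two_pow_add_gt hi]; simp [hi.ne']
            · rw [Nat.testBit_two_pow_add_eq, Nat.testBit_lt_two_pow h1]; simp
            · rw [Nat.testBit_lt_two_pow (lt_of_lt_of_le h1 (Nat.pow_le_pow_right (by norm_num) hi.le)),
                Nat.testBit_lt_two_pow (x := 2 ^ m + (x - 2 ^ m))
                  (lt_of_lt_of_le (by omega : _ < 2 ^ (m + 1)) (Nat.pow_le_pow_right (by norm_num) hi))]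
              simp [hi.ne]
          omega
        have h4 : 2 ^ m ≤ 2 ^ n := Nat.pow_le_pow_right (by norm_num) (by omega)
        rw [h2]
        exact hx _ (Nat.pow_lt_pow_right (by norm_num) (by omega)) _ (by omega) (hb m (by omega))
          (ih (by omega) _ h1)
  exact key n le_rfl

theorem bits_ind {P : ℕ → Prop} (h0 : P 0) (hb : ∀ i < 12, P (2 ^ i))
    (hx : ∀ x < 4096, ∀ y < 4096, P x → P y → P (x ^^^ y)) : ∀ x < 4096, P x := bits_ind' 12 h0 hb hx

/-- additive maps on the vectors -/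
def Lin (f : ℕ → ℕ) : Prop := ∀ x < 4096, ∀ y < 4096, f (x ^^^ y) = f x ^^^ f y

theorem Lin.zero {f : ℕ → ℕ} (h : Lin f) : f 0 = 0 := by
  have := h 0 (by norm_num) 0 (by norm_num)
  rwa [Nat.xor_self, Nat.xor_self] at this

theorem lin_ext {f g : ℕ → ℕ} (hf : Lin f) (hg : Lin g) (h : ∀ i < 12, f (2 ^ i) = g (2 ^ i)) :
    ∀ x < 4096, f x = g x :=
  bits_ind (by rw [hf.zero, hg.zero]) h fun x hx y hy h1 h2 => by rw [hf x hx y hy, hg x hx y hy, h1, h2]

theorem Lin.comp {f g : ℕ → ℕ} (hf : Lin f) (hg : Lin g) (hlt : ∀ x < 4096, g x < 4096) :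
    Lin fun x => f (g x) := fun x hx y hy => by
  show f (g (x ^^^ y)) = _
  rw [hg x hx y hy, hf _ (hlt x hx) _ (hlt y hy)]

theorem Lin.xor {f g : ℕ → ℕ} (hf : Lin f) (hg : Lin g) : Lin fun x => f x ^^^ g x := fun x hx y hy => by
  show f (x ^^^ y) ^^^ g (x ^^^ y) = (f x ^^^ g x) ^^^ (f y ^^^ g y)
  rw [hf x hx y hy, hg x hx y hy]
  ac_rfl

theorem lin_id : Lin fun x => x := fun _ _ _ _ => rfl

/-! ### packed matrices -/

/-- block `i` (twelve bits) -/
def col (A i : ℕ) : ℕ := Nat.land (Nat.shiftRight A (Nat.mul 12 i)) 4095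

theorem col_lt (A i : ℕ) : col A i < 4096 := by
  rw [col, land_4095]; exact Nat.mod_lt _ (by norm_num)

theorem testBit_col (A i k : ℕ) : (col A i).testBit k = (decide (k < 12) && A.testBit (12 * i + k)) := by
  have : col A i = (A >>> (12 * i)) &&& (2 ^ 12 - 1) := rfl
  rw [this, Nat.testBit_and, Nat.testBit_two_pow_sub_one, Nat.testBit_shiftRight, Bool.and_comm]

/-- specification of `mvR` -/
noncomputable def mvN (R A x n : ℕ) : ℕ :=
  Nat.rec 0 (fun k ih => Nat.xor (Nat.mul (Nat.land (Nat.shiftRight x k) R) (col A k)) ih) n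

theorem mvN_succ (R A x n : ℕ) : mvN R A x (n + 1) = (((x >>> n) &&& R) * col A n) ^^^ mvN R A x n := rfl

/-- apply the matrix `A` to all blocks of `x` marked in `R` -/
def mvR (R A x : ℕ) : ℕ :=
  (Nat.xor (Nat.mul (Nat.land (Nat.shiftRight x 11) R) (Nat.land (Nat.shiftRight A 132) 4095))
    (Nat.xor (Nat.mul (Nat.land (Nat.shiftRight x 10) R) (Nat.land (Nat.shiftRight A 120) 4095))
    (Nat.xor (Nat.mul (Nat.land (Nat.shiftRight x 9) R) (Nat.land (Nat.shiftRight A 108) 4095))
    (Nat.xor (Nat.mul (Nat.land (Nat.shiftRight x 8) R) (Nat.land (Nat.shiftRight A 96) 4095))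
    (Nat.xor (Nat.mul (Nat.land (Nat.shiftRight x 7) R) (Nat.land (Nat.shiftRight A 84) 4095))
    (Nat.xor (Nat.mul (Nat.land (Nat.shiftRight x 6) R) (Nat.land (Nat.shiftRight A 72) 4095))
    (Nat.xor (Nat.mul (Nat.land (Nat.shiftRight x 5) R) (Nat.land (Nat.shiftRight A 60) 4095))
    (Nat.xor (Nat.mul (Nat.land (Nat.shiftRight x 4) R) (Nat.land (Nat.shiftRight A 48) 4095))
    (Nat.xor (Nat.mul (Nat.land (Nat.shiftRight x 3) R) (Nat.land (Nat.shiftRight A 36) 4095))
    (Nat.xor (Nat.mul (Nat.land (Nat.shiftRight x 2) R) (Nat.land (Nat.shiftRight A 24) 4095))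
    (Nat.xor (Nat.mul (Nat.land (Nat.shiftRight x 1) R) (Nat.land (Nat.shiftRight A 12) 4095))
    (Nat.xor (Nat.mul (Nat.land (Nat.shiftRight x 0) R) (Nat.land (Nat.shiftRight A 0) 4095))
    0))))))))))))

theorem mvR_eq (R A x : ℕ) : mvR R A x = mvN R A x 12 := rfl

/-- matrix times vector -/
def mv (A x : ℕ) : ℕ := mvR 1 A x

/-- the marks of twelve blocks -/
def ones12 : ℕ := 0x1001001001001001001001001001001001

/-- matrix times matrix -/
def mm (A B : ℕ) : ℕ := mvR ones12 A B

theorem and_one_eq (x : ℕ) : x &&& 1 = if x.testBit 0 then 1 else 0 := by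
  rw [Nat.and_one_is_mod, Nat.testBit_zero]
  rcases Nat.mod_two_eq_zero_or_one x with h | h <;> simp [h]

theorem mvN_one_succ (A x n : ℕ) :
    mvN 1 A x (n + 1) = (if x.testBit n then col A n else 0) ^^^ mvN 1 A x n := by
  rw [mvN_succ, and_one_eq, Nat.testBit_shiftRight, Nat.add_zero]
  split_ifs <;> simp

theorem mvN_lt (A x n : ℕ) : mvN 1 A x n < 4096 := by
  induction n with
  | zero => exact (by norm_num : (0 : ℕ) < 4096)
  | succ n ih =>
    rw [mvN_one_succ]
    refine xor_lt' ?_ ih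
    split_ifs
    exacts [col_lt _ _, by norm_num]

theorem mv_lt (A x : ℕ) : mv A x < 4096 := mvN_lt A x 12

theorem mvN_xor (A x y n : ℕ) : mvN 1 A (x ^^^ y) n = mvN 1 A x n ^^^ mvN 1 A y n := by
  induction n with
  | zero => exact (Nat.xor_self 0).symm
  | succ n ih =>
    rw [mvN_one_succ, mvN_one_succ, mvN_one_succ, ih, Nat.testBit_xor]
    cases x.testBit n <;> cases y.testBit n <;> simp
    · ac_rfl
    · ac_rfl
    · apply Nat.eq_of_testBit_eq
      intro i
      simp only [Nat.testBit_xor]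
      cases (col A n).testBit i <;> simp

theorem mv_xor (A x y : ℕ) : mv A (x ^^^ y) = mv A x ^^^ mv A y := mvN_xor A x y 12

theorem lin_mv (A : ℕ) : Lin (mv A) := fun x _ y _ => mv_xor A x y

theorem mv_zero (A : ℕ) : mv A 0 = 0 := (lin_mv A).zero

theorem mvN_two_pow (A i n : ℕ) : mvN 1 A (2 ^ i) n = if i < n then col A i else 0 := by
  induction n with
  | zero => rfl
  | succ n ih =>
    rw [mvN_one_succ, ih, Nat.testBit_two_pow]
    rcases lt_trichotomy i n with h | rfl | h
    · simp [h, h.ne, Nat.lt_succ_of_lt h]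
    · simp
    · simp [h.ne', not_lt.2 h.le, not_lt.2 (Nat.succ_le_of_lt h)]

theorem mv_two_pow (A : ℕ) {i : ℕ} (hi : i < 12) : mv A (2 ^ i) = col A i :=
  (mvN_two_pow A i 12).trans (if_pos hi)

theorem col_xor (x y c : ℕ) : col (x ^^^ y) c = col x c ^^^ col y c := by
  apply Nat.eq_of_testBit_eq
  intro i
  simp only [testBit_col, Nat.testBit_xor]
  cases decide (i < 12) <;> simp

theorem col_mvN (w A x : ℕ) {c : ℕ} (hc : c < w) {n : ℕ} (hn : n ≤ 12) :
    col (mvN (Comput.onesR 12 w) A x n) c = mvN 1 A (col x c) n := by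
  induction n with
  | zero => show col 0 c = 0; simp [col]
  | succ n ih =>
    rw [mvN_succ, mvN_one_succ, col_xor, ih (by omega)]
    congr 1
    apply Nat.eq_of_testBit_eq
    intro i
    rw [testBit_col]
    by_cases hi : i < 12
    · rw [mul_comm 12 c, Comput.testBit_sel_mul (col_lt A n) w _ c i hi, Nat.testBit_shiftRight, testBit_col x c n,
        add_comm n, mul_comm c 12]
      have hn' : n < 12 := by omega
      cases x.testBit (12 * c + n) <;> simp [hi, hc, hn']
    · have : (if (col x c).testBit n = true then col A n else 0) < 2 ^ 12 := by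
        split_ifs
        exacts [col_lt _ _, by norm_num]
      rw [Nat.testBit_lt_two_pow (lt_of_lt_of_le this (Nat.pow_le_pow_right (by norm_num) (by omega)))]
      simp [hi]

/-- `mvR` acts blockwise -/
theorem col_mvR (w A x : ℕ) {c : ℕ} (hc : c < w) : col (mvR (Comput.onesR 12 w) A x) c = mv A (col x c) :=
  col_mvN w A x hc le_rfl

theorem ones12_eq : ones12 = Comput.onesR 12 12 := by decide +kernel

theorem col_mm (A B : ℕ) {c : ℕ} (hc : c < 12) : col (mm A B) c = mv A (col B c) := by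
  rw [mm, ones12_eq, col_mvR _ _ _ hc]

theorem mv_mm (A B : ℕ) {x : ℕ} (hx : x < 4096) : mv (mm A B) x = mv A (mv B x) :=
  lin_ext (lin_mv _) ((lin_mv A).comp (lin_mv B) fun y _ => mv_lt B y)
    (fun i hi => by show _ = mv A (mv B (2 ^ i)); rw [mv_two_pow _ hi, mv_two_pow _ hi, col_mm _ _ hi]) x hx

/-- the identity matrix -/
def mI : ℕ := 0x800400200100080040020010008004002001

theorem mv_mI {x : ℕ} (hx : x < 4096) : mv mI x = x :=
  lin_ext (lin_mv _) lin_id (fun i hi => by rw [mv_two_pow _ hi]; revert i; decide +kernel) x hx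

/-- power of a matrix -/
noncomputable def mpow (A n : ℕ) : ℕ := Nat.rec mI (fun _ ih => frc ih (mm A)) n

theorem mpow_succ (A n : ℕ) : mpow A (n + 1) = mm A (mpow A n) := frc_eq _ _

/-! ### the hermitian structure -/

/-- multiplication by `ω` -/
def rho (x : ℕ) : ℕ :=
  Nat.lor (Nat.land (Nat.shiftRight x 3) 455)
    (Nat.shiftLeft (Nat.land (Nat.xor x (Nat.shiftRight x 3)) 455) 3)

/-- the matrix of `rho` -/
def mRho : ℕ := 0x900480240800400200024012009020010008

theorem rho_eq {x : ℕ} (hx : x < 4096) : rho x = mv mRho x :=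
  Nat.eq_of_beq_eq_true (of_allLT (f := fun x => Nat.beq (rho x) (mv mRho x)) (by decide +kernel) hx)

theorem lin_rho : Lin rho := fun x hx y hy => by
  rw [rho_eq hx, rho_eq hy, rho_eq (xor_lt' hx hy), mv_xor]

theorem rho_lt {x : ℕ} (hx : x < 4096) : rho x < 4096 := by rw [rho_eq hx]; exact mv_lt _ _

theorem rho_rho {x : ℕ} (hx : x < 4096) : rho (rho x) = x ^^^ rho x :=
  Nat.eq_of_beq_eq_true (of_allLT (f := fun x => Nat.beq (rho (rho x)) (Nat.xor x (rho x))) (by decide +kernel) hx)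

theorem rho_three {x : ℕ} (hx : x < 4096) : rho (rho (rho x)) = x :=
  Nat.eq_of_beq_eq_true (of_allLT (f := fun x => Nat.beq (rho (rho (rho x))) x) (by decide +kernel) hx)

theorem rho_zero : rho 0 = 0 := rfl

theorem rho_ne {x : ℕ} (hx : x < 4096) (h0 : x ≠ 0) : rho x ≠ x := fun h => by
  have h1 := rho_rho hx
  rw [h, h, Nat.xor_self] at h1
  exact h0 h1

/-- table of parities -/
def prTbl : ℕ := 0x6996966996696996966969966996966996696996699696696996966996696996966969966996966969969669966969966996966996696996966969966996966996696996699696696996966996696996699696699669699696696996699696696996966996696996966969966996966996696996699696696996966996696996966969966996966969969669966969966996966996696996966969966996966969969669966969969669699669969669966969966996966969969669966969966996966996696996966969966996966996696996699696696996966996696996966969966996966969969669966969966996966996696996966969966996966996696996699696696996966996696996699696699669699696696996699696696996966996696996966969966996966996696996699696696996966996696996699696699669699696696996699696699669699669969669699696699669699696696996699696696996966996696996699696699669699696696996699696696996966996696996966969966996966996696996699696696996966996696996966969966996966969969669966969966996966996696996966969966996966996696996699696696996966996696996699696699669699696696996699696696996966996696996966969966996966996696996699696696996966996696996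

/-- parity of a vector -/
def pr (x : ℕ) : ℕ := Nat.land (Nat.shiftRight prTbl x) 1

theorem pr_lt (x : ℕ) : pr x < 2 := by
  have : pr x = (prTbl >>> x) &&& 1 := rfl
  rw [this, Nat.and_one_is_mod]; exact Nat.mod_lt _ (by norm_num)

theorem pr_eq {x : ℕ} (hx : x < 4096) : pr x = mv ones12 x :=
  Nat.eq_of_beq_eq_true (of_allLT (f := fun x => Nat.beq (pr x) (mv ones12 x)) (by decide +kernel) hx)

theorem lin_pr : Lin pr := fun x hx y hy => by
  rw [pr_eq hx, pr_eq hy, pr_eq (xor_lt' hx hy), mv_xor]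

/-- the functional `beta (·) y` as a vector -/
def bm (y : ℕ) : ℕ :=
  Nat.lor (Nat.lor (Nat.land (Nat.shiftRight y 6) 7) (Nat.shiftLeft (Nat.land y 7) 6))
    (Nat.lor (Nat.land (Nat.xor (Nat.shiftRight y 3) (Nat.shiftRight y 6)) 56)
      (Nat.shiftLeft (Nat.land (Nat.xor y (Nat.shiftRight y 3)) 7) 9))

/-- the matrix of `bm` -/
def mBm : ℕ := 0x20010008024012009800400200900480240

theorem bm_eq {x : ℕ} (hx : x < 4096) : bm x = mv mBm x :=
  Nat.eq_of_beq_eq_true (of_allLT (f := fun x => Nat.beq (bm x) (mv mBm x)) (by decide +kernel) hx)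

/-- the cocycle of the extraspecial group -/
def beta (x y : ℕ) : ℕ := pr (Nat.land x (bm y))

/-- the quadratic form -/
def qf (x : ℕ) : ℕ := beta x x

/-- the polar form -/
def bf (x y : ℕ) : ℕ := Nat.xor (beta x y) (beta y x)

theorem beta_lt (x y : ℕ) : beta x y < 2 := pr_lt _

theorem qf_lt (x : ℕ) : qf x < 2 := pr_lt _

theorem bf_lt (x y : ℕ) : bf x y < 2 := xor_lt (n := 1) (beta_lt x y) (beta_lt y x)

theorem and_lt {x : ℕ} (hx : x < 4096) (y : ℕ) : x &&& y < 4096 := lt_of_le_of_lt Nat.and_le_left hx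

theorem lin_beta_left (y : ℕ) : Lin fun x => beta x y := fun a ha b hb => by
  show pr ((a ^^^ b) &&& bm y) = pr (a &&& bm y) ^^^ pr (b &&& bm y)
  rw [Nat.and_xor_distrib_right, lin_pr _ (and_lt ha _) _ (and_lt hb _)]

theorem lin_beta_right {x : ℕ} (hx : x < 4096) : Lin fun y => beta x y := fun a ha b hb => by
  show pr (x &&& bm (a ^^^ b)) = pr (x &&& bm a) ^^^ pr (x &&& bm b)
  rw [bm_eq ha, bm_eq hb, bm_eq (xor_lt' ha hb), mv_xor, Nat.and_xor_distrib_left,
    lin_pr _ (and_lt hx _) _ (and_lt hx _)]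

theorem beta_xor_left {a b : ℕ} (ha : a < 4096) (hb : b < 4096) (y : ℕ) :
    beta (a ^^^ b) y = beta a y ^^^ beta b y := lin_beta_left y a ha b hb

theorem beta_xor_right {x a b : ℕ} (hx : x < 4096) (ha : a < 4096) (hb : b < 4096) :
    beta x (a ^^^ b) = beta x a ^^^ beta x b := lin_beta_right hx a ha b hb

theorem beta_zero_left (y : ℕ) : beta 0 y = 0 := (lin_beta_left y).zero

theorem beta_zero_right {x : ℕ} (hx : x < 4096) : beta x 0 = 0 := (lin_beta_right hx).zero

theorem bf_comm (x y : ℕ) : bf x y = bf y x := Nat.xor_comm _ _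

theorem bf_self (x : ℕ) : bf x x = 0 := Nat.xor_self _

theorem lin_bf_left {y : ℕ} (hy : y < 4096) : Lin fun x => bf x y :=
  (lin_beta_left y).xor (lin_beta_right hy)

theorem lin_bf_right {x : ℕ} (hx : x < 4096) : Lin fun y => bf x y :=
  (lin_beta_right hx).xor (lin_beta_left x)

theorem qf_xor {x y : ℕ} (hx : x < 4096) (hy : y < 4096) : qf (x ^^^ y) = qf x ^^^ qf y ^^^ bf x y := by
  show beta (x ^^^ y) (x ^^^ y) = beta x x ^^^ beta y y ^^^ (beta x y ^^^ beta y x)
  rw [beta_xor_left hx hy, beta_xor_right hx hx hy, beta_xor_right hy hx hy]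
  ac_rfl

/-- two bi-additive functions agreeing on the basis agree -/
theorem bilin_ext {f g : ℕ → ℕ → ℕ} (f1 : ∀ y < 4096, Lin fun x => f x y) (f2 : ∀ x < 4096, Lin fun y => f x y)
    (g1 : ∀ y < 4096, Lin fun x => g x y) (g2 : ∀ x < 4096, Lin fun y => g x y)
    (h : ∀ i < 12, ∀ j < 12, f (2 ^ i) (2 ^ j) = g (2 ^ i) (2 ^ j)) : ∀ x < 4096, ∀ y < 4096, f x y = g x y :=
  fun x hx y hy => lin_ext (f1 y hy) (g1 y hy) (fun i hi =>
    have h1 : 2 ^ i < 4096 := Nat.pow_lt_pow_right (m := i) (n := 12) (by norm_num) hi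
    lin_ext (f2 _ h1) (g2 _ h1) (h i hi) y hy) x hx

theorem bf_rho_left {x y : ℕ} (hx : x < 4096) (hy : y < 4096) : bf (rho x) y = beta x y :=
  bilin_ext (f := fun x y => bf (rho x) y) (fun y hy => (lin_bf_left hy).comp lin_rho fun _ h => rho_lt h)
    (fun _ hx => lin_bf_right (rho_lt hx)) (fun y _ => lin_beta_left y) (fun _ hx => lin_beta_right hx)
    (by decide +kernel) x hx y hy

theorem beta_rho {x y : ℕ} (hx : x < 4096) (hy : y < 4096) : beta (rho x) (rho y) = beta x y :=
  bilin_ext (f := fun x y => beta (rho x) (rho y))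
    (fun y _ => (lin_beta_left (rho y)).comp lin_rho fun _ h => rho_lt h)
    (fun _ hx => (lin_beta_right (rho_lt hx)).comp lin_rho fun _ h => rho_lt h)
    (fun y _ => lin_beta_left y) (fun _ hx => lin_beta_right hx) (by decide +kernel) x hx y hy

/-- the polar form is non-degenerate -/
theorem exists_bf {x : ℕ} (hx : x < 4096) (h0 : x ≠ 0) : ∃ i < 12, bf x (2 ^ i) = 1 := by
  have h := of_allLT (n := 4096) (f := fun x => or (Nat.beq x 0)
    (anyL (List.range 12) fun i => Nat.beq (bf x (Nat.pow 2 i)) 1)) (by decide +kernel) hx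
  rw [Bool.or_eq_true, beq_iff', anyL_iff] at h
  obtain ⟨i, hi, h⟩ := h.resolve_left h0
  exact ⟨i, List.mem_range.1 hi, Nat.eq_of_beq_eq_true h⟩

/-! ### tables of the module -/

/-- table of the types -/
def tyTbl : ℕ := 0x7dd7ebbeebbe7dd7ebbe7dd77dd7ebbedbbeebbd7eebbee77eebbee7dbbeebbde7be7eebebbdbedb7eebe7bebedbebbdbdebbee7bedb7eebeb7edbbee7beebbdeb7e7eeb7eebeb7eebbdbdebbdebebbdbedbbee7e7bedbbebdeb7eebeb7eebbdbee7dbbebedbe7bebdebeb7e7eebebbdd77debbeebbed77debbed77dd77debbef66f6ff6affafaafaffafaaff99f9ff96ffa9ffafa9ffa6ff9aff6afaff6aff99ff6f69f6ff9f96ff96f6ff9f69f9ff6fa5ff5affaaffaafaffaaffa5ffaaff59ff6f96ff69f6ff96ff9f69ff96f9ff6f5affa5faffaaffafaaffaaf5ffaaff5f99f6ff6faafaffafaafaffaf66f9ff9aff9aff96ffa6ffa6ffa6ffaaff9aff9de7bbbee7bdeeebbbbeeedb7eebbb7edb7de7beddeb7ed7bed7bdeb77bedb7de7beeeeb7b7eeee7bedbbbbdedebbbbedee77eebbddbbeebbbbee77eebbeebbddb7dedeb7ed7b7bed7beded7bdeb7b7deedb7eebb7bdebbeeeebbde7bbbeeb7edddbbbbeeee77bbeeeebb77eeeebbbbddbbed7beebbed7bee7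beebbed7beebbeda9ffff9affa66affff6aa6ff9affffa9ffa6ffa69aff9aff6aff6affffa9ffa9ff9aa6ffff9aa6ff6affffa96affffa955ff55ff55ff55ffffaaffaaffaaffaaff6aa9ffa9ffff6affa96aff6affffa99aff6affff6aff9aa9ffa6ffffa6ffa9a6ffff6a6affffa6a9ffff9a9affffa9ff55ff55ff55ff55ffaaffaaffaaffaad7ebbebebebeebd77dbeebebebebbe7dbd7e7ebde7dbdbe7dbe7e7db7ebdbd7ebd7edbe77ebde7dbe7db7ebddbe7bd7eebd7ebebebebd7eb7dbebebebebebe7d7ebeebe7ebdbbdbebe7ee7ebdbebbebde7e7ebebbebe7e7edbdbebebbebebdbddbdbbebeebeb7e7ee7e7bebeebebbdbdbebd7ebe7ebebebdbebd7ebe7ebebebdaf9ff9faf6faaf6ffaf66faf9faffaf9faf6faf66faf6faf9faf9faffaf9faf9f6faaf9ffaf96fafaf9ff6fa6faffaf99faf6fafaf9faf6ff6faf9fafaf6faf9f9faaf6f6faffaf9f9faaf6f6faffaf95f5f5f5ffafafafa5f5f5f5ffafafafaaf6ff6faaf9ff9fa6faffaf69faffaf9f5f5f5f5fafafafaf5f5f5f5fafafafabbb7deeeedeebb7beedeb7bb7bbbeeeddeeeeeedbbb77bbbbbb77bbbdeeeeeedeede7bbbeede7bbbb7bbeeedb7bbeeedb7bbbbb77bbbbb7bdeeeeedeedeeeeededee7bbbbb7beeededee7bbbbb7beeedbb7bbbb7deeeedee7bbbb7bbeedeeeed7777eeee7777eeee7777eeee7777eeeeddddeeeeddddeeeeddddeeeeddddeeeeffff69966996ffff6996ffffffff6996a55aaaaaffffffffffffffffaaaa5aa59966ffffaaaaffffffffaaaaffff6699ffffffffffffffff55aa55aa55aa55aa9696ffffffffaaaaaaaaffffffff6969ffffffff5a5a5a5affffffff5a5a5a5affff6666ffff6666ffff6666ffff66666aa995599565959596559955a5555554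

/-- type of a vector: 0 for zero, 1 for the orbit of length 693, 2 for the orbit of length 1386,
3 for the non-singular vectors -/
def ty (x : ℕ) : ℕ := Nat.land (Nat.shiftRight tyTbl (Nat.mul 2 x)) 3

/-- table of the vectors of the duads -/
def dvTbl : ℕ := 0x475ead6ff7256595afdfdc46d9cb63d5be0ba7eab9350ce022c414f16833988000000475000fa14f3a106db32f87dea68fb9fcad3e20d0f9b9e6575a26d086c08838f62000000eadfa1000a4251d8a22958d768485cf5fac9fd46f1b4ec38bb021e411dca10ced80000006ff4f3a42000f0d69a3d5cbd58817bc1f784e1354f84ef68b9b20c0a272611ee76000000725a1051df0d000db686f96a5d92bb6a3ad41c1df1c7759ecf404749b0c492d55a0000006596db8a269adb6000beff7da6971c8e379ee38c7138e51475d208082a288208610000005af32f2953d586fbef000a006d5500e407951ef6807c0eefcd523a4baaaf83ac2f000000dfd87d8d7cbd96af7da000001bdf80d00d57fd77006406bdbbd22a0aae97117617000000c46ea66845885d9a696d51bd000dfbcbcac2fe12b1ef77c376821a0abb2e822b7f000000d9c8fb85c17b2bb71c500f80dfb000600d5cfe7f40940e9cce706741c2dc11c89c00000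0b639fcf5fc1f6a38e3e40d00cbc600000adfe23b00bc0a7c77c25f0a329f93cf9f000000d5bad3ac9784ad479e795d57ac2d5cadf00002e78fd79af6007034025aec01a7ad000000e0be20fd4e131c1e381effd7fe1fe7e2302e0001f1ff9fe202b006005e10018e25000000a7ed0f6f154fdf1c716807002b1f40b0078f1f1000c0017ecfe23e08f53e831f31000000ab99b9b4e84ec7738e7c0640ef7940bc0d79ff9c000006cecf92794b78b79376b9000000350e65c38f6859e514eef6bd7c3e9ca7caf6fe217e6ce000b8825d493c4b92c4e0000000ce075abb0b9bcf475dcd5bbd768ce777c00702bcfecf9b8800002600dccc00ab8200000022c26d21e20c04720823a22a21a06725f03400623e27925d02600000404300220a0000004140864110a249b0824ba0aa0ab41c0a302500508f4b749300d0040000870010ae000000f16c08dca7260c4a28aafe97b2e2dc29faece1053e8b7c4bccc043087000936a6b00000083383810c11e92d82083a11782211c93c01a01883193792c00a002001936000832000000988f62ed8e7655a861c2f617b7f89cf9f7ade25f316b94e0b8220a0aea6b832000000000000000000000000000000000000000000000000000000000000000000000000000000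

/-- a vector on the point attached to the duad `{x, y}` (`1 ≤ x, y ≤ 22`, `x ≠ y`) -/
def dv (x y : ℕ) : ℕ := col dvTbl (Nat.add (Nat.mul 24 x) y)

theorem dv_lt (x y : ℕ) : dv x y < 4096 := col_lt _ _

/-- `a` is a non-zero scalar multiple of `b` -/
def sp (a b : ℕ) : Bool := or (Nat.beq a b) (or (Nat.beq a (rho b)) (Nat.beq a (rho (rho b))))

theorem sp_iff {a b : ℕ} : sp a b = true ↔ a = b ∨ a = rho b ∨ a = rho (rho b) := by
  simp only [sp, Bool.or_eq_true, beq_iff']

theorem ty_check : allLT 4096 (fun x => and (eqB (Nat.beq (ty x) 0) (Nat.beq x 0))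
    (and (eqB (Nat.beq (ty x) 3) (Nat.beq (qf x) 1)) (Nat.beq (ty (rho x)) (ty x)))) = true := by decide +kernel

theorem ty_eq_zero {x : ℕ} (hx : x < 4096) : ty x = 0 ↔ x = 0 := by
  have h := of_allLT ty_check hx
  simp only [Bool.and_eq_true, eqB_iff, beq_iff'] at h
  exact h.1

theorem ty_eq_three {x : ℕ} (hx : x < 4096) : ty x = 3 ↔ qf x = 1 := by
  have h := of_allLT ty_check hx
  simp only [Bool.and_eq_true, eqB_iff, beq_iff'] at h
  exact h.2.1

theorem ty_rho {x : ℕ} (hx : x < 4096) : ty (rho x) = ty x := by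
  have h := of_allLT ty_check hx
  simp only [Bool.and_eq_true, eqB_iff, beq_iff'] at h
  exact h.2.2

theorem ty_lt (x : ℕ) : ty x < 4 := by
  have : ty x = (tyTbl >>> (2 * x)) &&& (2 ^ 2 - 1) := rfl
  rw [this, Nat.and_two_pow_sub_one_eq_mod]; exact Nat.mod_lt _ (by norm_num)

/-- element of order 11 of `M22` -/
def qu : ℕ := 0xbd6717b56939461b52507314831040
/-- element of order 5 of `M22` normalising `qu` -/
def q5 : ℕ := 0xbba8ab116d7c52899d90286a219a40
/-- element of order 4 of `M22` normalising `q5` -/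
def qr : ℕ := 0xbb90d98ad51ad548b0a78192179240
/-- involution interchanging the points 0 and 23 -/
def qj : ℕ := 0x5883388a1c8f5140b46cd317aed7
/-- matrix of `qu` -/
def mU : ℕ := 0x1deacb0a0ff579a4841f700508eff902d4b7
/-- matrix of `q5` -/
def m5 : ℕ := 0x800b80780100cc0d40838b91019107ccb00a
/-- matrix of `qr` -/
def mR : ℕ := 0x3ea1b7e63f97db939f7fe4be41df314310ae
/-- matrix of `qj` -/
def mJ : ℕ := 0x3ea39fdfac7de633af3cf78fd75c71af179e

theorem isM_qu : isM qu = true := by decide +kernel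
theorem isM_q5 : isM q5 = true := by decide +kernel
theorem isM_qr : isM qr = true := by decide +kernel
theorem isM_qj : isM qj = true := by decide +kernel

end CfsgLib.J4T
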