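import Mathlib
import Cfsg.Agent.Lib.J4T.Bits
import Cfsg.Agent.Lib.LargeExtra.Setting

/-!
# Groups of Janko-four type: the coordinate structures

* `HM z`: coordinates on `H = C(z) = E K2`, `E = 2^(1+12) = {s v * z ^ a}`, `K2 = N_H(⟨ρ⟩) = 6.M22.2`,
  `θ : H → M22.2 ≤ M24`, `α h` the action of `h` on `E / ⟨z⟩`.
* `HM2 z`: fusion in `E`, squares of the lifts of involutions, the lifts `l x` of the hexad group `2^4`.
* `MM z`: coordinates on `M = N(V) = V : M24`, `V` the even cocode module.
* `MM.Full`: the centraliser of the second class, classes of involutions, weak closure of `V`.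
* `JM z`: both, with the dictionary between them.
-/

set_option autoImplicit false

namespace CfsgLib.J4T

open Cfsg CfsgLib.Golay CfsgLib.M24E CfsgLib.ExtraTwo CfsgLib.LargeExtra Subgroup
open scoped Pointwise

/-- the stabiliser in `M24` of the duad `{0, 23}`; it is `M22.2` -/
def DD : Subgroup P24 := M24 ⊓ MulAction.stabilizer P24 (ofMask 8388609)

/-- coordinates on the centraliser of `z` -/
structure HM {G : Type*} [Group G] (z : G) where
  /-- the extraspecial group -/
  E : Subgroup G
  /-- the normaliser of `⟨ρ⟩` in `C(z)` -/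
  K2 : Subgroup G
  /-- the element of order 3 -/
  ρ : G
  /-- the section `E / ⟨z⟩ → E` -/
  s : ℕ → G
  /-- the map `C(z) → M22.2` -/
  θ : G → P24
  /-- the action of `C(z)` on `E / ⟨z⟩` -/
  α : G → ℕ → ℕ
  pre : Pre E z
  mem_E : ∀ x, x ∈ E ↔ ∃ v < 4096, x = s v ∨ x = s v * z
  s_zero : s 0 = 1
  s_mul : ∀ v < 4096, ∀ w < 4096, s v * s w = s (v ^^^ w) * z ^ beta v w
  s_ne : ∀ v < 4096, v ≠ 0 → s v ≠ 1 ∧ s v ≠ z
  rho_ne : ρ ≠ 1
  rho_three : ρ ^ 3 = 1
  rho_z : ρ * z = z * ρ
  mem_K2 : ∀ k, k ∈ K2 ↔ k * z = z * k ∧ (k * ρ * k⁻¹ = ρ ∨ k * ρ * k⁻¹ = ρ⁻¹)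
  decomp : ∀ h, h * z = z * h → ∃ v < 4096, ∃ k ∈ K2, h = s v * k
  θ_mul : ∀ x y, x * z = z * x → y * z = z * y → θ (x * y) = θ x * θ y
  θ_mem : ∀ x, x * z = z * x → θ x ∈ DD
  θ_surj : ∀ p ∈ DD, ∃ k ∈ K2, θ k = p
  θ_E : ∀ x ∈ E, θ x = 1
  θ_rho : θ ρ = 1
  θ_ker : ∀ k ∈ K2, θ k = 1 → ∃ a i : ℕ, k = z ^ a * ρ ^ i
  inner_iff : ∀ k ∈ K2, (k * ρ = ρ * k ↔ θ k (pt 0) = pt 0)
  α_lt : ∀ h v, α h v < 4096
  α_H : ∀ h, h * z = z * h → ∀ v < 4096, h * s v * h⁻¹ = s (α h v) ∨ h * s v * h⁻¹ = s (α h v) * z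
  α_in : ∀ k ∈ K2, θ k (pt 0) = pt 0 → ∀ v < 4096, k * s v * k⁻¹ = s (α k v)
  α_out : ∀ k ∈ K2, θ k (pt 0) ≠ pt 0 → ∀ v < 4096, k * s v * k⁻¹ = s (α k v) * z ^ qf v
  α_rho : ∀ v < 4096, α ρ v = rho v
  α_ty : ∀ k ∈ K2, ∀ v < 4096, ty (α k v) = ty v
  geo : ∀ k ∈ K2, ∀ φ, Rp φ (θ k) → ∀ x y, 0 < x → x < 23 → 0 < y → y < 23 → x ≠ y →
    sp (α k (dv x y)) (dv (φ x) (φ y)) = true

/-- the standard octad through the points 0 and 23: `{0,2,4,5,6,10,11,23}`; its plane is `{v | v < 64}` -/
def o0 : ℕ := 8391797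

/-- an octad meeting `o0` in `{0, 23}`: `{0,8,9,12,13,15,16,23}`; its plane is `{64 * v | v < 64}` -/
def o1 : ℕ := 8499969

/-- table of the pointwise stabiliser of `o0` -/
def uTbl : ℕ := 0xbb4676464173ed35a909a18a4a8a00bce29b0eae0c18d5aa87418a4909e0b9ded44032a8e895a993b18a470a20ba613a3dd5945075aacd618a408860b85127d0ed9b20e5a875898a448ac0bba95821336d9e15aa32198a438980bc9811d9a74a2355a9ee818a498a80bd6ce8b2693d0725aa01798a468900b8daf94d88a1eb15a830718a4b0920bc670ab6d4426435a9cf098a4608e0bbce30a50cb35d05aa51a98a4a0a60bc13171e9664c2f5aaa3918a4409a0ba02c3b9e38c9345a9b6998a480aa0bd1d6486111d4e85aa6c698a478a40bb2486d46f806765a8f4498a4889c0bdab49ca307b9ac5a928398a418820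

/-- element number `x < 16` of the pointwise stabiliser of `o0` (additive in `x`) -/
def uE (x : ℕ) : ℕ := Nat.land (Nat.shiftRight uTbl (Nat.mul 120 x)) 0xffffffffffffffffffffffffffffff

/-- table of the matrices of the `uE x` -/
def uMTbl : ℕ := 0x80840823010108104602001000800400200181842022010308404402001000800400200181240d2021100ac0520200100080040020018024252121120a905002001000800400200180140922610908807202001000800400200181142123610b08d07002001000800400200181b40c2141180a506602001000800400200180b42420411a0a006402001000800400200180342c23411b0a10620200100080040020018134042241190a406002001000800400200181942920610a08c07602001000800400200180940121610808907402001000800400200180a42d2221130a805602001000800400200181a4052321110ad054020010008004002001810428210102085042020010008004002001800400200100080040020010008004002001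

/-- the matrix of order at most 2 of `uE x` -/
def uM (x : ℕ) : ℕ := Nat.land (Nat.shiftRight uMTbl (Nat.mul 144 x)) 0xffffffffffffffffffffffffffffffffffff

/-- the invariant symplectic form on the group of the `uE x` -/
def fU (x y : ℕ) : ℕ :=
  Nat.land (Nat.shiftRight 0x33cc3c3cc33ccccc55aa5a5aa55aaaaa9966969669966666ff00f0f00ff00000 (Nat.add (Nat.mul 16 x) y)) 1

/-- coordinates on the centraliser of `z`, with fusion information -/
structure HM2 {G : Type*} [Group G] (z : G) extends HM z where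
  /-- the lifts of the `uE x` that are conjugate to `z` -/
  l : ℕ → G
  conj_E : ∀ v < 4096, v ≠ 0 → (IsConj z (s v) ↔ ty v = 1)
  sq : ∀ k ∈ K2, k * k ≠ z
  one_of : ∀ k ∈ K2, θ k (pt 0) = pt 0 → θ k ≠ 1 → k * k = 1 → (IsConj z k ↔ ¬ IsConj z (k * z))
  l_zero : l 0 = 1
  l_mem : ∀ x < 16, l x ∈ K2
  l_θ : ∀ x < 16, Rp (ap (uE x)) (θ (l x))
  l_α : ∀ x < 16, ∀ v < 4096, α (l x) v = mv (uM x) v
  l_conj : ∀ x < 16, x ≠ 0 → IsConj z (l x)
  l_mul : ∀ x < 16, ∀ y < 16, l x * l y = l (x ^^^ y) * z ^ fU x y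

/-- coordinates on the normaliser of `V = 2^11` -/
structure MM {G : Type*} [Group G] (z : G) where
  /-- the elementary abelian group of order `2 ^ 11` -/
  V : Subgroup G
  /-- the element of `V` given by an even set of points -/
  c : Finset GolayPt → G
  /-- a complement -/
  κ : M24 →* G
  c_mul : ∀ a b, Even a.card → Even b.card → c (symmDiff a b) = c a * c b
  c_eq_one : ∀ a, Even a.card → (c a = 1 ↔ a ∈ codeSets)
  mem_V : ∀ x, x ∈ V ↔ ∃ a, Even a.card ∧ x = c a
  conj : ∀ (g : M24) a, Even a.card → κ g * c a * (κ g)⁻¹ = c ((g : P24) • a)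
  mem_M : ∀ x, x ∈ normalizer (V : Set G) ↔ ∃ a, Even a.card ∧ ∃ g : M24, x = c a * κ g
  z_eq : z = c (ofMask 15)

/-- `a` lies in the commutator space `[V, g]` -/
def InComm (g : P24) (a : Finset GolayPt) : Prop :=
  ∃ b : Finset GolayPt, Even b.card ∧ symmDiff a (symmDiff b (g • b)) ∈ codeSets

/-- the global facts about `V` and the two classes of involutions -/
structure MM.Full {G : Type*} [Group G] {z : G} (m : MM z) : Prop where
  nconj : ∀ d : Finset GolayPt, d.card = 2 → ¬ IsConj z (m.c d)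
  cent_duad : ∀ d : Finset GolayPt, d.card = 2 → centralizer {m.c d} ≤ normalizer (m.V : Set G)
  two : ∀ x : G, x ≠ 1 → x * x = 1 → IsConj z x ∨ IsConj (m.c (ofMask 3)) x
  cls : ∀ (g : M24) (a : Finset GolayPt), Even a.card → g ≠ 1 → m.c a * m.κ g * (m.c a * m.κ g) = 1 →
    (IsConj z (m.c a * m.κ g) ↔ (fixS g ≠ ∅ ↔ InComm g a))
  uniq : ∀ W : Subgroup G, IsElementaryAbelian 2 W → Nat.card W = 2 ^ 11 →
    ∃ g : G, W = m.V.map (MulAut.conj g).toMonoidHom
  wc : ∀ g : G, m.V.map (MulAut.conj g).toMonoidHom ≤ normalizer (m.V : Set G) → g ∈ normalizer (m.V : Set G)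
  card_H : Nat.card (centralizer ({z} : Set G)) = 21799895040

/-- table of the sets representing `s w`, `w < 64` -/
def smTbl : ℕ := 0x202005001080102000008100400800000003804000042009024000010105000483820003400209400045001400080109000006400805300003804005001085202000008105102005400040000843018003001405010100024005004029001019018000000099400043000840820005000485010103800029300000020029000005000249090009240009000419202003000480820000024003088009001403018005000845000a09102003008103140009001083804003300005400803000000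

/-- mask of a set with at most four points representing `s w`, `w < 64` -/
def sm (w : ℕ) : ℕ := fld smTbl w

/-- table of the sets representing `l x` -/
def lmTbl : ℕ := 0x2901803001604001208081000207004501808041000017000027411001080007020881130001100441040007000000

/-- mask of a set with at most four points representing `l x`, `x < 16` -/
def lm (x : ℕ) : ℕ := fld lmTbl x

/-- both coordinate systems with the dictionary -/
structure JM {G : Type*} [Group G] (z : G) extends HM2 z, MM z where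
  link_s : ∀ w < 64, s w = c (ofMask (sm w))
  link_l : ∀ x < 16, l x = c (ofMask (lm x))

end CfsgLib.J4T
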