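import Mathlib
import Cfsg.Agent.Lib.J4T.Defs

/-!
# Groups of Janko-four type: interfaces between the work packages

* `Base z`: the hypothesis on `C(z)` from which the coordinates `HM z` are built.
* `rE`, `rM`: the group `2^5 = O_2` of the stabiliser in `DD` of the duad `{2, 4}` and its matrices.
* `HM.Rk k p A`: `k ∈ K2` has permutation `p` and matrix `A`; `chkL p A` certifies that `A` lies over `p`.
* `HM2.VV`: the elementary abelian group of order `2 ^ 11`; `HM2.WC`: its uniqueness and weak closure.
* `JM.Good`: everything that the local analysis of the other primes may use.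
* `Loc G`: centralisers of elements of order 3, 5, 7.
-/

set_option autoImplicit false

namespace CfsgLib.J4T

open Cfsg CfsgLib.Golay CfsgLib.M24E CfsgLib.ExtraTwo CfsgLib.LargeExtra Subgroup
open scoped Pointwise

/-- the hypothesis on the centraliser of `z` -/
structure Base {G : Type*} [Group G] (z : G) where
  /-- the extraspecial group -/
  E : Subgroup G
  /-- the element of order 3 -/
  ρ : G
  /-- the map `C(z) → M22.2` -/
  θ : G → P24
  pre : Pre E z
  card_E : Nat.card E = 8192
  rho_ne : ρ ≠ 1
  rho_three : ρ ^ 3 = 1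
  rho_z : ρ * z = z * ρ
  θ_mul : ∀ x y, x * z = z * x → y * z = z * y → θ (x * y) = θ x * θ y
  θ_mem : ∀ x, x * z = z * x → θ x ∈ DD
  θ_surj : ∀ p ∈ DD, ∃ x, x * z = z * x ∧ θ x = p
  θ_ker : ∀ x, x * z = z * x → (θ x = 1 ↔ ∃ e ∈ E, ∃ i : ℕ, x = e * ρ ^ i)
  fpf : ∀ e ∈ E, e * ρ = ρ * e → e = 1 ∨ e = z

/-- table of `O_2` of the stabiliser of the duad `{2, 4}` in `DD` -/
def rTbl : ℕ := 0x351199e817bacc5a875918a2492170047474a2d64e0f5a909398a2a92d7042a77c6569b02e5a928a18a2191b705932650f073db35aaa3898a241037034727d0e19b2ce299098a962a9217005076464d73e1329875a2962492d7041349ca367b82c29aa33a962411b705ab171e9064daf299289296219037036b464a2173ed3315283ad42192170053179e8d9b20e316a392d42412d704112750f664c2f314758ad42491b7058679c6507b9ac31509a2d42a9037035277464164ecf52ea3a14c241217006b29d0ed7ba0c52d28894c2192d70407161e9673c3352d09914c2a91b7059147ca309b1ae52c75394c249037bb6b179e819b2ce52d28914c418a00b853464a2d73e1352ea3394c440ac0bc1079c6567b82c52c75a14c4489a0bd872750f064daf52d09894c4a8820bb5329d0e17bacc316a38ad4440a00b86a77464d64e0f31528a2d4418ac0bc0747ca369b02e315093ad44a89a0bd91161e9073db33147592d4448820bb51474a2164ecf298753a96448a00b847199e8d7ba0c2990992964a8ac0bc2b2650f673c33299288a964189a0bd9277c6509b1ae29aa3a296440820bb4676464173ed35a909a18a4a8a00b85127d0ed9b20e5a875898a448ac0bc13171e9664c2f5aaa3918a4409a0bdab49ca307b9ac5a928398a418820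

/-- element number `x < 32` of `O_2` of the stabiliser of `{2, 4}` in `DD` (additive in `x`; it fixes the point 0
iff `x < 16`; `rE 1 = uE 4`; `rE 16` has eight fixed points, `rE 17` has none) -/
def rE (x : ℕ) : ℕ := Nat.land (Nat.shiftRight rTbl (Nat.mul 120 x)) 0xffffffffffffffffffffffffffffff

/-- table of the matrices of the `rE x` -/
def rMTbl : ℕ := 0x488901262089108074012024009002004001480900240080100040012024009002004001489909276081101046012024009002004001481908254088109072012024009002004001489909aff081101d4701a02500900b00c001481908add088109d7301a02500900b00c001488901ae2089108d7401a02500900b00c001480900ac0080100d4001a02500900b00c001489909ff60811011c601b02d009003005001481908fdd0881091f301b02d009003005001488901feb0891081f501b02d009003005001480900fc00801001c001b02d00900300500148890176b089108cf501302c00900a00d001480900740080100cc001302c00900a00d00148990977f081101cc701302c00900a00d001481908754088109cf201302c00900a00d001808408bb8101081cc702101900800d00a001801409ba6109088cf202101900800d00a001809401b9e108089cf502101900800d00a001800400b80100080cc002101900800d00a001809401e1e1080891f5028018008005003001800400e001000801c0028018008005003001808408e301010811c6028018008005003001801409e2e1090881f3028018008005003001809401796108089d7402901100800c00b001800400780100080d4002901100800c00b0018084087b8101081d4702901100800c00b0018014097ae109088d7302901100800c00b001808408230101081046020010008004002001801409226109088072020010008004002001809401216108089074020010008004002001800400200100080040020010008004002001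

/-- the matrix over `rE x` that fixes the vector `1 = dv 2 4` -/
def rM (x : ℕ) : ℕ := Nat.land (Nat.shiftRight rMTbl (Nat.mul 144 x)) 0xffffffffffffffffffffffffffffffffffff

/-- `k ∈ K2` has the permutation `p` and the matrix `A` -/
def HM.Rk {G : Type*} [Group G] {z : G} (h : HM z) (k : G) (p A : ℕ) : Prop :=
  k ∈ h.K2 ∧ Rp (ap p) (h.θ k) ∧ ∀ v < 4096, h.α k v = mv A v

/-- `A` maps the point of the duad `{x, y}` to the point of its image -/
noncomputable def chkD (p A x y : ℕ) : Bool := sp (mv A (dv x y)) (dv (ap p x) (ap p y))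

/-- one step of the frame argument -/
noncomputable def chkS (A a b : ℕ) : Bool :=
  frc (mv A a) fun a' => frc (mv A b) fun b' => frc (Nat.xor a' b') fun c' =>
    and (not (sp (Nat.xor a' (rho b')) c')) (not (sp (Nat.xor a' (rho (rho b'))) c'))

/-- certificate: `p ∈ DD` and `A` is one of the three matrices over `p` -/
noncomputable def chkL (p A : ℕ) : Bool :=
  and (and (isM p) (setTo (ap p) 8388609 8388609))
    (and (Bool.rec (Nat.beq (mm A mRho) (mm mRho (mm mRho A))) (Nat.beq (mm A mRho) (mm mRho A))
        (Nat.beq (ap p 0) 0))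
      (and (allL [(2, 4), (2, 5), (2, 6), (4, 5), (4, 10), (3, 5), (5, 18), (4, 17), (4, 21), (2, 20), (2, 13)]
          fun d => chkD p A d.1 d.2)
        (allL [(8, 2), (1, 4), (4, 67), (4, 130), (16, 268)] fun d => chkS A d.1 d.2)))

/-- the elementary abelian group of order `2 ^ 11` -/
def HM2.VV {G : Type*} [Group G] {z : G} (h : HM2 z) : Subgroup G :=
  closure {x | ∃ w < 64, ∃ y < 16, ∃ a < 2, x = h.s w * h.l y * z ^ a}

/-- uniqueness and weak closure of `VV` -/
structure HM2.WC {G : Type*} [Group G] {z : G} (h : HM2 z) : Prop where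
  elem : IsElementaryAbelian 2 h.VV
  card : Nat.card h.VV = 2 ^ 11
  cent : centralizer (h.VV : Set G) ≤ h.VV
  norm_H : ∀ x, x * z = z * x → (x ∈ normalizer (h.VV : Set G) ↔ h.θ x • ofMask o0 = ofMask o0)
  uniq_H : ∀ W : Subgroup G, W ≤ centralizer ({z} : Set G) → IsElementaryAbelian 2 W → 2 ^ 11 ≤ Nat.card W →
    ∃ g : G, g * z = z * g ∧ W = h.VV.map (MulAut.conj g).toMonoidHom
  uniq : ∀ W : Subgroup G, IsElementaryAbelian 2 W → 2 ^ 11 ≤ Nat.card W →
    ∃ g : G, W = h.VV.map (MulAut.conj g).toMonoidHom
  two_group : ∀ (P : Subgroup G) (g : G), IsPGroup 2 P → h.VV ≤ P → h.VV.map (MulAut.conj g).toMonoidHom ≤ P →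
    g ∈ normalizer (h.VV : Set G)
  wc : ∀ g : G, h.VV.map (MulAut.conj g).toMonoidHom ≤ normalizer (h.VV : Set G) → g ∈ normalizer (h.VV : Set G)

/-- all 2-local information -/
structure JM.Good {G : Type*} [Group G] {z : G} (j : JM z) : Prop where
  full : j.toMM.Full
  wc : j.toHM2.WC
  V_eq : j.V = j.toHM2.VV
  two_M : ∀ x ∈ normalizer (j.V : Set G), x ≠ 1 → x * x = 1 →
    ∃ g ∈ normalizer (j.V : Set G) ⊔ centralizer ({z} : Set G), g * x * g⁻¹ = z ∨ g * x * g⁻¹ = j.c (ofMask 3)

/-- centralisers of the elements of order 3, 5, 7 -/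
structure Loc {G : Type*} [Group G] {z : G} (j : JM z) : Prop where
  conj3 : ∀ x : G, orderOf x = 3 → IsConj j.ρ x
  cent3 : ∀ x : G, x * j.ρ = j.ρ * x → x * z = z * x
  cent5 : ∀ x : G, orderOf x = 5 → Nat.card (centralizer ({x} : Set G)) = 6720
  cent7 : ∀ x : G, orderOf x = 7 → Nat.card (centralizer ({x} : Set G)) = 840
  sl5 : ∃ B : Subgroup G, Nonempty (B ≃* Matrix.SpecialLinearGroup (Fin 5) (ZMod 2))

end CfsgLib.J4T
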