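import Mathlib
import Cfsg.Agent.Lib.J4T.WC
import Cfsg.Agent.Lib.ZStar.Main

/-! # Groups of Janko-four type: `z` is not weakly closed in `E` -/

set_option autoImplicit false

namespace CfsgLib.J4T

open Cfsg CfsgLib.Golay CfsgLib.M24E CfsgLib.ExtraTwo CfsgLib.LargeExtra Subgroup

namespace NW

/-! ### tables -/

/-- counting with an accumulator -/
noncomputable def cnt2 (n : ℕ) (f : ℕ → Bool) : ℕ → ℕ :=
  Nat.rec (fun a => a) (fun k ih a => frc (Bool.rec a (Nat.succ a) (f k)) ih) n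

theorem cnt2_eq (n : ℕ) (f : ℕ → Bool) (a : ℕ) : cnt2 n f a = cntLT n f + a := by
  induction n generalizing a with
  | zero => exact (Nat.zero_add a).symm
  | succ n ih =>
    rw [show cnt2 (n + 1) f a = cnt2 n f (Bool.rec a (Nat.succ a) (f n)) from frc_eq _ _, ih, cntLT_succ]
    cases f n
    exacts [rfl, (Nat.add_right_comm _ 1 a).symm]

/-- `q` describes the image of `1 + A`, which has at most `n` elements; `S` is a section -/
noncomputable def chkW (A S n : ℕ) (q : ℕ → Bool) : Bool :=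
  and (Nat.ble (cnt2 4096 q 0) n) (allLT 4096 fun v => and (frc (Nat.xor (mv A v) v) q)
    (or (not (q v)) (frc (mv S v) fun e => Nat.beq (Nat.xor (mv A e) e) v)))

theorem chkW_spec {A S n : ℕ} {q : ℕ → Bool} (h : chkW A S n q = true) :
    (∃ T : Finset ℕ, T.card ≤ n ∧ ∀ v < 4096, mv A v ^^^ v ∈ T) ∧
      ∀ w < 4096, q w = true → ∃ v < 4096, mv A v ^^^ v = w := by
  simp only [chkW, Bool.and_eq_true, allLT_iff, frc_eq, Nat.ble_eq, cnt2_eq, Nat.add_zero, cntLT_eq_card, Bool.or_eq_true,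
    Bool.not_eq_true', beq_iff'] at h
  refine ⟨⟨_, h.1, fun v hv => Finset.mem_filter.2 ⟨Finset.mem_range.2 (xor_lt' (mv_lt _ _) hv),
    (h.2 v hv).1⟩⟩, fun w hw hq => ⟨_, mv_lt S w, (h.2 w hw).2.resolve_left (by rw [hq]; decide)⟩⟩

/-- a basis of the fixed space of `rM 1` -/
def fixB : List ℕ := [1, 2, 4, 8, 16, 32, 1408, 2176]

theorem in_check : chkW (rM 1) 0x240200100000000180 16 (fun w => allL fixB fun f => Nat.beq (bf f w) 0) = true := by
  decide +kernel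

theorem fixB_spec : ∀ f ∈ fixB, f < 4096 ∧ mv (rM 1) f = f := by decide +kernel

/-- scalar multiples of a matrix -/
noncomputable def sc (i A : ℕ) : ℕ := Nat.rec A (fun _ B => mm mRho B) i

/-- table of sections -/
def secT : ℕ := 0x811011470000000000030040010000000000811010c70000000000020050010000000002d62900000860000000140000040000000060811001440000000000030040010000000000801010c20000000000020050010000000002d6282000082000000014000004000000006

theorem out_check : (allLT 2 fun j => allLT 3 fun i => frc (sc i (rM (Nat.add 16 j))) fun B =>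
    frc (Nat.shiftRight secT (Nat.mul 144 (Nat.add (Nat.mul 3 j) i))) fun S =>
      chkW B S 64 fun w => Nat.beq (mv B w) w) = true := by decide +kernel

/-- table of witnesses -/
def wyT : ℕ := 0x211102111021110211102111021110211102111021110211102111021110211102111021110211102111021110211102111021110211102111021110211102111021110211102111021110211102111021110211102111021110211102111021110211102111021110211102111021110211102111021110

/-- table of witnesses -/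
def wwT : ℕ := 0x204b859812040002427435012420000501d8188050000200b809802000002407405002400000401c0180040000206b879812060002467475012460000421c2180042000202b829802020002447445002440000521da188052000307a869813070002c77c65012c70004425c2442180000303a839803030002c57c55002c50004525d4452186000304a859813040002c27c35012c20004505d6450186000300a809803000002c07c05002c00004405c0440180000386a079813860003c66c75013c60000c21801420c2000383a039803830003c56c55003c50000d218815a0d2000385a049813850003c36c25013c30000d01881580d0000380a009803800003c06c05003c00000c01801400c0000285b049812850003436425013430004d05564d0186000280b009802800003406405003400004c05404c0180000287b069812870003476465013470004c25424c2180000282b029802820003446445003440004d25544d2186000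

/-- the index of an element of the group of the `rE y` -/
def wy (m : ℕ) : ℕ := Nat.mod (Nat.shiftRight wyT (Nat.mul 4 m)) 16

/-- the commutator vector -/
noncomputable def wu (m : ℕ) : ℕ := frc (col wwT m) fun w => Nat.xor (mv (rM (wy m)) w) w

theorem wit_check : (allLT 16 fun j => allLT 3 fun i => frc (sc i (rM (Nat.add 16 j))) fun B =>
    frc (Nat.mul 5 (Nat.add (Nat.mul 3 j) i)) fun m => allLT 5 fun a =>
      and (Nat.beq (mv B (col wwT (Nat.add m a))) (col wwT (Nat.add m a)))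
        (allLT 5 fun b => or (Nat.beq a b) (not (Nat.beq (wu (Nat.add m a)) (wu (Nat.add m b)))))) = true := by
  decide +kernel

theorem rE_in {y : ℕ} (hy : y < 16) : pm (rE y) (pt 0) = pt 0 :=
  ((pm_rp (isM_rE (x := y) (by omega))).pt_eq_iff (by norm_num) (by norm_num)).2
    (beq_iff'.1 (of_allLT (f := fun y => Nat.beq (ap (rE y) 0) 0) (by decide +kernel) hy))

/-! ### counting -/

variable {G : Type*} [Group G] {z : G}

theorem index_le [Finite G] (A K : Subgroup G) {β : Type*} (f : G → β) (T : Set β) [Finite T]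
    (hT : ∀ a ∈ A, f a ∈ T) (hf : ∀ a ∈ A, ∀ b ∈ A, f a = f b → a⁻¹ * b ∈ K) :
    Nat.card A ≤ Nat.card (A ⊓ K : Subgroup G) * Nat.card T := by
  have h1 : ∀ t : β, ∃ r ∈ A, (∃ a ∈ A, f a = t) → f r = t := fun t => by
    by_cases h : ∃ a ∈ A, f a = t
    · obtain ⟨a, ha, e⟩ := h
      exact ⟨a, ha, fun _ => e⟩
    · exact ⟨1, one_mem _, fun h' => absurd h' h⟩
  choose r hr hr' using h1
  rw [← Nat.card_prod]
  refine Nat.card_le_card_of_injective (fun a : A => ((⟨(r (f a))⁻¹ * a, mem_inf.2 ⟨mul_mem (inv_mem (hr _)) a.2,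
    hf _ (hr _) _ a.2 (hr' _ ⟨a, a.2, rfl⟩)⟩⟩, ⟨f a, hT a a.2⟩) : (A ⊓ K : Subgroup G) × T)) fun a b e => ?_
  simp only [Prod.mk.injEq, Subtype.mk.injEq] at e
  have e1 := e.1
  rw [e.2] at e1
  exact Subtype.ext (mul_left_cancel e1)

/-- the commutator -/
def yy (x e : G) : G := x * e * x⁻¹ * e⁻¹

theorem yy_eq {x a b : G} (e : yy x a = yy x b) : a⁻¹ * b ∈ centralizer ({x} : Set G) := by
  rw [mem_cent]
  have h1 : a * x⁻¹ * a⁻¹ = b * x⁻¹ * b⁻¹ := by
    have : x * (a * x⁻¹ * a⁻¹) = x * (b * x⁻¹ * b⁻¹) := by simpa only [yy, mul_assoc] using e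
    exact mul_left_cancel this
  calc a⁻¹ * b * x = a⁻¹ * (b * x⁻¹ * b⁻¹)⁻¹ * b := by group
    _ = _ := by rw [← h1]; group

theorem yy_one {x a : G} : yy x a = 1 ↔ a * x = x * a := by
  rw [yy, mul_inv_eq_one, mul_inv_eq_iff_eq_mul, eq_comm]

theorem yy_mul (x a b : G) : yy x (a * b) = yy x a * (a * yy x b * a⁻¹) := by
  simp only [yy]; group

theorem yy_conj (k x a : G) : yy (k * x * k⁻¹) (k * a * k⁻¹) = k * yy x a * k⁻¹ := by
  simp only [yy]; group

variable (h : HM z)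

/-- a subgroup of `E` modulo the centraliser of an element of `E` -/
theorem card_le_two [Finite G] {A : Subgroup G} (hA : A ≤ h.E) {e : G} (he : e ∈ h.E) :
    Nat.card A ≤ Nat.card (A ⊓ centralizer {e} : Subgroup G) * 2 := by
  refine (index_le A (centralizer {e}) (yy e) {1, z} (fun a ha => h.pre.es.commutator he (hA ha))
    fun a _ b _ => yy_eq).trans (Nat.mul_le_mul_left _ ?_)
  rw [Nat.card_coe_set_eq, Set.ncard_pair h.z_ne.symm]

/-! ### the vector of an element of `E` -/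

open _root_.Classical in
/-- the vector of an element of `E` -/
noncomputable def vec (e : G) : ℕ := if he : e ∈ h.E then (h.mem_E'.1 he).choose else 0

variable {h}

theorem vec_lt (e : G) : vec h e < 4096 := by
  unfold vec
  split_ifs with he
  exacts [(h.mem_E'.1 he).choose_spec.1, by norm_num]

theorem vec_spec {e : G} (he : e ∈ h.E) : ∃ a < 2, e = h.s (vec h e) * z ^ a := by
  unfold vec
  rw [dif_pos he]
  exact (h.mem_E'.1 he).choose_spec.2

theorem vec_eq {v : ℕ} (hv : v < 4096) (a : ℕ) : vec h (h.s v * z ^ a) = v := by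
  obtain ⟨b, -, e⟩ := vec_spec (mul_mem (h.s_mem hv) (pow_mem h.z_mem a))
  exact (h.s_inj hv (vec_lt _) e).1.symm

theorem vec_s {v : ℕ} (hv : v < 4096) : vec h (h.s v) = v := by simpa using vec_eq (h := h) hv 0

theorem vec_one : vec h 1 = 0 := by rw [← h.s_zero, vec_s (by norm_num)]

theorem vec_mul {a b : G} (ha : a ∈ h.E) (hb : b ∈ h.E) : vec h (a * b) = vec h a ^^^ vec h b := by
  obtain ⟨i, -, e1⟩ := vec_spec ha
  obtain ⟨j, -, e2⟩ := vec_spec hb
  have : a * b = h.s (vec h a ^^^ vec h b) * z ^ (beta (vec h a) (vec h b) + i + j) := by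
    conv_lhs => rw [e1, e2]
    rw [mul_assoc, ← mul_assoc (z ^ i), ← h.s_zpow (vec_lt _), ← mul_assoc, ← mul_assoc,
      h.s_mul _ (vec_lt _) _ (vec_lt _)]
    simp only [pow_add, mul_assoc]
  rw [this, vec_eq (xor_lt' (vec_lt _) (vec_lt _))]

theorem vec_inv {a : G} (ha : a ∈ h.E) : vec h a⁻¹ = vec h a := by
  have := vec_mul (inv_mem ha) ha
  rw [inv_mul_cancel, vec_one] at this
  exact Nat.xor_eq_zero_iff.1 this.symm

theorem vec_conj {x a : G} (hx : x * z = z * x) (ha : a ∈ h.E) : vec h (x * a * x⁻¹) = h.α x (vec h a) := by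
  obtain ⟨i, -, e1⟩ := vec_spec ha
  obtain ⟨j, -, e2⟩ := h.exists_conj hx (vec_lt (h := h) a)
  have : x * a * x⁻¹ = h.s (h.α x (vec h a)) * z ^ (j + i) := by
    rw [pow_add, ← mul_assoc, ← e2, ← conj_zpow hx i]
    conv_lhs => rw [e1]
    group
  rw [this, vec_eq (h.α_lt _ _)]

theorem eq_of_vec {a b : G} (ha : a ∈ h.E) (hb : b ∈ h.E) (e : vec h a = vec h b) : b = a ∨ b = a * z := by
  obtain ⟨i, -, e1⟩ := vec_spec ha
  obtain ⟨j, -, e2⟩ := vec_spec hb
  have : b = a * z ^ (i + j) := by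
    rw [e2, ← e]
    conv_rhs => rw [e1]
    rw [pow_add, mul_assoc, ← mul_assoc (z ^ i), h.zpow_self, one_mul]
  rcases h.zpow_cases (i + j) with e3 | e3 <;> rw [e3] at this
  exacts [Or.inl (by rw [this, mul_one]), Or.inr this]

theorem bf_vec {f : ℕ} (hf : f < 4096) {a : G} (ha : a ∈ h.E) (e : h.s f * a = a * h.s f) :
    bf f (vec h a) = 0 := by
  obtain ⟨i, -, e1⟩ := vec_spec ha
  rw [← h.s_comm_iff hf (vec_lt _)]
  rw [e1, mul_assoc (h.s _), ← h.s_zpow hf, ← mul_assoc, ← mul_assoc] at e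
  exact mul_right_cancel e

theorem yy_mem {x e : G} (hx : x * z = z * x) (he : e ∈ h.E) : yy x e ∈ h.E :=
  mul_mem (h.conj_mem_E hx he) (inv_mem he)

theorem vec_yy {x e : G} (hx : x * z = z * x) (he : e ∈ h.E) :
    vec h (yy x e) = h.α x (vec h e) ^^^ vec h e := by
  rw [yy, vec_mul (h.conj_mem_E hx he) (inv_mem he), vec_conj hx he, vec_inv he]

theorem yy_cases {x e : G} (hx : x * z = z * x) (he : e ∈ h.E) (h0 : h.α x (vec h e) = vec h e) :
    yy x e = 1 ∨ yy x e = z := by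
  simpa using eq_of_vec (one_mem _) (yy_mem hx he) (by rw [vec_yy hx he, h0, Nat.xor_self, vec_one])

theorem toY {x i : G} (hx : x * z = z * x) (hi : i ∈ h.E) (hv : ∃ v < 4096, h.α x v ^^^ v = vec h i) :
    ∃ e ∈ h.E, i = yy x e ∨ i = yy x e * z := by
  obtain ⟨v, hv, e⟩ := hv
  exact ⟨_, h.s_mem hv, eq_of_vec (yy_mem hx (h.s_mem hv)) hi (by rw [vec_yy hx (h.s_mem hv), vec_s hv, e])⟩

theorem card_two [Finite G] {x : G} (hx : x * z = z * x) {T : Finset ℕ} (hT : ∀ v < 4096, h.α x v ^^^ v ∈ T) :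
    8192 ≤ Nat.card (h.E ⊓ centralizer {x} : Subgroup G) * (T.card * 2) := by
  classical
  rw [← h.card_E]
  refine (index_le h.E (centralizer {x}) (yy x)
    (((T ×ˢ Finset.range 2).image fun p : ℕ × ℕ => h.s p.1 * z ^ p.2 : Finset G) : Set G) (fun a ha => ?_)
    fun a _ b _ => yy_eq).trans (Nat.mul_le_mul_left _ ?_)
  · obtain ⟨i, hi, e⟩ := vec_spec (yy_mem hx ha)
    rw [vec_yy hx ha] at e
    exact Finset.mem_coe.2 (Finset.mem_image.2 ⟨(_, i),
      Finset.mem_product.2 ⟨hT _ (vec_lt _), Finset.mem_range.2 hi⟩, e.symm⟩)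
  · rw [Nat.card_coe_set_eq, Set.ncard_coe_finset]
    exact Finset.card_image_le.trans (by simp)

theorem card_one [Finite G] {x : G} (hx : x * z = z * x) {T : Finset ℕ} (hT : ∀ v < 4096, h.α x v ^^^ v ∈ T)
    (hz : ∀ e ∈ h.E, yy x e ≠ z) : 8192 ≤ Nat.card (h.E ⊓ centralizer {x} : Subgroup G) * T.card := by
  rw [← h.card_E]
  refine (index_le h.E (centralizer {x}) (fun e => h.α x (vec h e) ^^^ vec h e) (T : Set ℕ)
    (fun a _ => hT _ (vec_lt _)) fun a ha b hb e => ?_).trans (by rw [Nat.card_coe_set_eq, Set.ncard_coe_finset])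
  have hm := mul_mem (inv_mem ha) hb
  rw [mem_cent, ← yy_one]
  refine (yy_cases hx hm ?_).resolve_right (hz _ hm)
  rw [vec_mul (inv_mem ha) hb, vec_inv ha, h.α_xor hx (vec_lt _) (vec_lt _), ← Nat.xor_eq_zero_iff]
  have e' : h.α x (vec h a) ^^^ vec h a = h.α x (vec h b) ^^^ vec h b := e
  calc _ = (h.α x (vec h a) ^^^ vec h a) ^^^ (h.α x (vec h b) ^^^ vec h b) := by ac_rfl
    _ = 0 := by rw [e', Nat.xor_self]

/-! ### linear facts -/

theorem α_cases {x : G} (hx : x * z = z * x) {q A : ℕ} (hθ : h.θ x = pm q) (hc : chkL q A = true) :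
    ∃ i < 3, ∀ v < 4096, h.α x v = mv (sc i A) v := by
  obtain ⟨u, hu, k, hk, rfl⟩ := h.decomp x hx
  rw [h.θ_E_mul (h.s_mem hu) (h.K2_z hk)] at hθ
  rcases HM.rk_of_θ hk (hθ ▸ pm_rp (HM.chkL_DD hc).1) hc with r | r | r
  · exact ⟨0, by norm_num, fun v hv => (h.α_E_mul (h.s_mem hu) (h.K2_z hk) hv).trans (r.α_eq hv)⟩
  · exact ⟨1, by norm_num, fun v hv => (h.α_E_mul (h.s_mem hu) (h.K2_z hk) hv).trans (r.α_eq hv)⟩
  · exact ⟨2, by norm_num, fun v hv => (h.α_E_mul (h.s_mem hu) (h.K2_z hk) hv).trans (r.α_eq hv)⟩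

theorem out_lin {x : G} (hx : x * z = z * x) (hθ : h.θ x = pm (rE 16) ∨ h.θ x = pm (rE 17)) :
    (∃ T : Finset ℕ, T.card ≤ 64 ∧ ∀ v < 4096, h.α x v ^^^ v ∈ T) ∧
      ∀ w < 4096, h.α x w = w → ∃ v < 4096, h.α x v ^^^ v = w := by
  obtain ⟨j, hj, hθ⟩ : ∃ j < 2, h.θ x = pm (rE (16 + j)) :=
    hθ.elim (fun e => ⟨0, by norm_num, e⟩) fun e => ⟨1, by norm_num, e⟩
  obtain ⟨i, hi, e⟩ := α_cases hx hθ (HM.chkL_rE (by omega))
  have c := of_allLT (of_allLT out_check hj) hi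
  rw [frc_eq, frc_eq] at c
  obtain ⟨⟨T, h1, h2⟩, h3⟩ := chkW_spec c
  refine ⟨⟨T, h1, fun v hv => e v hv ▸ h2 v hv⟩, fun w hw h4 => ?_⟩
  obtain ⟨v, hv, h5⟩ := h3 w hw (beq_iff'.2 ((e w hw).symm.trans h4))
  exact ⟨v, hv, e v hv ▸ h5⟩

theorem exists_θ {x : G} (hx : x * z = z * x) {r p : P24} (hr : r ∈ DD) (e : r * p * r⁻¹ = h.θ x) :
    ∃ k, k * z = z * k ∧ h.θ (k * x * k⁻¹) = p := by
  obtain ⟨k, hk, rfl⟩ := h.θ_surj r⁻¹ (inv_mem hr) |>.imp fun k hk => (⟨hk.1, by rw [hk.2, inv_inv]⟩ :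
    k ∈ h.K2 ∧ (h.θ k)⁻¹ = r)
  exact ⟨k, h.K2_z hk, by rw [h.θ_conj (h.K2_z hk) hx, ← e]; group⟩

theorem norm_out {x : G} (hx : x * z = z * x) (h0 : h.θ x (pt 0) ≠ pt 0) (h2 : h.θ x * h.θ x = 1) :
    ∃ k, k * z = z * k ∧ (h.θ (k * x * k⁻¹) = pm (rE 16) ∨ h.θ (k * x * k⁻¹) = pm (rE 17)) := by
  obtain ⟨r, hr, -, e | e⟩ := inv_outer (h.θ_mem x hx) h0 h2 <;> obtain ⟨k, hk, e⟩ := exists_θ hx hr e
  exacts [⟨k, hk, Or.inl e⟩, ⟨k, hk, Or.inr e⟩]

theorem out_Y {x i : G} (hx : x * z = z * x) (h0 : h.θ x (pt 0) ≠ pt 0) (h2 : h.θ x * h.θ x = 1)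
    (hi : i ∈ h.E) (hc : i * x = x * i) : ∃ e ∈ h.E, i = yy x e ∨ i = yy x e * z := by
  obtain ⟨k, hk, hθ⟩ := norm_out hx h0 h2
  have hx' := comm_mul (comm_mul hk hx) (comm_inv hk)
  have hi' := h.conj_mem_E hk hi
  obtain ⟨e, he, h3⟩ := toY hx' hi' ((out_lin hx' hθ).2 _ (vec_lt _) (by
    rw [← vec_conj hx' hi']
    congr 1
    calc _ = k * (x * i) * x⁻¹ * k⁻¹ := by group
      _ = _ := by rw [← hc]; group))
  have he' := h.conj_mem_E (comm_inv hk) he
  have h4 : yy (k * x * k⁻¹) e = k * yy x (k⁻¹ * e * k⁻¹⁻¹) * k⁻¹ := by rw [← yy_conj]; congr 1; group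
  refine ⟨_, he', h3.imp (fun h3 => ?_) fun h3 => ?_⟩
  · rw [h4] at h3
    exact mul_left_cancel (mul_right_cancel h3)
  · rw [h4, mul_assoc _ k⁻¹, comm_inv hk, ← mul_assoc, mul_assoc k (yy _ _)] at h3
    exact mul_left_cancel (mul_right_cancel h3)

/-! ### a commuting pair of conjugates -/

variable (h)

/-- the intersection of `E` with its conjugate -/
def II (g : G) : Subgroup G := h.E ⊓ h.E.comap (MulAut.conj g).symm.toMonoidHom

/-- the centraliser of `x` in `E` -/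
abbrev D1 (x : G) : Subgroup G := h.E ⊓ centralizer {x}

/-- a commuting pair of conjugates of `z`, when `z` is weakly closed in `E` -/
structure Pr (g x : G) : Prop where
  wc : ∀ g : G, g * z * g⁻¹ ∈ h.E → g * z * g⁻¹ = z
  eq : x = g * z * g⁻¹
  comm : x * z = z * x
  ne : x ≠ z

variable {h}

theorem mem_II {g e : G} : e ∈ II h g ↔ e ∈ h.E ∧ g⁻¹ * e * g ∈ h.E := Iff.rfl

theorem mem_D1 {x e : G} : e ∈ D1 h x ↔ e ∈ h.E ∧ e * x = x * e := and_congr_right fun _ => mem_cent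

namespace Pr

variable {g x : G} (p : Pr h g x)
include p

theorem tr {d : G} (hd : d * x = x * d) : g⁻¹ * d * g * z = z * (g⁻¹ * d * g) := by
  rw [p.eq] at hd
  calc _ = g⁻¹ * (d * (g * z * g⁻¹)) * g := by group
    _ = _ := by rw [hd]; group

theorem symm : Pr h g⁻¹ (g⁻¹ * z * g) :=
  ⟨p.wc, by rw [inv_inv], p.tr p.comm.symm, fun e => p.ne (by
    rw [mul_assoc, inv_mul_eq_iff_eq_mul] at e
    rw [p.eq, ← e, mul_inv_cancel_right])⟩

theorem left {k : G} (hk : k * z = z * k) : Pr h (k * g) (k * x * k⁻¹) :=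
  ⟨p.wc, by rw [p.eq]; group, comm_mul (comm_mul hk p.comm) (comm_inv hk), fun e => p.ne (by
    rw [mul_inv_eq_iff_eq_mul, ← hk] at e; exact mul_left_cancel e)⟩

theorem right {k : G} (hk : k * z = z * k) : Pr h (g * k) x :=
  ⟨p.wc, by rw [p.eq, mul_assoc g k, hk]; group, p.comm, p.ne⟩

theorem xx : x * x = 1 := by rw [p.eq, conj_mul, h.zz, mul_one, mul_inv_cancel]

theorem θ_ne : h.θ x ≠ 1 := fun e => p.ne (by
  have := h.mem_E_of_two p.comm e (n := 1) (by rw [pow_one, pow_two, p.xx])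
  rw [p.eq] at this ⊢
  exact p.wc g this)

theorem θ_sq : h.θ x * h.θ x = 1 := by rw [← h.θ_mul _ _ p.comm p.comm, p.xx, h.θ_one]

theorem z_notMem : z ∉ II h g := fun hz =>
  p.symm.ne (by simpa using p.wc g⁻¹ (by simpa using (mem_II.1 hz).2))

theorem I_x {i : G} (hi : i ∈ II h g) : i * x = x * i := by
  have := h.E_z (mem_II.1 hi).2
  rw [p.eq]
  calc _ = g * (g⁻¹ * i * g * z) * g⁻¹ := by group
    _ = _ := by rw [this]; group

theorem I_comm {i d : G} (hi : i ∈ II h g) (hd : d ∈ h.E) (hc : d * x = x * d) : d * i = i * d := by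
  by_contra hne
  have h1 := h.pre.es.conj_of_ne (mem_II.1 hi).1 hd hne
  have h2 : d * i * d⁻¹ ∈ II h g := mem_II.2 ⟨h.conj_mem_E (h.E_z hd) hi.1, by
    have := h.conj_mem_E (p.tr hc) (mem_II.1 hi).2
    rwa [show g⁻¹ * d * g * (g⁻¹ * i * g) * (g⁻¹ * d * g)⁻¹ = g⁻¹ * (d * i * d⁻¹) * g by group] at this⟩
  rw [h1] at h2
  exact p.z_notMem ((mul_mem_cancel_left hi).1 h2)

theorem yy_I {e : G} (hi : yy x e ∈ II h g) : yy x e = 1 := by
  have h1 : g⁻¹ * e * g * z * (g⁻¹ * e * g)⁻¹ = z * (g⁻¹ * yy x e * g) := by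
    have := h.z_inv
    rw [yy, p.eq]
    calc _ = z⁻¹ * z * (g⁻¹ * e * g * z * (g⁻¹ * e * g)⁻¹) := by group
      _ = z * z * (g⁻¹ * e * g * z⁻¹ * (g⁻¹ * e * g)⁻¹) := by rw [this]
      _ = _ := by group
  have h2 := p.wc _ (h1 ▸ mul_mem h.z_mem (mem_II.1 hi).2)
  rw [h1, mul_eq_left] at h2
  calc yy x e = g * (g⁻¹ * yy x e * g) * g⁻¹ := by group
    _ = 1 := by rw [h2]; group

theorem eq_one_of_z {e₀ i : G} (he₀ : yy x e₀ = z) (hi : i ∈ II h g)
    (hY : ∃ e ∈ h.E, i = yy x e ∨ i = yy x e * z) : i = 1 := by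
  obtain ⟨e, he, h1 | h1⟩ := hY
  · exact h1.trans (p.yy_I (h1 ▸ hi))
  · have h2 : i = yy x (e * e₀) := by rw [yy_mul, he₀, h.E_z he, mul_inv_cancel_right, h1]
    exact h2.trans (p.yy_I (h2 ▸ hi))

/-- the image of `D1` in `DD` -/
def Dd : Subgroup P24 where
  carrier := {q | ∃ d ∈ D1 h x, q = h.θ (g⁻¹ * d * g)}
  one_mem' := ⟨1, one_mem _, by rw [mul_one, inv_mul_cancel, h.θ_one]⟩
  mul_mem' := by
    rintro _ _ ⟨a, ha, rfl⟩ ⟨b, hb, rfl⟩
    refine ⟨a * b, mul_mem ha hb, ?_⟩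
    rw [← h.θ_mul _ _ (p.tr (mem_D1.1 ha).2) (p.tr (mem_D1.1 hb).2)]
    congr 1; group
  inv_mem' := by
    rintro _ ⟨a, ha, rfl⟩
    refine ⟨a⁻¹, inv_mem ha, ?_⟩
    rw [← h.θ_inv (p.tr (mem_D1.1 ha).2)]
    congr 1; group

theorem Dd_le : p.Dd ≤ DD := by
  rintro _ ⟨a, ha, rfl⟩
  exact h.θ_mem _ (p.tr (mem_D1.1 ha).2)

theorem Dd_sq : ∀ q ∈ p.Dd, q * q = 1 ∨ q * q = h.θ (g⁻¹ * z * g) := by
  rintro _ ⟨a, ha, rfl⟩
  rw [← h.θ_mul _ _ (p.tr (mem_D1.1 ha).2) (p.tr (mem_D1.1 ha).2),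
    show g⁻¹ * a * g * (g⁻¹ * a * g) = g⁻¹ * (a * a) * g by group]
  rcases h.pre.es.sq ha.1 with e | e <;> rw [e]
  · exact Or.inl (by rw [mul_one, inv_mul_cancel, h.θ_one])
  · exact Or.inr rfl

theorem Dd_sq' (h0 : h.θ (g⁻¹ * z * g) (pt 0) ≠ pt 0) : ∀ q ∈ p.Dd, q * q = 1 := fun q hq =>
  (p.Dd_sq q hq).resolve_right fun e => h0 (by
    rw [← e, Equiv.Perm.mul_apply]
    rcases (mem_DD.1 (p.Dd_le hq)).2 with h1 | h1
    · rw [h1.1, h1.1]
    · rw [h1.1, h1.2])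

theorem Dd_lt : Nat.card p.Dd < 128 := by
  by_cases h0 : h.θ (g⁻¹ * z * g) (pt 0) = pt 0
  · refine f1_bound p.Dd_le (h.θ_mem _ p.symm.comm) h0 p.symm.θ_sq ?_ p.Dd_sq
    rintro _ ⟨a, ha, rfl⟩
    have h1 := p.tr (mem_D1.1 ha).2
    rw [← h.θ_mul _ _ h1 p.symm.comm, ← h.θ_mul _ _ p.symm.comm h1]
    congr 1
    calc _ = g⁻¹ * (a * z) * g := by group
      _ = _ := by rw [h.E_z ha.1]; group
  · exact (elem_le p.Dd_le (p.Dd_sq' h0)).trans_lt (by norm_num)

variable [Finite G]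

theorem card_D1 : Nat.card (D1 h x) ≤ Nat.card (II h g) * Nat.card p.Dd := by
  refine (index_le (D1 h x) (II h g) (fun d => h.θ (g⁻¹ * d * g)) (p.Dd : Set P24) (fun a ha => ⟨a, ha, rfl⟩)
    fun a ha b hb e => ?_).trans (Nat.mul_le_mul_right _ (card_le_of_le inf_le_right))
  have hm := mul_mem (inv_mem ha) hb
  refine mem_II.2 ⟨hm.1, h.mem_E_of_two (p.tr (mem_D1.1 hm).2) ?_ (n := 2) ?_⟩
  · have e' : h.θ (g⁻¹ * a * g) = h.θ (g⁻¹ * b * g) := e
    rw [show g⁻¹ * (a⁻¹ * b) * g = (g⁻¹ * a * g)⁻¹ * (g⁻¹ * b * g) by group,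
      h.θ_mul _ _ (comm_inv (p.tr (mem_D1.1 ha).2)) (p.tr (mem_D1.1 hb).2), h.θ_inv (p.tr (mem_D1.1 ha).2), e',
      inv_mul_cancel]
  · have := conj_pow (a := g⁻¹) (b := a⁻¹ * b) (i := 2 ^ 2)
    rw [inv_inv] at this
    rw [this, show 2 ^ 2 = 4 from rfl, h.pre.es.pow_four hm.1, mul_one, inv_mul_cancel]

theorem four (hI : ∀ i ∈ II h g, ∃ e ∈ h.E, i = yy x e ∨ i = yy x e * z) : Nat.card (II h g) ≤ 4 := by
  have hI' : ∀ i ∈ II h g, i ≠ 1 → ∃ e ∈ h.E, i = yy x e * z := fun i hi h1 => by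
    obtain ⟨e, he, h2⟩ := hI i hi
    exact ⟨e, he, h2.resolve_left fun h2 => h1 (h2.trans (p.yy_I (h2 ▸ hi)))⟩
  by_cases hb : II h g = ⊥
  · rw [hb, card_bot]; norm_num
  obtain ⟨⟨a, ha⟩, h1⟩ := ne_bot_iff_exists_ne_one.1 hb
  obtain ⟨e, he, h2⟩ := hI' a ha (by simpa using h1)
  refine (card_le_two h (A := II h g) inf_le_left he).trans (Nat.mul_le_mul_right (m := 2) 2 ?_)
  refine (Set.ncard_le_ncard (t := {1, a⁻¹}) (fun b hb => ?_) (Set.toFinite _)).trans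
    ((Set.ncard_insert_le _ _).trans (by simp))
  by_contra hn
  simp only [Set.mem_insert_iff, Set.mem_singleton_iff, not_or] at hn
  obtain ⟨e', he', h3⟩ := hI' b hb.1 hn.1
  have h4 : e * yy x e' * e⁻¹ = yy x e' := by
    have h5 : b * e = e * b := mem_cent.1 hb.2
    rw [h3, mul_assoc, ← h.E_z he, ← mul_assoc, ← mul_assoc] at h5
    rw [← mul_right_cancel h5, mul_inv_cancel_right]
  have h6 : a * b = yy x (e * e') := by
    rw [yy_mul, h4, h2, h3, mul_assoc, ← mul_assoc z, ← h.E_z (yy_mem p.comm he'), mul_assoc, h.zz, mul_one]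
  exact hn.2 (eq_inv_of_mul_eq_one_right (h6.trans (p.yy_I (h6 ▸ mul_mem ha hb.1))))

theorem inner0 (hθ : h.θ x = pm (rE 1)) : False := by
  have hα : ∀ v < 4096, h.α x v = mv (rM 1) v := fun v hv =>
    h.α_of_invol p.comm p.xx hθ (HM.chkL_rE (by norm_num)) (WCa.chkI_rM (by norm_num)) hv
  obtain ⟨⟨T, hT, hW⟩, hq⟩ := chkW_spec in_check
  have hW' : ∀ v < 4096, h.α x v ^^^ v ∈ T := fun v hv => hα v hv ▸ hW v hv
  have key : ∀ i ∈ h.E, (∀ d ∈ h.E, yy x d = 1 ∨ yy x d = z → d * i = i * d) →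
      ∃ e ∈ h.E, i = yy x e ∨ i = yy x e * z := fun i hi hc => by
    obtain ⟨v, hv, e⟩ := hq _ (vec_lt (h := h) i) ((allL_iff _ _).2 fun f hf => by
      obtain ⟨h1, h2⟩ := fixB_spec f hf
      exact beq_iff'.2 (bf_vec h1 hi (hc _ (h.s_mem h1)
        (yy_cases p.comm (h.s_mem h1) (by rw [vec_s h1, hα f h1, h2])))))
    exact toY p.comm hi ⟨v, hv, hα v hv ▸ e⟩
  have h1 := p.card_D1
  have h2 := p.Dd_lt
  by_cases hz : ∃ e ∈ h.E, yy x e = z
  · obtain ⟨e₀, he₀, hz⟩ := hz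
    have h3 := card_two p.comm hW'
    have h4 := card_le_two h (A := II h g) inf_le_left he₀
    have h5 : II h g ⊓ centralizer {e₀} = ⊥ := by
      refine eq_bot_iff.2 fun i hi => p.eq_one_of_z hz hi.1 (key i hi.1.1 fun d hd hc => ?_)
      rcases hc with hc | hc
      · exact p.I_comm hi.1 hd (yy_one.1 hc)
      · have h6 := p.I_comm hi.1 (mul_mem (inv_mem he₀) hd) (mem_cent.1 (yy_eq (hz.trans hc.symm)))
        have h7 : i * e₀ = e₀ * i := mem_cent.1 hi.2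
        calc d * i = e₀ * (e₀⁻¹ * d * i) := by group
          _ = e₀ * i * (e₀⁻¹ * d) := by rw [h6, mul_assoc]
          _ = _ := by rw [← h7]; group
    rw [h5, card_bot] at h4
    have h8 := Nat.mul_le_mul h4 h2.le
    have h9 := Nat.mul_le_mul (h1.trans (Nat.mul_le_mul h4 (Nat.le_of_lt_succ h2))) (Nat.mul_le_mul_right 2 hT)
    exact absurd (h3.trans h9) (by norm_num)
  · push Not at hz
    have h3 := card_one p.comm hW' hz
    have h4 := p.four fun i hi => key i hi.1 fun d hd hc => p.I_comm hi hd (yy_one.1 (hc.resolve_right (hz d hd)))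
    have h9 := Nat.mul_le_mul (h1.trans (Nat.mul_le_mul h4 (Nat.le_of_lt_succ h2))) hT
    exact absurd (h3.trans h9) (by norm_num)

theorem outer : h.θ x (pt 0) ≠ pt 0 := fun h0 => by
  obtain ⟨r, hr, -, e⟩ := inv_inner (h.θ_mem x p.comm) h0 p.θ_sq p.θ_ne
  obtain ⟨k, hk, e⟩ := exists_θ p.comm hr e
  exact (p.left hk).inner0 e

theorem I_Y : ∀ i ∈ II h g, ∃ e ∈ h.E, i = yy x e ∨ i = yy x e * z := fun _ hi =>
  out_Y p.comm p.outer p.θ_sq hi.1 (p.I_x hi)

theorem notY0 (hθ : h.θ x = pm (rE 16) ∨ h.θ x = pm (rE 17)) (e : G) : yy x e ≠ z := fun hz => by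
  obtain ⟨⟨T, hT, hW⟩, -⟩ := out_lin p.comm hθ
  have h1 := p.card_D1
  rw [show II h g = ⊥ from eq_bot_iff.2 fun i hi => p.eq_one_of_z hz hi (p.I_Y i hi), card_bot] at h1
  have h9 := Nat.mul_le_mul (h1.trans (Nat.mul_le_mul_left _ (elem_le p.Dd_le (p.Dd_sq' p.symm.outer))))
    (Nat.mul_le_mul_right 2 hT)
  exact absurd ((card_two p.comm hW).trans h9) (by norm_num)

theorem notY (e : G) : yy x e ≠ z := fun hz => by
  obtain ⟨k, hk, hθ⟩ := norm_out p.comm p.outer p.θ_sq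
  exact (p.left hk).notY0 hθ (k * e * k⁻¹) (by rw [yy_conj, hz, hk, mul_inv_cancel_right])

theorem final0 (hD : ∀ q, q ∈ p.Dd ↔ ∃ y < 32, q = pm (rE y)) : False := by
  have p' := p.symm
  obtain ⟨y₀, hy₀, e₀⟩ := (hD _).1 ⟨z, mem_D1.2 ⟨h.z_mem, p.comm.symm⟩, rfl⟩
  obtain ⟨j, rfl⟩ : ∃ j, y₀ = 16 + j := Nat.exists_eq_add_of_le
    (not_lt.1 fun hlt => p'.outer (e₀ ▸ rE_in hlt))
  obtain ⟨i, hi, hα⟩ := α_cases p'.comm e₀ (HM.chkL_rE hy₀)
  have c := of_allLT (of_allLT wit_check (show j < 16 by omega)) hi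
  simp only [frc_eq, allLT_iff, Bool.and_eq_true, Bool.or_eq_true, beq_iff', Bool.not_eq_true'] at c
  obtain ⟨m, hm⟩ : ∃ m, m = Nat.mul 5 (Nat.add (Nat.mul 3 j) i) := ⟨_, rfl⟩
  rw [← hm] at c
  have key : ∀ a : Fin 5, ∃ u : II h g⁻¹, vec h u = wu (Nat.add m a) := fun a => by
    obtain ⟨w, hw⟩ : ∃ w, w = col wwT (Nat.add m a) := ⟨_, rfl⟩
    have hw' : w < 4096 := hw ▸ col_lt _ _
    have hy : wy (Nat.add m a) < 16 := Nat.mod_lt _ (by norm_num)
    obtain ⟨d, hd, e⟩ := (hD _).2 ⟨wy (Nat.add m a), by omega, rfl⟩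
    have h1 := p.tr (mem_D1.1 hd).2
    have h2 : g⁻¹ * d * g * (g⁻¹ * d * g) = 1 := by
      rw [show g⁻¹ * d * g * (g⁻¹ * d * g) = g⁻¹ * (d * d) * g by group]
      rcases h.pre.es.sq hd.1 with e1 | e1
      · rw [e1, mul_one, inv_mul_cancel]
      · refine absurd ?_ p'.θ_ne
        rw [show g⁻¹ * z * g = g⁻¹ * d * g * (g⁻¹ * d * g) by rw [← e1]; group, h.θ_mul _ _ h1 h1]
        exact p.Dd_sq' p'.outer _ ⟨d, hd, rfl⟩
    have h3 := h.α_of_invol h1 h2 e.symm (HM.chkL_rE (by omega)) (WCa.chkI_rM hy) hw'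
    have h4 : yy (g⁻¹ * z * g) (h.s w) = 1 := (yy_cases p'.comm (h.s_mem hw') (by
      rw [vec_s hw', hα w hw', hw]; exact (c a a.2).1)).resolve_right (p'.notY _)
    have h5 := p'.tr (yy_one.1 h4)
    refine ⟨⟨yy (g⁻¹ * d * g) (h.s w), mem_II.2 ⟨yy_mem h1 (h.s_mem hw'), ?_⟩⟩, ?_⟩
    · have := mul_mem (mem_D1.1 hd).1 (h.conj_mem_E h5 (inv_mem (mem_D1.1 hd).1))
      convert this using 1
      simp only [yy]; group
    · show vec h (yy _ _) = _
      rw [vec_yy h1 (h.s_mem hw'), vec_s hw', h3, wu, frc_eq, ← hw]; rfl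
  choose u hu using key
  have h5 := Nat.card_le_card_of_injective u fun a b e => Fin.ext (((c a a.2).2 b b.2).resolve_right fun h1 => by
    rw [← hu, ← hu, e, beq_iff'.2 rfl] at h1
    exact absurd h1 (by decide))
  rw [Nat.card_eq_fintype_card, Fintype.card_fin] at h5
  exact absurd (h5.trans (p'.four p'.I_Y)) (by norm_num)

theorem final1 (hθ : h.θ x = pm (rE 16) ∨ h.θ x = pm (rE 17)) : False := by
  obtain ⟨⟨T, hT, hW⟩, -⟩ := out_lin p.comm hθ
  have h1 := (card_one p.comm hW fun e _ => p.notY e).trans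
    (Nat.mul_le_mul (p.card_D1.trans (Nat.mul_le_mul_right _ (p.four p.I_Y))) hT)
  obtain ⟨r, hr, -, h2⟩ := elem_32 p.Dd_le (p.Dd_sq' p.symm.outer) (by omega)
  obtain ⟨k, hk, rfl⟩ := h.θ_surj r hr
  have hk' := h.K2_z hk
  have h3 : ∀ d ∈ D1 h x, h.θ ((g * k)⁻¹ * d * (g * k)) = (h.θ k)⁻¹ * h.θ (g⁻¹ * d * g) * h.θ k :=
    fun d hd => by
      have := h.θ_conj (comm_inv hk') (p.tr (mem_D1.1 hd).2)
      rw [h.θ_inv hk', inv_inv (h.θ k)] at this
      rw [← this]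
      congr 1; group
  refine (p.right hk').final0 fun q => ⟨?_, ?_⟩
  · rintro ⟨d, hd, rfl⟩
    obtain ⟨y, hy, e⟩ := (h2 _).1 ⟨d, hd, rfl⟩
    exact ⟨y, hy, by rw [h3 d hd, e]; group⟩
  · rintro ⟨y, hy, rfl⟩
    obtain ⟨d, hd, e⟩ := (h2 _).2 ⟨y, hy, rfl⟩
    exact ⟨d, hd, by rw [h3 d hd, ← e]; group⟩

theorem false : False := by
  obtain ⟨k, hk, hθ⟩ := norm_out p.comm p.outer p.θ_sq
  exact (p.left hk).final1 hθ

end Pr

end NW

variable {G : Type*} [Group G] [Finite G] {z : G}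

/-- `z` is not weakly closed in `E` -/
theorem HM.not_wc [IsSimpleGroup G] (hG : ¬ IsMulCommutative G) (h : HM z) :
    ∃ g : G, g * z * g⁻¹ ∈ h.E ∧ g * z * g⁻¹ ≠ z := by
  by_contra hn
  push Not at hn
  refine CfsgLib.ZStar.not_isolated_of_simple hG z ⟨h.orderOf_z, fun g hg => ?_⟩
  by_contra hne
  exact NW.Pr.false (h := h) ⟨hn, rfl, hg.eq.symm, hne⟩

end CfsgLib.J4T
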