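import Mathlib
import Cfsg.Agent.Lib.J4T.MApi

/-! # Recognition of `J4`, steps 1 and 2 of plans/J4REC.md: normalisation of the complement `κ` -/

set_option autoImplicit false

namespace CfsgLib.J4T

open Cfsg CfsgLib.Golay CfsgLib.M24E CfsgLib.ExtraTwo CfsgLib.LargeExtra Subgroup
open scoped Pointwise

variable {G : Type*} [Group G] {z : G}

/-- the complement conjugated by an element of `V` -/
def MM.cv (m : MM z) {v : G} (hv : v ∈ m.V) : MM z where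
  V := m.V
  c := m.c
  κ := (MulAut.conj v).toMonoidHom.comp m.κ
  c_mul := m.c_mul
  c_eq_one := m.c_eq_one
  mem_V := m.mem_V
  conj g a ha := by
    show v * m.κ g * v⁻¹ * _ * (v * m.κ g * v⁻¹)⁻¹ = _
    calc _ = v * (m.κ g * (v⁻¹ * m.c a * v) * (m.κ g)⁻¹) * v⁻¹ := by group
      _ = _ := by
        rw [m.V_comm (inv_mem hv) (m.c_mem ha), inv_mul_cancel_right, m.conj g a ha,
          m.V_comm hv (m.c_mem (ev_smul _ ha)), mul_inv_cancel_right]
  mem_M x := by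
    have h1 := (normalizer (m.V : Set G)).mul_mem_cancel_left (x := v⁻¹) (y := x * v) (inv_mem (le_normalizer hv))
    rw [mul_mem_cancel_right (le_normalizer hv)] at h1
    rw [← h1, m.mem_M]
    refine exists_congr fun a => and_congr_right fun ha => exists_congr fun g => ?_
    show _ ↔ x = m.c a * (v * m.κ g * v⁻¹)
    rw [← mul_assoc (m.c a), ← mul_assoc (m.c a), ← m.V_comm hv (m.c_mem ha)]
    exact ⟨fun e => by rw [mul_assoc v, ← e]; group, fun e => by rw [e]; group⟩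
  z_eq := m.z_eq

/-- the complement conjugated by an element of `V` -/
def JM.cv (j : JM z) {v : G} (hv : v ∈ j.V) : JM z :=
  { j.toHM2, j.toMM.cv hv with link_s := j.link_s, link_l := j.link_l }

theorem JM.cv_κ (j : JM z) {v : G} (hv : v ∈ j.V) (g : M24) : (j.cv hv).κ g = v * j.κ g * v⁻¹ := rfl

theorem JM.Good.cv {j : JM z} (hj : j.Good) {v : G} (hv : v ∈ j.V) : (j.cv hv).Good := by
  refine ⟨⟨hj.full.nconj, hj.full.cent_duad, hj.full.two, fun g a ha h1 h2 => ?_, hj.full.uniq, hj.full.wc,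
    hj.full.card_H⟩, hj.wc, hj.V_eq, hj.two_M⟩
  have e : (j.cv hv).c a * (j.cv hv).κ g = v * (j.c a * j.κ g) * v⁻¹ := by
    show j.c a * (v * j.κ g * v⁻¹) = _
    rw [← mul_assoc, ← mul_assoc, ← j.toMM.V_comm hv (j.toMM.c_mem ha), mul_assoc v]
  rw [e] at h2 ⊢
  rw [← hj.full.cls g a ha h1 (by rwa [conj_mul, conj_eq_one_iff] at h2)]
  exact ⟨fun h => h.trans (isConj_iff.2 ⟨v, rfl⟩).symm, fun h => h.trans (isConj_iff.2 ⟨v, rfl⟩)⟩

namespace Rec

open Classical in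
/-- the element of `M24` with a given code -/
noncomputable def mq (q : ℕ) : M24 := if h : pm q ∈ M24 then ⟨pm q, h⟩ else 1

theorem mq_of_rp {q : ℕ} {g : M24} (h : Rp (ap q) (g : P24)) : mq q = g := by
  have e := h.pm_eq
  rw [mq, dif_pos (e ▸ g.2)]
  exact Subtype.ext e

theorem rp_mq {q : ℕ} (h : isM q = true) : Rp (ap q) (mq q : P24) := by
  rw [mq, dif_pos (pm_mem h)]
  exact pm_rp h

theorem eq_of_rp {q q' : ℕ} {g h : M24} (hg : Rp (ap q) (g : P24)) (hh : Rp (ap q') (h : P24)) (e : q = q') :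
    g = h := Subtype.ext (hg.unique (e ▸ hh))

theorem rp_mul {q q' : ℕ} {g h : M24} (hg : Rp (ap q) (g : P24)) (hh : Rp (ap q') (h : P24)) :
    Rp (ap (M24E.cmp q q')) ((g * h : M24) : P24) := hg.cmp hh

/-- the image of `ρ` in `M24` -/
def g0 : ℕ := 0x719b59cae884687b312f52ca418041

/-- table of the hexacode group -/
def hxTbl : ℕ := 0x71a95834b345e4449d6f55a2c10c018dab444aef815a759133619ca004432da4d455cf8468c5a93339ae408062b99b28523343aaa4b16f258a7188202aeb47c9c89c5acb28d03a6e400443ba6959b6307ba4a332c822ca710c01725b29d0b07dea431ec852e2c188208ae4d7d6e899687b10d0625ca080622ae4d9d5d07c68ab30c8226e718820ba5b27d2289baac32ad03aca408062726957b4a89de47312d062e2a004438aeb49caf0795a4b1cc8525cc10c01719b2450af85ea74917365a2a080628da4d856f34168459d2f519cc188202dab4849d3445aa5b12f21ae710c01b9a954362f83a4c4a9733d8a400443badb29d2307baa7b10c8624aa004432a64d7d5c89c68431ed052eec10c018a6b47cae8995aa332d022dc718820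72e959b4b07de4cb28c83a6240806289a4d456ef8168a4b173259c710c01759b2850b345eac5a92f39a2400443bda958363343a475912f618aa0806229ab4449cf845a449d7355aec1882089ab484af3415ac4a96f3d9c40806275a95434af85e4a5b13321a2718820bd9b24522f83aa459d33518ac10c0129a4d855d3446874916f65aea00443bae957b6289ba44b1cd0524ac188202a6b49c9d07c5a7312c862eea080628a64d9d6f07968c32ac83adc40044372db27d0a89deaab30d02262710c01ba64d4562f83a87312d362caa188202adb2851d3446a4b1ccf526ec080628ae95836f34164ab30cf225c700443726b4448af85dac32ad33ae2410c018d9b29d2f0796aa5b128219c70806271a4d7d4a89de8c4a9703da2418820b9ab47ca289b9a749170658aa10c012da959b5d07c64459d2851aec004438da957b6e89964c5a930399c410c0171ab49c8b07ddaa4b16825a2700443b9a4d9d6307ba8449d68558ac080622d9b27d1c89c6a75913061aea18820ba6b484a33439a431ecf52cac004432ae95435cf84647b10d3626ea10c018adb2452ef816acb28d33a5c4188207264d854b345e8a332cf22e270806275ab47c8a89dda459d3051a2c0806289a959b6f07964749168659ca18820299b29d1d07c6ac4a9683dae410c01bda4d7d6289ba8a5b130218a7004432a695835d34464c32acf3aee418820baeb444a2f839aab30d3224a70806272e4d454af85e84b1cd35262c004438a5b2852f3416a7312cf62dca10c012a5b2451cf846aa332d322ee700443bae4d8563343a8cb28cf3a4a410c0172eb4848b345da7b10cf6262a188208a695436ef8164431ed352dcc0806275a4d9d4b07de875912861a2a10c01899b27d2e8996a449d70559cc0044329a957b5c89c64a4b17025ae708062bdab49ca307b9ac5a928398a418820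

/-- the image of `s (64 * u)` in `M24` -/
def hxq (u : ℕ) : ℕ := Nat.land (Nat.shiftRight hxTbl (Nat.mul 120 u)) 0xffffffffffffffffffffffffffffff

/-- six duads `{0, i}` with their coordinates -/
def duT : List (ℕ × ℕ × ℕ × ℕ) :=
  [(1, 58, 0, 0), (2, 21, 0, 0), (3, 47, 0, 1), (4, 47, 8, 0), (5, 47, 7, 0), (7, 30, 8, 1)]

/-- the image of the duad `{0, i}` has the coordinates `w, x, a` -/
def dq (q i w x a : ℕ) : Bool :=
  and (and (Nat.blt w 64) (and (Nat.blt x 16) (Nat.blt a 2)))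
    (dict (Nat.lor (Nat.pow 2 (ap q 0)) (Nat.pow 2 (ap q i))) w x a)

theorem ofMask_pair {a b : ℕ} (ha : a < 24) (hb : b < 24) :
    ofMask (Nat.lor (Nat.pow 2 a) (Nat.pow 2 b)) = {pt a, pt b} := by
  have := ofMask_lor (2 ^ ix (pt a)) (2 ^ ix (pt b))
  rw [ofMask_two_pow, ofMask_two_pow, ix_pt ha, ix_pt hb] at this
  exact this

theorem c_dq (j : JM z) {q i w x a : ℕ} (hq : isM q = true) (hi : i < 24) (h : dq q i w x a = true) :
    w < 64 ∧ j.c {pt (ap q 0), pt (ap q i)} = j.s w * j.l x * z ^ a := by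
  simp only [dq, Bool.and_eq_true, Nat.blt_eq] at h
  rw [← ofMask_pair ((pm_rp hq).lt (by norm_num)) ((pm_rp hq).lt hi)]
  exact ⟨h.1.1, (j.c_dict h.1.1 h.1.2.1 h.1.2.2 h.2).2⟩

theorem psi' (j : JM z) {y : G} (hy : y ∈ normalizer (j.V : Set G)) {q : ℕ} (hq : isM q = true)
    (fw : ℕ → ℕ → ℕ) (fa : ℕ → ℕ → ℕ → ℕ)
    (hf : ∀ w < 64, ∀ x < 16, ∀ a, fw w x < 64 →
      y * (j.s w * j.l x * z ^ a) * y⁻¹ = j.s (fw w x) * j.l x * z ^ fa w x a)
    (hc : allL duT (fun t => dq q t.1 (fw t.2.1 t.2.2.1) t.2.2.1 (fa t.2.1 t.2.2.1 t.2.2.2)) = true) :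
    j.toMM.ψ y = mq q := by
  refine (mq_of_rp ?_).symm
  rw [j.psi hy hq fun i hi => ?_]
  · exact pm_rp hq
  obtain ⟨t, ht, rfl, h1, h2, h3, h4, h5, h6⟩ : ∃ t ∈ duT, t.1 = i ∧ i < 24 ∧ ap idq 0 = 0 ∧ ap idq i = i ∧
      t.2.1 < 64 ∧ t.2.2.1 < 16 ∧ dq idq i t.2.1 t.2.2.1 t.2.2.2 = true := by
    revert i; decide +kernel
  have e := (c_dq j (by decide +kernel) h1 h6).2
  obtain ⟨h7, e'⟩ := c_dq j hq h1 ((allL_iff _ _).1 hc t ht)
  rw [h2, h3] at e
  rw [e, e', hf _ h4 _ h5 _ h7]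

theorem mem_M {j : JM z} (hj : j.Good) {x : G} (hx : x * z = z * x) :
    x ∈ normalizer (j.V : Set G) ↔ j.θ x • ofMask o0 = ofMask o0 := by
  rw [hj.V_eq]; exact hj.wc.norm_H x hx

theorem E_mem_M {j : JM z} (hj : j.Good) {x : G} (hx : x ∈ j.E) : x ∈ normalizer (j.V : Set G) :=
  (mem_M hj (j.toHM.E_z hx)).2 (by rw [j.θ_E x hx, one_smul])

theorem s_mem_M {j : JM z} (hj : j.Good) {v : ℕ} (hv : v < 4096) : j.s v ∈ normalizer (j.V : Set G) :=
  E_mem_M hj (j.toHM.s_mem hv)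

theorem rho_mem_M {j : JM z} (hj : j.Good) : j.ρ ∈ normalizer (j.V : Set G) :=
  (mem_M hj j.rho_z).2 (by rw [j.θ_rho, one_smul])

theorem mem_V {j : JM z} (hj : j.Good) {y : G} :
    y ∈ j.V ↔ ∃ w < 64, ∃ x < 16, ∃ a < 2, y = j.s w * j.l x * z ^ a := by
  rw [hj.V_eq]; exact j.toHM2.mem_VV

theorem zpow_mem_V (j : JM z) (a : ℕ) : z ^ a ∈ j.V := pow_mem j.toMM.z_mem a

theorem rho_l (j : JM z) {x : ℕ} (hx : x < 16) : j.l x * j.ρ = j.ρ * j.l x :=
  j.toHM.conj_rho_in (j.l_mem x hx) (j.toHM2.l_inner hx)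

theorem isM_g0 : isM g0 = true := by decide +kernel

theorem psi_rho {j : JM z} (hj : j.Good) : j.toMM.ψ j.ρ = mq g0 := by
  refine psi' j (rho_mem_M hj) isM_g0 (fun w _ => rho w) (fun _ _ a => a) (fun w hw x hx a _ => ?_)
    (by decide +kernel)
  rw [← j.toHM.rho_conj_s (by omega), ← conj_mul, ← conj_mul, conj_zpow j.rho_z, ← rho_l j hx,
    mul_inv_cancel_right]

theorem hx_check : allLT 64 (fun u => frc (hxq u) fun q => frc (Nat.mul 64 u) fun v =>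
    and (and (isM q) (allL duT fun t => dq q t.1 (Nat.xor t.2.1 (Nat.xor v (mv (uM t.2.2.1) v))) t.2.2.1
      (Nat.xor (Nat.xor t.2.2.2 (bf v t.2.1)) (Nat.xor (beta v (mv (uM t.2.2.1) v)) (qf v)))))
    (and (Nat.beq (beta v (rho v)) 0) (or (Nat.beq u 0) (and (not (isId (ap q)))
      (eqB (Nat.beq (ty v) 1) (not (Nat.beq (fixM (ap q)) 0))))))) = true := by decide +kernel

theorem isM_hx {u : ℕ} (hu : u < 64) : isM (hxq u) = true := by
  have h := of_allLT hx_check hu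
  simp only [frc_eq, Bool.and_eq_true] at h
  exact h.1.1

theorem psi_s {j : JM z} (hj : j.Good) {u : ℕ} (hu : u < 64) : j.toMM.ψ (j.s (64 * u)) = mq (hxq u) := by
  have h := of_allLT hx_check hu
  simp only [frc_eq, Bool.and_eq_true] at h
  have hv : 64 * u < 4096 := by omega
  refine psi' j (s_mem_M hj hv) h.1.1 (fun w x => w ^^^ (64 * u ^^^ mv (uM x) (64 * u)))
    (fun w x a => a ^^^ bf (64 * u) w ^^^ (beta (64 * u) (mv (uM x) (64 * u)) ^^^ qf (64 * u)))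
    (fun w hw x hx a hl => ?_) h.1.2
  generalize 64 * u = v at hv hl ⊢
  have h1 : v ^^^ mv (uM x) v < 64 := by
    have := xor_lt (n := 6) hw hl
    rwa [Nat.xor_xor_cancel_left] at this
  have hw' : w < 4096 := by omega
  rw [← conj_mul, ← conj_mul, conj_zpow (j.toHM.s_z hv), j.toHM.s_conj hv hw',
    j.toHM.s_conj_in (j.l_mem x hx) (j.toHM2.l_inner hx) hv, j.l_α x hx v hv,
    j.toHM.s_xor hw' (by omega), beta_W0 hw h1, pow_zero, mul_one, j.toHM.zpow_xor (a ^^^ _), j.toHM.zpow_xor a]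
  generalize beta v (mv (uM x) v) ^^^ qf v = b
  have c1 := (j.toHM.s_zpow (by omega : v ^^^ mv (uM x) v < 4096) (bf v w))
  have c2 := fun n => comm_zpow (j.toHM2.l_z hx) n
  calc _ = j.s w * (z ^ bf v w * j.s (v ^^^ mv (uM x) v)) * (z ^ b * j.l x) * z ^ a := by group
    _ = j.s w * j.s (v ^^^ mv (uM x) v) * (z ^ bf v w * j.l x) * z ^ b * z ^ a := by rw [← c1, ← c2 b]; group
    _ = _ := by rw [← c2]; group

theorem conj_sz (j : JM z) {v : ℕ} (hv : v < 4096) (h0 : v ≠ 0) (a : ℕ) :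
    IsConj z (j.s v * z ^ a) ↔ ty v = 1 := by
  rw [← j.conj_E v hv h0]
  rcases j.toHM.zpow_cases a with e | e <;> rw [e]
  · rw [mul_one]
  · obtain ⟨w, -, e'⟩ := j.toHM.exists_conj_z hv h0
    exact ⟨fun h => h.trans (isConj_iff.2 ⟨_, e'⟩).symm, fun h => h.trans (isConj_iff.2 ⟨_, e'⟩)⟩

/-- the element of the complement over `s U` is `s v` up to `z` -/
def Pv (j : JM z) (U v : ℕ) : Prop :=
  (U < 4096 ∧ U % 64 = 0) ∧ v < 4096 ∧ ∃ a, j.κ (j.toMM.ψ (j.s U)) = j.s v * z ^ a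

/-- the type test -/
noncomputable def tst (U v : ℕ) : Bool := eqB (Nat.beq (ty v) 1) (Nat.beq (ty U) 1)

section
variable {j : JM z} (hj : j.Good)
include hj

theorem psi_xor {U U' : ℕ} (h : U < 4096) (h' : U' < 4096) :
    j.toMM.ψ (j.s (U ^^^ U')) = j.toMM.ψ (j.s U) * j.toMM.ψ (j.s U') := by
  have h1 := le_normalizer (zpow_mem_V j (beta U U'))
  rw [j.toHM.s_xor h h', j.toMM.ψ_mul (mul_mem (s_mem_M hj h) (s_mem_M hj h')) h1,
    j.toMM.ψ_mul (s_mem_M hj h) (s_mem_M hj h'), (j.toMM.ψ_eq_one_iff h1).2 (zpow_mem_V j _), mul_one]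

theorem Pv.xor {U v U' v' : ℕ} (h : Pv j U v) (h' : Pv j U' v') : Pv j (U ^^^ U') (v ^^^ v') := by
  obtain ⟨⟨h1, h2⟩, h3, a, e⟩ := h
  obtain ⟨⟨h1', h2'⟩, h3', a', e'⟩ := h'
  refine ⟨⟨xor_lt' h1 h1', ?_⟩, xor_lt' h3 h3', beta v v' + a + a', ?_⟩
  · rw [show 64 = 2 ^ 6 from rfl, Nat.xor_mod_two_pow, show 2 ^ 6 = 64 from rfl, h2, h2', Nat.xor_self]
  · rw [psi_xor hj h1 h1', map_mul, e, e', mul_assoc, ← mul_assoc (z ^ a), ← j.toHM.s_zpow h3', mul_assoc,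
      ← mul_assoc, j.s_mul v h3 v' h3', pow_add, pow_add]
    group

omit hj in
theorem Pv.zero : Pv j 0 0 :=
  ⟨by norm_num, by norm_num, 0, by rw [j.s_zero, j.toMM.ψ_one, map_one, pow_zero, mul_one]⟩

theorem κ_rho (h1 : j.κ (mq g0) = j.ρ) {U : ℕ} (hU : U < 4096) :
    j.κ (j.toMM.ψ (j.s (rho U))) = j.ρ * j.κ (j.toMM.ψ (j.s U)) * j.ρ⁻¹ := by
  rw [← j.toHM.rho_conj_s hU, j.toMM.ψ_conj (rho_mem_M hj) (s_mem_M hj hU), psi_rho hj, map_mul, map_mul,
    map_inv, h1]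

theorem Pv.rho (h1 : j.κ (mq g0) = j.ρ) {U v : ℕ} (h : Pv j U v) : Pv j (rho U) (rho v) := by
  obtain ⟨⟨h2, h3⟩, h4, a, e⟩ := h
  refine ⟨⟨rho_lt h2, ?_⟩, rho_lt h4, a, ?_⟩
  · have := of_allLT (f := fun u => Nat.beq (Nat.mod (J4T.rho (Nat.mul 64 u)) 64) 0) (by decide +kernel)
      (show U / 64 < 64 by omega)
    rw [show U = 64 * (U / 64) by omega]
    exact beq_iff'.1 this
  · rw [κ_rho hj h1 h2, e, ← conj_mul, j.toHM.rho_conj_s h4, conj_zpow j.rho_z]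

theorem Pv.tst {U v : ℕ} (h : Pv j U v) : tst U v = true := by
  obtain ⟨⟨h1, h2⟩, h3, a, e⟩ := h
  obtain ⟨u, rfl⟩ : ∃ u, U = 64 * u := ⟨U / 64, by omega⟩
  have hu : u < 64 := by omega
  by_cases h0 : u = 0
  · subst h0
    rw [mul_zero, j.s_zero, j.toMM.ψ_one, map_one] at e
    rw [← (j.toHM.s_inj (a := 0) (b := a) (by norm_num : 0 < 4096) h3 (by rw [j.s_zero, pow_zero, mul_one]; exact e)).1]
    decide +kernel
  have h := of_allLT hx_check hu
  simp only [frc_eq, Bool.and_eq_true, Bool.or_eq_true, beq_iff', h0, false_or, eqB_iff, Bool.not_eq_true',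
    ← Bool.not_eq_true] at h
  have r := rp_mq h.1.1
  have h4 : mq (hxq u) ≠ 1 := fun e => h.2.2.1 (r.isId_iff.2 (congrArg Subtype.val e))
  have h5 : mq (hxq u) * mq (hxq u) = 1 := by
    rw [← psi_s hj hu, ← psi_xor hj h1 h1, Nat.xor_self, j.s_zero, j.toMM.ψ_one]
  rw [psi_s hj hu] at e
  have h6 := hj.full.cls (mq (hxq u)) ∅ ev_empty h4 (by rw [j.toMM.c_empty, one_mul, ← map_mul, h5, map_one])
  have h7 : InComm (mq (hxq u) : P24) ∅ := ⟨∅, ev_empty, by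
    rw [Finset.smul_finset_empty, sd_empty, sd_empty]; exact (j.c_eq_one ∅ ev_empty).1 j.toMM.c_empty⟩
  have h8 : v ≠ 0 := fun h8 => h4 (by
    rw [← j.toMM.ψ_κ (mq _), e, h8, j.s_zero, one_mul]
    exact (j.toMM.ψ_eq_one_iff (le_normalizer (zpow_mem_V j a))).2 (zpow_mem_V j a))
  rw [j.toMM.c_empty, one_mul, e, conj_sz j h3 h8, iff_true_right h7, ← r.ofMask_fixM, ← ofMask_zero, Ne,
    ofMask_inj (fixM_lt _) (by norm_num)] at h6
  rw [Rec.tst, eqB_iff, beq_iff', beq_iff', h6]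
  exact h.2.2.2.symm

theorem exists_Pv (h1 : j.κ (mq g0) = j.ρ) {U : ℕ} (hU : U < 4096) (h2 : U % 64 = 0) :
    ∃ w < 64, Pv j U (w ^^^ U) := by
  have key : ∀ {U : ℕ}, U < 4096 → ∃ w < 64, ∃ x < 16, ∃ a,
      j.κ (j.toMM.ψ (j.s U)) = j.s w * j.l x * z ^ a * j.s U := fun {U} hU => by
    obtain ⟨b, hb, e⟩ := j.toMM.ψ_spec (s_mem_M hj hU)
    obtain ⟨w, hw, x, hx, a, -, e'⟩ := (mem_V hj).1 (j.toMM.c_mem hb)
    refine ⟨w, hw, x, hx, a, ?_⟩
    rw [← e', ← inv_mul_eq_iff_eq_mul, j.toMM.c_inv hb, ← e]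
  have hz : ∀ {U : ℕ}, U < 4096 → j.κ (j.toMM.ψ (j.s U)) * z = z * j.κ (j.toMM.ψ (j.s U)) := fun hU => by
    obtain ⟨w, hw, x, hx, a, e⟩ := key hU
    rw [e]
    exact comm_mul (comm_mul (comm_mul (j.toHM.s_z (by omega)) (j.toHM2.l_z hx)) (comm_pow rfl a)) (j.toHM.s_z hU)
  have hθ : ∀ {U : ℕ}, U < 4096 →
      j.θ (j.κ (j.toMM.ψ (j.s (rho U)))) = j.θ (j.κ (j.toMM.ψ (j.s U))) := fun hU => by
    rw [κ_rho hj h1 hU, j.toHM.θ_conj j.rho_z (hz hU), j.θ_rho, one_mul, inv_one, mul_one]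
  have h3 := hθ (rho_lt hU)
  rw [rho_rho hU, psi_xor hj hU (rho_lt hU), map_mul, j.θ_mul _ _ (hz hU) (hz (rho_lt hU)), mul_eq_right] at h3
  obtain ⟨w, hw, x, hx, a, e⟩ := key hU
  have hw' : w < 4096 := by omega
  rw [e, j.toHM.θ_mul_E (j.toHM.s_mem hU) (comm_mul (comm_mul (j.toHM.s_z hw') (j.toHM2.l_z hx)) (comm_pow rfl a)),
    j.toHM.θ_mul_E (pow_mem j.toHM.z_mem a) (comm_mul (j.toHM.s_z hw') (j.toHM2.l_z hx)),
    j.toHM.θ_E_mul (j.toHM.s_mem hw') (j.toHM2.l_z hx)] at h3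
  have h4 : x = 0 := uE_inj hx (by norm_num) (by
    rw [(h3 ▸ j.l_θ x hx : Rp (ap (uE x)) 1).app (by norm_num)]; decide +kernel)
  refine ⟨w, hw, ⟨hU, h2⟩, xor_lt' hw' hU, beta w U + a, ?_⟩
  rw [e, h4, j.l_zero, mul_one, mul_assoc, ← j.toHM.s_zpow hU, ← mul_assoc, j.s_mul w hw' U hU, pow_add, mul_assoc]

end

/-- the multiples of a pair of vectors -/
def sp4 (U v : ℕ) : List (ℕ × ℕ) := [(0, 0), (U, v), (rho U, rho v), (Nat.xor U (rho U), Nat.xor v (rho v))]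

theorem plane_check : allLT 64 (fun a => frc (Nat.xor a 64) fun A => or (not (tst 64 A))
    (allLT 64 fun b => frc (Nat.xor b 128) fun B =>
      or (not (allL (sp4 64 A) fun p => tst (Nat.xor 128 p.1) (Nat.xor B p.2)))
        (allLT 64 fun c => frc (Nat.xor c 256) fun C =>
          or (not (allL (sp4 64 A) fun p => allL (sp4 128 B) fun q =>
              tst (Nat.xor (Nat.xor 256 p.1) q.1) (Nat.xor (Nat.xor C p.2) q.2)))
            (not (allLT 16 fun x => not (and (Nat.beq (mv (uM x) A) 64)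
              (and (Nat.beq (mv (uM x) B) 128) (Nat.beq (mv (uM x) C) 256)))))))) = true := by
  decide +kernel

/-- the normalised coordinates -/
structure Nm (j : JM z) : Prop where
  good : j.Good
  rho : j.κ (mq g0) = j.ρ
  hex : ∀ u < 64, j.κ (mq (hxq u)) = j.s (64 * u)

theorem exists_rho {j : JM z} (hj : j.Good) : ∃ j' : JM z, j'.Good ∧ j'.κ (mq g0) = j'.ρ := by
  obtain ⟨a, ha, e⟩ := j.toMM.ψ_spec (rho_mem_M hj)
  rw [psi_rho hj] at e
  have hv : j.κ (mq g0) * j.c a * (j.κ (mq g0))⁻¹ ∈ j.V := by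
    rw [j.conj _ a ha]; exact j.toMM.c_mem (ev_smul _ ha)
  refine ⟨j.cv hv, hj.cv hv, ?_⟩
  show _ * j.κ (mq g0) * _ = j.ρ
  have h3 : j.κ (mq g0) ^ 3 = 1 := by
    rw [← map_pow, show mq g0 ^ 3 = 1 from Subtype.ext (((rp_mq isM_g0).powId_iff 3).1 (by decide +kernel)), map_one]
  have h4 := j.rho_three
  have h6 := j.toMM.c_inv ha
  rw [e] at h4 ⊢
  generalize j.κ (mq g0) = k at *
  generalize j.c a = c at *
  calc k * c * k⁻¹ * k * (k * c * k⁻¹)⁻¹ = c⁻¹ * ((c * k) ^ 3 * (k ^ 3)⁻¹) * k := by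
        rw [conj_inv, pow_three', pow_three']
        nth_rw 1 [h6]
        group
    _ = c * k := by rw [h4, h3, h6]; group

theorem exists_nm {j : JM z} (hj : j.Good) : ∃ j' : JM z, Nm j' := by
  obtain ⟨j, hj, h1⟩ := exists_rho hj
  obtain ⟨a, ha, pa⟩ := exists_Pv hj h1 (U := 64) (by norm_num) rfl
  obtain ⟨b, hb, pb⟩ := exists_Pv hj h1 (U := 128) (by norm_num) rfl
  obtain ⟨c, hc, pc⟩ := exists_Pv hj h1 (U := 256) (by norm_num) rfl
  have h4 : ∀ {U v : ℕ}, Pv j U v → ∀ p ∈ sp4 U v, Pv j p.1 p.2 := fun h p hp => by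
    simp only [sp4, List.mem_cons, List.not_mem_nil, or_false] at hp
    rcases hp with rfl | rfl | rfl | rfl
    exacts [Pv.zero, h, h.rho hj h1, h.xor hj (h.rho hj h1)]
  have mp : ∀ {x y : Bool}, (!x || y) = true → x = true → y = true := by decide
  have k1 := of_allLT plane_check ha
  rw [frc_eq] at k1
  have k2 := of_allLT (mp k1 (pa.tst hj)) hb
  rw [frc_eq] at k2
  have k4 := of_allLT (mp k2 ((allL_iff _ _).2 fun p hp => (pb.xor hj (h4 pa p hp)).tst hj)) hc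
  rw [frc_eq] at k4
  have k3 := mp k4 ((allL_iff _ _).2 fun p hp => (allL_iff _ _).2 fun q hq =>
    ((pc.xor hj (h4 pa p hp)).xor hj (h4 pb q hq)).tst hj)
  simp only [Bool.not_eq_true', ← Bool.not_eq_true, allLT_iff, not_forall,
    not_not, Bool.and_eq_true, beq_iff'] at k3
  obtain ⟨x, hx, e1, e2, e3⟩ := k3
  have hv : j.l x ∈ j.V := (mem_V hj).2 ⟨0, by norm_num, x, hx, 0, by norm_num, by simp [j.s_zero]⟩
  have hj' := hj.cv hv
  have h1' : (j.cv hv).κ (mq g0) = (j.cv hv).ρ := by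
    show j.l x * j.κ (mq g0) * _ = j.ρ
    rw [h1, rho_l j hx, mul_inv_cancel_right]
  have h5 : ∀ {u v : ℕ}, u < 64 → Pv j (64 * u) v → Pv (j.cv hv) (64 * u) (mv (uM x) v) := fun hu h => by
    obtain ⟨h2, h3, a, e⟩ := h
    refine ⟨h2, mv_lt _ _, a, ?_⟩
    rw [psi_s hj hu] at e
    refine (congrArg _ (psi_s hj' hu)).trans ?_
    rw [j.cv_κ, e, ← conj_mul, j.toHM2.l_conj_s hx h3, conj_zpow (j.toHM2.l_z hx)]
    rfl
  have q1 := h5 (u := 1) (by norm_num) pa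
  have q2 := h5 (u := 2) (by norm_num) pb
  have q3 := h5 (u := 4) (by norm_num) pc
  rw [show mv (uM x) (a ^^^ 64) = 64 from e1] at q1
  rw [show mv (uM x) (b ^^^ 128) = 128 from e2] at q2
  rw [show mv (uM x) (c ^^^ 256) = 256 from e3] at q3
  generalize j.cv hv = j' at hj' h1' q1 q2 q3
  have h6 : ∀ u < 2 ^ 6, Pv j' (64 * u) (64 * u) := by
    refine bits_ind' 6 (Pv.zero) (fun i hi => ?_) fun u _ u' _ h h' => ?_
    · interval_cases i
      exacts [q1, q2, q3, q1.rho hj' h1', q2.rho hj' h1', q3.rho hj' h1']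
    · have := h.xor hj' h'
      rwa [show 64 = 2 ^ 6 from rfl, mul_comm, mul_comm _ u', ← Nat.shiftLeft_eq, ← Nat.shiftLeft_eq,
        ← Nat.shiftLeft_xor_distrib, Nat.shiftLeft_eq, mul_comm] at this
  refine ⟨j', hj', h1', fun u hu => ?_⟩
  obtain ⟨⟨h2, -⟩, -, a, e⟩ := h6 u hu
  have h := of_allLT hx_check hu
  simp only [frc_eq, Bool.and_eq_true, beq_iff'] at h
  have e1 := κ_rho hj' h1' h2
  have e2 := κ_rho hj' h1' (rho_lt h2)
  rw [e, ← conj_mul, j'.toHM.rho_conj_s h2, conj_zpow j'.rho_z] at e1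
  rw [e1, ← conj_mul, j'.toHM.rho_conj_s (rho_lt h2), conj_zpow j'.rho_z, rho_rho h2, psi_xor hj' h2 (rho_lt h2),
    map_mul, e, e1, j'.toHM.s_xor h2 (rho_lt h2), show beta (64 * u) (rho (64 * u)) = 0 from h.2.1, pow_zero,
    mul_one, ← mul_assoc, mul_left_inj, mul_assoc, ← j'.toHM.s_zpow (rho_lt h2), ← mul_assoc, mul_eq_left] at e2
  rw [← psi_s hj' hu, e, e2, mul_one]

end Rec

end CfsgLib.J4T
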