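import Mathlib
import Cfsg.Agent.Lib.J4T.DD
import Cfsg.Agent.Lib.ZStar.Main
import Cfsg.Agent.Lib.BenderRed.BasicA

/-!
# Groups of Janko-four type: the centraliser of `ρ` lies in `C(z)`
-/

set_option autoImplicit false

namespace CfsgLib.J4T

open Cfsg CfsgLib.Golay CfsgLib.M24E CfsgLib.LargeExtra Subgroup
open scoped Pointwise

namespace G3

section MM

variable {G : Type*} [Group G] {z : G} (m : MM z)

theorem even_sd {a b : Finset GolayPt} (ha : Even a.card) (hb : Even b.card) : Even (symmDiff a b).card := by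
  have := card_symmDiff_add a b
  rw [Nat.even_iff] at *
  omega

theorem c_sq {a : Finset GolayPt} (ha : Even a.card) : m.c a * m.c a = 1 := by
  rw [← m.c_mul a a ha ha, symmDiff_self]
  exact (m.c_eq_one _ (by simp)).2 empty_mem_codeSets

theorem c_comm {a b : Finset GolayPt} (ha : Even a.card) (hb : Even b.card) : m.c a * m.c b = m.c b * m.c a := by
  rw [← m.c_mul a b ha hb, ← m.c_mul b a hb ha, symmDiff_comm]

theorem c_eq_iff {a b : Finset GolayPt} (ha : Even a.card) (hb : Even b.card) :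
    m.c a = m.c b ↔ symmDiff a b ∈ codeSets := by
  rw [← m.c_eq_one _ (even_sd ha hb), m.c_mul a b ha hb]
  constructor
  · intro h; rw [h, c_sq m hb]
  · intro h
    rw [eq_inv_of_mul_eq_one_left h, inv_eq_of_mul_eq_one_right (c_sq m hb)]

theorem c_mem {a : Finset GolayPt} (ha : Even a.card) : m.c a ∈ m.V := (m.mem_V _).2 ⟨a, ha, rfl⟩

theorem V_sq {x : G} (hx : x ∈ m.V) : x * x = 1 := by
  obtain ⟨a, ha, rfl⟩ := (m.mem_V x).1 hx
  exact c_sq m ha

theorem V_comm {x y : G} (hx : x ∈ m.V) (hy : y ∈ m.V) : x * y = y * x := by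
  obtain ⟨a, ha, rfl⟩ := (m.mem_V x).1 hx
  obtain ⟨b, hb, rfl⟩ := (m.mem_V y).1 hy
  exact c_comm m ha hb

theorem duad_inj {a b : Finset GolayPt} (ha : a.card = 2) (hb : b.card = 2) (h : m.c a = m.c b) : a = b := by
  have h1 := card_codeSet ((c_eq_iff m (by rw [ha]; decide) (by rw [hb]; decide)).1 h)
  have h2 := card_symmDiff_add a b
  have h3 : (symmDiff a b).card = 0 := by omega
  rw [Finset.card_eq_zero] at h3
  exact symmDiff_eq_bot.1 h3

theorem apply_mem_of_smul {g : P24} {p q : GolayPt} (h : g • ({p, q} : Finset GolayPt) = {p, q}) :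
    (g p = p ∨ g p = q) ∧ (g q = p ∨ g q = q) := by
  have h1 : ∀ r ∈ ({p, q} : Finset GolayPt), g r ∈ ({p, q} : Finset GolayPt) := fun r hr => by
    rw [← h]; exact (smul_mem_smul' g).2 hr
  exact ⟨by simpa using h1 p (by simp), by simpa using h1 q (by simp)⟩

theorem eq_one_of_duads {g : P24} (h : ∀ d : Finset GolayPt, d.card = 2 → g • d = d) : g = 1 := by
  ext p
  have h1 : ∀ p : GolayPt, ∃ q r : GolayPt, p ≠ q ∧ p ≠ r ∧ q ≠ r := by decide
  obtain ⟨q, r, h2, h3, h4⟩ := h1 p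
  have a := (apply_mem_of_smul (h _ (Finset.card_pair h2))).1
  have b := (apply_mem_of_smul (h _ (Finset.card_pair h3))).1
  have : g p = p := by
    rcases a with a | a
    · exact a
    · rcases b with b | b
      · exact b
      · exact absurd (a.symm.trans b) h4
  rw [this]; rfl

theorem conj_c {a b : Finset GolayPt} (ha : Even a.card) (hb : Even b.card) (g : M24) :
    m.c a * m.κ g * m.c b * (m.c a * m.κ g)⁻¹ = m.c ((g : P24) • b) := by
  have h1 : m.c a * m.κ g * m.c b * (m.c a * m.κ g)⁻¹ = m.c a * (m.κ g * m.c b * (m.κ g)⁻¹) * (m.c a)⁻¹ := by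
    group
  rw [h1, m.conj g b hb, c_comm m ha (by rwa [Finset.card_smul_finset]), mul_inv_cancel_right]

/-- an element of order 3 of `N(V)` centralising a duad is conjugate to `κ q3a` -/
theorem conj_three {y : G} (hy : y ∈ normalizer (m.V : Set G)) (h3 : y ^ 3 = 1) (h1 : y ≠ 1)
    {d : Finset GolayPt} (hd : d.card = 2) (hc : y * m.c d = m.c d * y) :
    IsConj (m.κ ⟨pm q3a, pm_mem isM_q3a⟩) y := by
  obtain ⟨a, ha, g, rfl⟩ := (m.mem_M y).1 hy
  have ev : ∀ (k : P24) {b : Finset GolayPt}, b.card = 2 → (k • b).card = 2 := fun k b hb => by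
    rw [Finset.card_smul_finset, hb]
  have e2 : ∀ {b : Finset GolayPt}, b.card = 2 → Even b.card := fun hb => by rw [hb]; decide
  have g3 : (g : P24) ^ 3 = 1 := by
    refine eq_one_of_duads fun b hb => duad_inj m (ev _ hb) hb ?_
    have : ((g : P24) ^ 3) • b = (g : P24) • (g : P24) • (g : P24) • b := by
      rw [pow_three, mul_smul, mul_smul]
    rw [this, ← conj_c m ha (e2 (ev _ (ev _ hb))), ← conj_c m ha (e2 (ev _ hb)), ← conj_c m ha (e2 hb)]
    generalize m.c a * m.κ g = y at h3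
    calc _ = y ^ 3 * m.c b * (y ^ 3)⁻¹ := by rw [pow_three]; group
      _ = _ := by rw [h3]; group
  have g1 : (g : P24) ≠ 1 := by
    intro e
    have e' : g = 1 := Subtype.ext e
    rw [e', map_one, mul_one] at h3 h1
    rw [pow_three, c_sq m ha, mul_one] at h3
    exact h1 h3
  have gd : (g : P24) • d = d := by
    refine duad_inj m (ev _ hd) hd ?_
    rw [← conj_c m ha (e2 hd), hc, mul_inv_cancel_right]
  have gf : fixS (g : P24) ≠ ∅ := by
    obtain ⟨p, q, hpq, rfl⟩ := Finset.card_eq_two.1 hd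
    obtain ⟨h4, h5⟩ := apply_mem_of_smul gd
    rw [Ne, fixS_eq_empty]
    intro h
    have h6 := h4.resolve_left (h p)
    have h7 := h5.resolve_right (h q)
    have h8 : ((g : P24) ^ 3) p = p := by rw [g3]; rfl
    rw [pow_three, Equiv.Perm.mul_apply, Equiv.Perm.mul_apply, h6, h7, h6] at h8
    exact hpq h8.symm
  have : Fact (Nat.Prime 3) := ⟨Nat.prime_three⟩
  obtain ⟨r, hr, e⟩ := conj_q3a g.2 (orderOf_eq_prime g3 g1) gf
  have c1 : IsConj (m.κ ⟨pm q3a, pm_mem isM_q3a⟩) (m.κ g) :=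
    isConj_iff.2 ⟨m.κ ⟨r, hr⟩, by rw [← map_inv, ← map_mul, ← map_mul]; congr 1; exact Subtype.ext e⟩
  refine c1.trans (isConj_iff.2 ?_)
  have k3 : m.κ g ^ 3 = 1 := by rw [← map_pow, show g ^ 3 = 1 from Subtype.ext g3, map_one]
  have m1 : m.κ g * m.c a * (m.κ g)⁻¹ ∈ m.V := by
    rw [m.conj g a ha]; exact c_mem m (by rwa [Finset.card_smul_finset])
  have m2 : m.κ g * (m.κ g * m.c a * (m.κ g)⁻¹) * (m.κ g)⁻¹ ∈ m.V := by
    rw [m.conj g a ha, m.conj g _ (by rwa [Finset.card_smul_finset])]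
    exact c_mem m (by rwa [Finset.card_smul_finset, Finset.card_smul_finset])
  have s0 := c_sq m ha
  generalize m.κ g = k at *
  generalize m.c a = v at *
  refine ⟨k * v * k⁻¹, ?_⟩
  have h4 : v * ((k * v * k⁻¹) * (k * (k * v * k⁻¹) * k⁻¹)) = 1 := by
    calc _ = (v * k) ^ 3 * (k ^ 3)⁻¹ := by rw [pow_three, pow_three]; group
      _ = 1 := by rw [h3, k3]; group
  have h5 : (k * v * k⁻¹) * (k * (k * v * k⁻¹) * k⁻¹) = v := by
    rw [← inv_eq_of_mul_eq_one_right h4, inv_eq_of_mul_eq_one_right s0]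
  rw [inv_eq_of_mul_eq_one_right (V_sq m m1)]
  conv_rhs => rw [← h5]
  group

end MM

section

variable {G : Type*} [Group G] {z : G}

theorem rE_one : rE 1 = uE 4 := by decide +kernel

/-- inner involutions conjugate to `z` are `K`-conjugate to `l 4` -/
theorem conj_l4 (h : HM2 z) {y : G} (hy : y ∈ h.K2) (h0 : h.θ y (pt 0) = pt 0) (h1 : h.θ y ≠ 1) (h2 : y * y = 1)
    (c : IsConj z y) : ∃ k ∈ h.KK, k * h.l 4 * k⁻¹ = y := by
  have hz := h.K2_z hy
  obtain ⟨r, hr, r0, e⟩ := inv_inner (h.θ_mem y hz) h0 (by rw [← h.θ_mul _ _ hz hz, h2, h.θ_one]) h1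
  obtain ⟨k, hk, rfl⟩ := h.θ_surj r hr
  refine ⟨k, h.mem_KK.2 ⟨hk, r0⟩, ?_⟩
  have l4 : (4 : ℕ) < 16 := by norm_num
  refine h.lift_unique hy (mul_mem (mul_mem hk (h.l_mem 4 l4)) (inv_mem hk)) ?_ h0 h1 h2 ?_ c ?_
  · rw [h.θ_conj (h.K2_z hk) (h.l_z l4), (h.l_rk l4).θ_eq, ← rE_one, e]
  · calc _ = k * (h.l 4 * h.l 4) * k⁻¹ := by group
      _ = 1 := by rw [h.l_sq l4]; group
  · exact (h.l_conj 4 l4 (by norm_num)).trans (isConj_iff.2 ⟨k, rfl⟩)

theorem not_conj_one (h : HM z) : ¬ IsConj z 1 := fun c => h.z_ne (isConj_one_right.1 c.symm ▸ rfl)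

/-- involutions in the kernel of `θ` on `K2` -/
theorem ker_two (h : HM z) {y : G} (hy : y ∈ h.K2) (e : h.θ y = 1) (h2 : y * y = 1) : y = 1 ∨ y = z :=
  h.E_inf_K2 (h.mem_E_of_two (h.K2_z hy) e (n := 1) (by rw [pow_one, pow_two, h2])) hy

theorem l_KK (h : HM2 z) {x : ℕ} (hx : x < 16) : h.l x ∈ h.KK := h.mem_KK.2 ⟨h.l_mem x hx, h.l_inner hx⟩

theorem KK_rho (h : HM z) {k : G} (hk : k ∈ h.KK) : k * h.ρ = h.ρ * k := mem_cent.1 hk.2

theorem mem_KK_of (h : HM z) {k : G} (hz : k * z = z * k) (hk : k * h.ρ = h.ρ * k) : k ∈ h.KK :=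
  ⟨h.mem_K2_of_comm hz hk, mem_cent.2 hk⟩

/-- `z` is isolated in `C(ρ)` -/
theorem isolated (h : HM2 z) {x : G} (hx : x * h.ρ = h.ρ * x) (hc : z * (x * z * x⁻¹) = x * z * x⁻¹ * z) :
    x * z * x⁻¹ = z := by
  by_contra hne
  have cx : Commute x h.ρ := hx
  have cz : Commute z h.ρ := h.rho_z.symm
  have hy : x * z * x⁻¹ ∈ h.KK := mem_KK_of h.toHM hc.symm ((cx.mul_left cz).mul_left cx.inv_left)
  have c : IsConj z (x * z * x⁻¹) := isConj_iff.2 ⟨x, rfl⟩
  have h2 : x * z * x⁻¹ * (x * z * x⁻¹) = 1 := by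
    calc _ = x * (z * z) * x⁻¹ := by group
      _ = 1 := by rw [h.zz]; group
  have h1 : h.θ (x * z * x⁻¹) ≠ 1 := fun e => by
    rcases ker_two h.toHM hy.1 e h2 with e1 | e1
    · exact not_conj_one h.toHM (e1 ▸ c)
    · exact hne e1
  obtain ⟨k, hk, e⟩ := conj_l4 h hy.1 (h.mem_KK.1 hy).2 h1 h2 c
  have l3 : (3 : ℕ) < 16 := by norm_num
  have l4 : (4 : ℕ) < 16 := by norm_num
  have l7 : (7 : ℕ) < 16 := by norm_num
  have m34 : h.l 3 * h.l 4 = h.l 7 := by
    rw [h.l_mul 3 l3 4 l4, show fU 3 4 = 0 by decide +kernel, pow_zero, mul_one]; rfl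
  have m43 : h.l 4 * h.l 3 = h.l 7 := by
    rw [h.l_mul 4 l4 3 l3, show fU 4 3 = 0 by decide +kernel, pow_zero, mul_one]; rfl
  have ez : z = x⁻¹ * k * h.l 4 * (x⁻¹ * k)⁻¹ := by
    calc z = x⁻¹ * (x * z * x⁻¹) * x := by group
      _ = _ := by rw [← e]; group
  set u := x⁻¹ * k with hu
  have cu : Commute u h.ρ := cx.inv_left.mul_left (KK_rho h.toHM hk)
  have bz : u * h.l 3 * u⁻¹ * z = u * h.l 7 * u⁻¹ := by
    calc _ = u * h.l 3 * u⁻¹ * (u * h.l 4 * u⁻¹) := by rw [← ez]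
      _ = _ := by rw [← m34]; group
  have zb : z * (u * h.l 3 * u⁻¹) = u * h.l 7 * u⁻¹ := by
    calc _ = u * h.l 4 * u⁻¹ * (u * h.l 3 * u⁻¹) := by rw [← ez]
      _ = _ := by rw [← m43]; group
  have hb : u * h.l 3 * u⁻¹ ∈ h.KK := mem_KK_of h.toHM (bz.trans zb.symm)
    ((cu.mul_left (KK_rho h.toHM (l_KK h l3))).mul_left cu.inv_left)
  have b2 : u * h.l 3 * u⁻¹ * (u * h.l 3 * u⁻¹) = 1 := by
    calc _ = u * (h.l 3 * h.l 3) * u⁻¹ := by group
      _ = 1 := by rw [h.l_sq l3]; group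
  have c3 : IsConj z (u * h.l 3 * u⁻¹) := (h.l_conj 3 l3 (by norm_num)).trans (isConj_iff.2 ⟨u, rfl⟩)
  have c7 : IsConj z (u * h.l 3 * u⁻¹ * z) :=
    bz ▸ (h.l_conj 7 l7 (by norm_num)).trans (isConj_iff.2 ⟨u, rfl⟩)
  have b1 : h.θ (u * h.l 3 * u⁻¹) ≠ 1 := fun e => by
    rcases ker_two h.toHM hb.1 e b2 with e1 | e1
    · exact not_conj_one h.toHM (e1 ▸ c3)
    · rw [e1, h.zz] at c7; exact not_conj_one h.toHM c7
  exact (h.one_of _ hb.1 (h.mem_KK.1 hb).2 b1 b2).1 c3 c7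

/-- the elements `l x * z` are duads -/
theorem lz_duad (j : JM z) {x d : ℕ} (hx : x < 16)
    (h : (pc (lm x) = 4 ∧ lm x < 2 ^ 24 ∧ pc d = 2 ∧ d < 2 ^ 24) ∧ isCode (lm x ^^^ 15 ^^^ d) = true) :
    (ofMask d).card = 2 ∧ j.l x * z = j.c (ofMask d) := by
  obtain ⟨⟨h1, h2, h3, h4⟩, h5⟩ := h
  have e1 : Even (ofMask (lm x)).card := by rw [card_ofMask h2, h1]; decide
  have e2 : Even (ofMask 15).card := by rw [card_ofMask (by norm_num)]; decide +kernel
  have e3 : (ofMask d).card = 2 := by rw [card_ofMask h4, h3]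
  refine ⟨e3, ?_⟩
  have e4 := j.c_mul _ _ e1 e2
  rw [← j.z_eq, ← j.link_l x hx] at e4
  rw [← e4, c_eq_iff j.toMM (even_sd e1 e2) (by rw [e3]; decide), ← ofMask_xor, ← ofMask_xor]
  exact mem_of_isCode h5

theorem duad1 (j : JM z) : (ofMask 262152).card = 2 ∧ j.l 1 * z = j.c (ofMask 262152) :=
  lz_duad j (by norm_num) (by decide +kernel)

theorem duad4 (j : JM z) : (ofMask 786432).card = 2 ∧ j.l 4 * z = j.c (ofMask 786432) :=
  lz_duad j (by norm_num) (by decide +kernel)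

theorem duad5 (j : JM z) : (ofMask 524296).card = 2 ∧ j.l 5 * z = j.c (ofMask 524296) :=
  lz_duad j (by norm_num) (by decide +kernel)

theorem z_mem_V (j : JM z) : z ∈ j.V := by
  have := c_mem j.toMM (a := ofMask 15) (by rw [card_ofMask (by norm_num)]; decide +kernel)
  rwa [← j.z_eq] at this

end

end G3

open G3

variable {G : Type*} [Group G] [Finite G] {z : G}

theorem JM.Good.cent3 {j : JM z} (hj : j.Good) : ∀ x : G, x * j.ρ = j.ρ * x → x * z = z * x := by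
  intro x hx
  set X := centralizer ({j.ρ} : Set G) with hX
  have zX : z ∈ X := mem_cent.2 j.rho_z.symm
  have iso : IsIsolatedInvolution (⟨z, zX⟩ : X) := by
    refine ⟨by rw [← j.orderOf_z]; exact (orderOf_mk z zX), fun g hg => Subtype.ext ?_⟩
    exact isolated j.toHM2 (mem_cent.1 g.2) (congrArg Subtype.val hg.eq)
  set W := (pPrimeCore 2 X).map X.subtype with hW
  have odd : Odd (Nat.card W) := by
    rw [hW, card_map_of_injective X.subtype_injective]; exact Core.odd_card_oddCore _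
  have nW : ∀ g ∈ X, ∀ w ∈ W, g * w * g⁻¹ ∈ W := by
    rintro g hg _ ⟨w, hw, rfl⟩
    exact ⟨_, (inferInstance : (pPrimeCore 2 X).Normal).conj_mem w hw ⟨g, hg⟩, rfl⟩
  have nW' : ∀ g ∈ X, g ∈ normalizer (W : Set G) := fun g hg => by
    rw [mem_normalizer_iff]
    intro w
    refine ⟨nW g hg w, fun h => ?_⟩
    simpa [mul_assoc] using nW _ (inv_mem hg) _ h
  have sq1 : ∀ w ∈ W, w * w = 1 → w = 1 := fun w hw h2 => by
    have h1 : orderOf w ∣ Nat.card W := W.orderOf_dvd_natCard hw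
    have h3 : orderOf w ∣ 2 := orderOf_dvd_of_pow_eq_one (by rw [pow_two, h2])
    exact orderOf_eq_one_iff.1 (Nat.eq_one_of_dvd_coprimes (Nat.coprime_two_right.2 odd) h1 h3)
  have duad : ∀ d : Finset GolayPt, d.card = 2 → W ⊓ centralizer {j.c d} ≤ centralizer ({z} : Set G) := by
    rintro d hd w ⟨h1, h2⟩
    have h3 := (mem_normalizer_iff.1 (hj.full.cent_duad d hd h2) z).1 (z_mem_V j)
    have h4 : z * (w * z * w⁻¹) ∈ j.V := mul_mem (z_mem_V j) h3
    have h5 : z * (w * z * w⁻¹) ∈ W := by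
      have := mul_mem (nW z zX w h1) (inv_mem h1)
      rwa [j.z_inv, mul_assoc, mul_assoc, ← mul_assoc w] at this
    have h6 := sq1 _ h5 (V_sq j.toMM h4)
    rw [mem_cent, ← mul_inv_eq_iff_eq_mul, ← j.z_inv, eq_inv_iff_mul_eq_one, j.z_inv, ← h6,
      V_comm j.toMM (z_mem_V j) h3]
  have : Fact (Nat.Prime 2) := ⟨Nat.prime_two⟩
  have ord : ∀ d : Finset GolayPt, d.card = 2 → orderOf (j.c d) = 2 := fun d hd => by
    have e : Even d.card := by rw [hd]; decide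
    refine orderOf_eq_prime (by rw [pow_two, c_sq j.toMM e]) fun h => ?_
    have := card_codeSet ((j.c_eq_one d e).1 h)
    omega
  have lX : ∀ y < 16, j.l y * z ∈ X := fun y hy => mul_mem (l_KK j.toHM2 hy).2 zX
  obtain ⟨c1, e1⟩ := duad1 j
  obtain ⟨c4, e4⟩ := duad4 j
  obtain ⟨c5, e5⟩ := duad5 j
  have e6 : j.c (ofMask 262152) * j.c (ofMask 786432) = j.c (ofMask 524296) := by
    rw [← j.c_mul _ _ (by rw [c1]; decide) (by rw [c4]; decide), ← ofMask_xor]; rfl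
  have WC : W ≤ centralizer ({z} : Set G) := by
    refine BenderRed.le_of_four odd (ord _ c1) (ord _ c4) (fun e => ?_)
      (c_comm j.toMM (by rw [c1]; decide) (by rw [c4]; decide)) (nW' _ (e1 ▸ lX 1 (by norm_num)))
      (nW' _ (e4 ▸ lX 4 (by norm_num))) (duad _ c1) (duad _ c4) (e6 ▸ duad _ c5)
    exact absurd (ofMask_injOn (by norm_num) (by norm_num) (duad_inj j.toMM c1 c4 e)) (by norm_num)
  have t : z * x * z⁻¹ * x⁻¹ ∈ W := ⟨_, ZStar.zstar iso ⟨x, mem_cent.2 hx⟩, rfl⟩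
  have t1 := mem_cent.1 (WC t)
  have t2 : z * x * z⁻¹ * x⁻¹ * (z * x * z⁻¹ * x⁻¹) = 1 := by
    calc _ = z * x * z⁻¹ * x⁻¹ * z * (x * z⁻¹ * x⁻¹) := by group
      _ = z * z * (x * (z * z)⁻¹ * x⁻¹) := by rw [t1]; group
      _ = 1 := by rw [j.zz]; group
  have t3 := sq1 _ t t2
  rw [mul_inv_eq_one, mul_inv_eq_iff_eq_mul] at t3
  exact t3.symm

end CfsgLib.J4T
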