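import Mathlib
import Cfsg.Agent.Lib.J4T.ThreeA
import Cfsg.Agent.Lib.PGroup.MaxClass2

/-!
# Groups of Janko-four type: a Sylow 3-subgroup and the class of elements of order 3
-/

set_option autoImplicit false

namespace CfsgLib.J4T

open Cfsg CfsgLib.Golay CfsgLib.M24E CfsgLib.LargeExtra Subgroup
open scoped Pointwise

namespace G3

/-- an element of order 3 of `M22` -/
def qA : ℕ := 0xbd82d3ba32ac12c11a934154b191e0
/-- an element of order 3 of `M22` commuting with `qA` -/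
def qB : ℕ := 0xbda8e43d814d60359a4799544889a0
/-- a matrix over `qA` -/
def mA : ℕ := 0x4a17b3ff340dd5de1d03302d00c01d028025
/-- a matrix over `qB` -/
def mB : ℕ := 0x11a484e2b9114241de00501b00802d018001

theorem chkL_A : chkL qA mA = true := by decide +kernel
theorem chkL_B : chkL qB mB = true := by decide +kernel
theorem isM_A : isM qA = true := (HM.chkL_DD chkL_A).1
theorem isM_B : isM qB = true := (HM.chkL_DD chkL_B).1

theorem A3 : pm qA ^ 3 = 1 := ((pm_rp isM_A).powId_iff 3).1 (by decide +kernel)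
theorem B3 : pm qB ^ 3 = 1 := ((pm_rp isM_B).powId_iff 3).1 (by decide +kernel)
theorem AB : Commute (pm qA) (pm qB) :=
  ((pm_rp isM_A).intw_iff (pm_rp isM_B) (pm_rp isM_B)).1 (by decide +kernel)
theorem A_ne : pm qA ≠ 1 := fun e => absurd ((pm_rp isM_A).isId_iff.2 e) (by decide +kernel)
theorem B_ne : pm qB ≠ 1 := fun e => absurd ((pm_rp isM_B).isId_iff.2 e) (by decide +kernel)

theorem pow_mod3 {H : Type*} [Group H] {a : H} (h : a ^ 3 = 1) (i : ℕ) : a ^ (i % 3) = a ^ i := by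
  conv_rhs => rw [← Nat.div_add_mod i 3, pow_add, pow_mul, h, one_pow, one_mul]

/-- the Sylow 3-subgroup of `M22` generated by `qA`, `qB` -/
def TT : Subgroup P24 where
  carrier := {g | ∃ i k : ℕ, g = pm qA ^ i * pm qB ^ k}
  one_mem' := ⟨0, 0, by simp⟩
  mul_mem' := by
    rintro _ _ ⟨i, k, rfl⟩ ⟨i', k', rfl⟩
    refine ⟨i + i', k + k', ?_⟩
    rw [pow_add, pow_add, mul_assoc, ← mul_assoc (pm qB ^ k), ← (AB.pow_pow i' k).eq]
    group
  inv_mem' := by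
    rintro _ ⟨i, k, rfl⟩
    refine ⟨2 * i, 2 * k, inv_eq_of_mul_eq_one_right ?_⟩
    rw [mul_assoc, ← mul_assoc (pm qB ^ k), ← (AB.pow_pow _ k).eq, mul_assoc, ← pow_add, ← mul_assoc, ← pow_add,
      show i + 2 * i = 3 * i by ring, show k + 2 * k = 3 * k by ring, pow_mul, pow_mul, A3, B3]
    simp

theorem mem_TT {g : P24} : g ∈ TT ↔ ∃ i < 3, ∃ k < 3, g = pm qA ^ i * pm qB ^ k :=
  ⟨fun ⟨i, k, e⟩ => ⟨i % 3, Nat.mod_lt _ (by norm_num), k % 3, Nat.mod_lt _ (by norm_num), by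
    rw [pow_mod3 A3, pow_mod3 B3, e]⟩, fun ⟨i, _, k, _, e⟩ => ⟨i, k, e⟩⟩

theorem A_TT : pm qA ∈ TT := ⟨1, 0, by simp⟩
theorem B_TT : pm qB ∈ TT := ⟨0, 1, by simp⟩

theorem TT_comm {g h : P24} (hg : g ∈ TT) (hh : h ∈ TT) : Commute g h := by
  obtain ⟨i, k, rfl⟩ := hg
  obtain ⟨i', k', rfl⟩ := hh
  exact (((Commute.refl _).pow_pow _ _).mul_right (AB.pow_pow _ _)).mul_left
    ((AB.symm.pow_pow _ _).mul_right ((Commute.refl _).pow_pow _ _))

theorem TT_inner {g : P24} (hg : g ∈ TT) : g (pt 0) = pt 0 := by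
  obtain ⟨i, k, rfl⟩ := hg
  have a : pm qA (pt 0) = pt 0 := ((pm_rp isM_A).pt_eq_iff (by norm_num) (by norm_num)).2 (by decide +kernel)
  have b : pm qB (pt 0) = pt 0 := ((pm_rp isM_B).pt_eq_iff (by norm_num) (by norm_num)).2 (by decide +kernel)
  rw [Equiv.Perm.mul_apply, Equiv.Perm.pow_apply_eq_self_of_apply_eq_self b,
    Equiv.Perm.pow_apply_eq_self_of_apply_eq_self a]

/-- computes `qA ^ i * qB ^ k` -/
noncomputable def tF (i k x : ℕ) : ℕ := itF (ap qA) i (itF (ap qB) k x)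

theorem rp_tF (i k : ℕ) : Rp (tF i k) (pm qA ^ i * pm qB ^ k) := ((pm_rp isM_A).pow i).mul ((pm_rp isM_B).pow k)

theorem TT_inj {i k i' k' : ℕ} (hi : i < 3) (hk : k < 3) (hi' : i' < 3) (hk' : k' < 3)
    (e : pm qA ^ i * pm qB ^ k = pm qA ^ i' * pm qB ^ k') : i = i' ∧ k = k' := by
  have h := of_allLT (of_allLT (of_allLT (of_allLT (f := fun i => allLT 3 fun k => allLT 3 fun i' => allLT 3 fun k' =>
    or (not (eqF (tF i k) (tF i' k'))) (and (Nat.beq i i') (Nat.beq k k'))) (by decide +kernel) hi) hk) hi') hk'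
  rw [((rp_tF i k).eqF_iff (rp_tF i' k')).2 e] at h
  simpa [beq_iff'] using h

/-- the non-identity elements of `TT` -/
def L8 : List ℕ := [0xbda8e43d814d60359a4799544889a0, 0xbd9d53a46d95031595f3428c460a00,
  0xbd82d3ba32ac12c11a934154b191e0, 0xbd9b09d58fa0643115c83a8cb89120, 0xbda0145069735f112aa7998ab61240,
  0xbd9e94422e0ca8c215a79a8c21aea0, 0xbd932385956bdc322a13418a28ae80, 0xbda4f9b474826b1218283954262dc0]

/-- conjugating elements -/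
def R8 : List ℕ := [0xbd9d233481a41e28cd2a2a0e35b2a0, 0xbd82f5516e6d6421a1262ccf123200, 0xbdab49ca307b9ac5a928398a418820,
  0xbd935650ef0c1b3312511ac45429c0, 0xbdab2238af4b68a40c225b23331e00, 0xbda0d43c759068c219333a8ab889c0,
  0xbd9c1254d06a68a4464b130672cde0, 0xbd8348d4ed4c9e83120c1896a995c0]

theorem isM_L8 {t : ℕ} (ht : t ∈ L8) : isM t = true := (allL_iff L8 isM).1 (by decide +kernel) t ht

theorem L8_TT {t : ℕ} (ht : t ∈ L8) : pm t ∈ TT := by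
  have h := (allL_iff L8 fun t => anyL [0, 1, 2] fun i => anyL [0, 1, 2] fun k => eqF (ap t) (tF i k)).1
    (by decide +kernel) t ht
  simp only [anyL_iff] at h
  obtain ⟨i, -, k, -, h⟩ := h
  exact ⟨i, k, ((pm_rp (isM_L8 ht)).eqF_iff (rp_tF i k)).1 h⟩

theorem TT_L8 {g : P24} (hg : g ∈ TT) (h1 : g ≠ 1) : ∃ t ∈ L8, pm t = g := by
  obtain ⟨i, hi, k, hk, rfl⟩ := mem_TT.1 hg
  have h := of_allLT (of_allLT (f := fun i => allLT 3 fun k => or (isId (tF i k))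
    (anyL L8 fun t => eqF (ap t) (tF i k))) (by decide +kernel) hi) hk
  rw [Bool.or_eq_true, (rp_tF i k).isId_iff, anyL_iff] at h
  obtain ⟨t, ht, h⟩ := h.resolve_left h1
  exact ⟨t, ht, ((pm_rp (isM_L8 ht)).eqF_iff (rp_tF i k)).1 h⟩

theorem TT_conj {g : P24} (hg : g ∈ TT) (h1 : g ≠ 1) : ∃ r ∈ DD, r * pm qA * r⁻¹ = g := by
  obtain ⟨t, ht, rfl⟩ := TT_L8 hg h1
  have h := (allL_iff L8 fun t => anyL R8 fun r => and (and (isM r) (setTo (ap r) 8388609 8388609))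
    (intw (ap r) (ap qA) (ap t))).1 (by decide +kernel) t ht
  simp only [anyL_iff, Bool.and_eq_true] at h
  obtain ⟨r, -, ⟨h2, h3⟩, h4⟩ := h
  exact ⟨pm r, pm_mem_DD h2 h3, mul_inv_eq_iff_eq_mul.2
    (((pm_rp h2).intw_iff (pm_rp isM_A) (pm_rp (isM_L8 ht))).1 h4)⟩

/-- the property defining the normaliser of `TT` in `DD` -/
def PN (g : P24) : Prop := g • ofMask 8388609 = ofMask 8388609 ∧ (∃ t ∈ L8, g * pm qA = pm t * g) ∧
  ∃ t ∈ L8, g * pm qB = pm t * g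

theorem card_PN : Nat.card {g : P24 // g ∈ M24 ∧ PN g} = 144 := by
  have hB : chkB 0x3ac53648c17914d45215495d11dae0 0x890aa488979593b34ebbc4ce1d600 = true := by decide +kernel
  have hc := chkB_lt hB
  rw [card_of_search hB (ok := okAnd (okS (ap 0x3ac53648c17914d45215495d11dae0) 8388609 8388609)
    (okAnd (okAny L8 fun t => okAll (okI (ap 0x3ac53648c17914d45215495d11dae0) (ap qA) (ap t)))
      (okAny L8 fun t => okAll (okI (ap 0x3ac53648c17914d45215495d11dae0) (ap qB) (ap t)))))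
    (t := pk fun φ => and (setTo φ 8388609 8388609) (and (anyL L8 fun t => intw φ (ap qA) (ap t))
      (anyL L8 fun t => intw φ (ap qB) (ap t))))
    ((sound_okS hc fun _ _ h => h.1).and
      ((sound_okAny (fun t g => g * pm qA = pm t * g)
        (fun t ht => (sound_okI hc (pm_rp isM_A) (pm_rp (isM_L8 ht)) fun _ _ h => h).all) fun _ _ h => h.2.1).and
      (sound_okAny (fun t g => g * pm qB = pm t * g)
        (fun t ht => (sound_okI hc (pm_rp isM_B) (pm_rp (isM_L8 ht)) fun _ _ h => h).all) fun _ _ h => h.2.2)))]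
  · decide +kernel
  · intro g _ φ hφ
    rw [pk_eq, Bool.and_eq_true, Bool.and_eq_true, hφ.mk.setFix_iff, anyL_iff, anyL_iff]
    refine and_congr_right fun _ => and_congr ?_ ?_ <;> refine exists_congr fun t => and_congr_right fun ht => ?_
    · exact hφ.mk.intw_iff (pm_rp isM_A) (pm_rp (isM_L8 ht))
    · exact hφ.mk.intw_iff (pm_rp isM_B) (pm_rp (isM_L8 ht))

theorem cube_mul {H : Type*} [Group H] {x y d : H} (hx : Commute d x) (hy : Commute d y) (e : y * x = x * y * d)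
    (x3 : x ^ 3 = 1) (y3 : y ^ 3 = 1) : (x * y) ^ 3 = 1 := by
  have d3 : d ^ 3 = 1 := by
    have h1 : x⁻¹ * y * x = y * d := by rw [mul_assoc, e]; group
    have h2 : (x⁻¹ * y * x) ^ 3 = x⁻¹ * y ^ 3 * x := by rw [pow_three, pow_three]; group
    rw [h1, hy.symm.mul_pow, y3] at h2
    simpa using h2
  calc (x * y) ^ 3 = x * (y * x) * (y * x) * y := by rw [pow_three]; group
    _ = x * x * (y * x) * y * y * d * d := by
      conv_lhs => rw [e]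
      simp only [mul_assoc, hy.eq, hx.left_comm, hy.left_comm]
    _ = x ^ 3 * y ^ 3 * d ^ 3 := by
      rw [e]
      simp only [pow_three, mul_assoc, hy.left_comm]
    _ = 1 := by rw [x3, y3, d3]; simp

section

variable {G : Type*} [Group G] {z : G} (h : HM z)

theorem zrho : Commute z h.ρ := h.rho_z.symm

theorem ker_cube (a i : ℕ) : (z ^ a * h.ρ ^ i) ^ 3 = z ^ a := by
  rw [((zrho h).pow_pow a i).mul_pow, ← pow_mul h.ρ, mul_comm i, pow_mul h.ρ, h.rho_three, one_pow, mul_one,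
    pow_three, h.zpow_self, mul_one]

theorem ker_three {y : G} (hy : y ∈ h.K2) (e : h.θ y = 1) (h3 : y ^ 3 = 1) : ∃ i < 3, y = h.ρ ^ i := by
  obtain ⟨a, -, i, hi, rfl⟩ := h.θ_ker' hy e
  rw [ker_cube] at h3
  exact ⟨i, hi, by rw [h3, one_mul]⟩

theorem ker_comm {y k : G} (hy : y ∈ h.K2) (e : h.θ y = 1) (hk : k ∈ h.KK) : Commute y k := by
  obtain ⟨a, -, i, -, rfl⟩ := h.θ_ker' hy e
  exact ((show Commute k z from h.K2_z hk.1).symm.pow_left a).mul_left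
    ((show Commute k h.ρ from KK_rho h hk).symm.pow_left i)

theorem orderOf_zrho : orderOf (z * h.ρ) = 6 := by
  rw [(zrho h).orderOf_mul_eq_mul_orderOf_of_coprime (by rw [h.orderOf_z, h.orderOf_rho]; norm_num),
    h.orderOf_z, h.orderOf_rho]

theorem ker_iff {y : G} : y ∈ zpowers (z * h.ρ) ↔ y ∈ h.K2 ∧ h.θ y = 1 := by
  constructor
  · intro hy
    have c := comm_mul (z := z) rfl h.rho_z
    obtain ⟨n, rfl⟩ := (Submonoid.mem_powers_iff _ _).1 ((isOfFinOrder_iff_pow_eq_one.2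
      ⟨6, by norm_num, by rw [← orderOf_zrho h, pow_orderOf_eq_one]⟩).mem_powers_iff_mem_zpowers.2 hy)
    exact ⟨pow_mem (mul_mem h.z_mem_K2 h.rho_mem) n, by
      rw [h.θ_pow c, h.θ_E_mul h.z_mem h.rho_z, h.θ_rho, one_pow]⟩
  · rintro ⟨hy, e⟩
    obtain ⟨a, -, i, -, rfl⟩ := h.θ_ker' hy e
    have h1 : (z * h.ρ) ^ 3 = z := by simpa using ker_cube h 1 1
    have h2 : z ∈ zpowers (z * h.ρ) := by
      have := pow_mem (mem_zpowers (z * h.ρ)) 3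
      rwa [h1] at this
    have h3 : h.ρ ∈ zpowers (z * h.ρ) := by
      simpa using mul_mem (inv_mem h2) (mem_zpowers (z * h.ρ))
    exact mul_mem (pow_mem h2 a) (pow_mem h3 i)

/-- `θ` on a subgroup of `K2` -/
def θN (N : Subgroup G) (hN : N ≤ h.K2) : N →* P24 :=
  MonoidHom.mk' (fun x => h.θ x) fun x y => h.θ_mul _ _ (h.K2_z (hN x.2)) (h.K2_z (hN y.2))

theorem ker_θN (N : Subgroup G) (hN : N ≤ h.K2) : (θN h N hN).ker = (zpowers (z * h.ρ)).subgroupOf N := by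
  ext x
  rw [mem_subgroupOf, ker_iff]
  exact ⟨fun e => ⟨hN x.2, e⟩, fun e => e.2⟩

theorem card_six (N : Subgroup G) (hN : N ≤ h.K2) (hz : z ∈ N) (hρ : h.ρ ∈ N) {P : P24 → Prop}
    (hP : ∀ g, (∃ n ∈ N, h.θ n = g) ↔ P g) : Nat.card N = Nat.card {g // P g} * 6 := by
  rw [card_eq_card_quotient_mul_card_subgroup (θN h N hN).ker,
    Nat.card_congr (QuotientGroup.quotientKerEquivRange _).toEquiv, ker_θN,
    Nat.card_congr (subgroupOfEquivOfLe ((zpowers_le).2 (mul_mem hz hρ))).toEquiv, Nat.card_zpowers, orderOf_zrho]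
  congr 1
  refine Nat.card_congr (Equiv.subtypeEquivRight fun g => ?_)
  rw [← hP]
  exact ⟨fun ⟨n, e⟩ => ⟨n, n.2, e⟩, fun ⟨n, hn, e⟩ => ⟨⟨n, hn⟩, e⟩⟩

/-- a Sylow 3-subgroup -/
def R0 : Subgroup G where
  carrier := {x | x ∈ h.K2 ∧ x ^ 3 = 1 ∧ h.θ x ∈ TT}
  one_mem' := ⟨one_mem _, one_pow _, by rw [h.θ_one]; exact one_mem _⟩
  inv_mem' := by
    rintro x ⟨h1, h2, h3⟩
    exact ⟨inv_mem h1, by rw [inv_pow, h2, inv_one], by rw [h.θ_inv (h.K2_z h1)]; exact inv_mem h3⟩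
  mul_mem' := by
    rintro x y ⟨h1, h2, h3⟩ ⟨h4, h5, h6⟩
    have x0 := h.K2_z h1
    have y0 := h.K2_z h4
    refine ⟨mul_mem h1 h4, ?_, by rw [h.θ_mul _ _ x0 y0]; exact mul_mem h3 h6⟩
    have d1 : (x * y)⁻¹ * (y * x) ∈ h.K2 := mul_mem (inv_mem (mul_mem h1 h4)) (mul_mem h4 h1)
    have d2 : h.θ ((x * y)⁻¹ * (y * x)) = 1 := by
      rw [h.θ_mul _ _ (comm_inv (comm_mul x0 y0)) (comm_mul y0 x0), h.θ_inv (comm_mul x0 y0), h.θ_mul _ _ x0 y0,
        h.θ_mul _ _ y0 x0, (TT_comm h3 h6).eq, inv_mul_cancel]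
    exact cube_mul (ker_comm h d1 d2 (h.mem_KK.2 ⟨h1, TT_inner h3⟩)) (ker_comm h d1 d2 (h.mem_KK.2 ⟨h4, TT_inner h6⟩))
      (by group) h2 h5

theorem mem_R0 {x : G} : x ∈ R0 h ↔ x ∈ h.K2 ∧ x ^ 3 = 1 ∧ h.θ x ∈ TT := Iff.rfl

theorem rho_R0 : h.ρ ∈ R0 h := ⟨h.rho_mem, h.rho_three, by rw [h.θ_rho]; exact one_mem _⟩

theorem R0_KK {x : G} (hx : x ∈ R0 h) : x ∈ h.KK := h.mem_KK.2 ⟨hx.1, TT_inner hx.2.2⟩

theorem lift3 {p A : ℕ} (hc : chkL p A = true) (e : mpow A 3 = mI) : ∃ k, h.Rk k p A ∧ k ^ 3 = 1 := by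
  obtain ⟨k, r⟩ := h.exists_rk hc
  rcases r.pow_eq e with e1 | e1
  · exact ⟨k, r, e1⟩
  · refine ⟨k * z, r.mul_z, ?_⟩
    rw [(show Commute k z from r.comm).mul_pow, e1, pow_three, h.zz, mul_one, h.zz]

/-- generators of `R0` -/
structure Gens (a b : G) : Prop where
  ra : h.Rk a qA mA
  rb : h.Rk b qB mB
  a3 : a ^ 3 = 1
  b3 : b ^ 3 = 1
  ab : a * b = h.ρ * (b * a)

theorem exists_gens : ∃ a b, Gens h a b := by
  obtain ⟨a, ra, a3⟩ := lift3 h chkL_A (by decide +kernel)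
  obtain ⟨b, rb, b3⟩ := lift3 h chkL_B (by decide +kernel)
  refine ⟨a, b, ra, rb, a3, b3, ?_⟩
  have r1 := (rb.mul ra).rho_mul
  have r2 := (ra.mul rb).congr rfl (show _ = mm mRho (mm mB mA) by decide +kernel)
  refine (r1.unique r2).resolve_right fun e => ?_
  have c1 : Commute b z := rb.comm
  have c2 : Commute b h.ρ := h.conj_rho_in rb.1 (rb.inner_iff.2 (by decide +kernel))
  have e1 : a * b * a⁻¹ = z ^ 1 * h.ρ ^ 1 * b := by
    rw [e, mul_assoc _ z, ← comm_inv ra.comm, pow_one, pow_one, ← h.rho_z, mul_assoc h.ρ z, ← c1.eq]; group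
  have e2 : (a * b * a⁻¹) ^ 3 = 1 := by rw [conj_pow, b3]; group
  rw [e1, ((c1.pow_right 1).mul_right (c2.pow_right 1)).symm.mul_pow, ker_cube, b3, mul_one, pow_one] at e2
  exact h.z_ne e2

variable {h} {a b : G}

theorem Gens.θa (g : Gens h a b) : h.θ a = pm qA := g.ra.θ_eq
theorem Gens.θb (g : Gens h a b) : h.θ b = pm qB := g.rb.θ_eq
theorem Gens.a_mem (g : Gens h a b) : a ∈ R0 h := ⟨g.ra.1, g.a3, g.θa ▸ A_TT⟩
theorem Gens.b_mem (g : Gens h a b) : b ∈ R0 h := ⟨g.rb.1, g.b3, g.θb ▸ B_TT⟩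

theorem Gens.θ_pow (g : Gens h a b) (j k : ℕ) : h.θ (a ^ j * b ^ k) = pm qA ^ j * pm qB ^ k := by
  rw [h.θ_mul _ _ (comm_pow g.ra.comm j) (comm_pow g.rb.comm k), h.θ_pow g.ra.comm, h.θ_pow g.rb.comm, g.θa, g.θb]

theorem R0_eq {x y : G} (hx : x ∈ R0 h) (hy : y ∈ R0 h) (e : h.θ x = h.θ y) : ∃ i < 3, x = h.ρ ^ i * y := by
  have h1 := mul_mem hx (inv_mem hy)
  obtain ⟨i, hi, e1⟩ := ker_three h h1.1 (by
    rw [h.θ_mul _ _ (h.K2_z hx.1) (comm_inv (h.K2_z hy.1)), h.θ_inv (h.K2_z hy.1), e, mul_inv_cancel]) h1.2.1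
  exact ⟨i, hi, by rw [← e1]; group⟩

theorem Gens.normal_form (g : Gens h a b) {x : G} (hx : x ∈ R0 h) :
    ∃ i < 3, ∃ j < 3, ∃ k < 3, x = h.ρ ^ i * (a ^ j * b ^ k) := by
  obtain ⟨j, hj, k, hk, e⟩ := mem_TT.1 hx.2.2
  obtain ⟨i, hi, e1⟩ := R0_eq hx (mul_mem (pow_mem g.a_mem j) (pow_mem g.b_mem k)) (by rw [e, g.θ_pow])
  exact ⟨i, hi, j, hj, k, hk, e1⟩

theorem Gens.card (g : Gens h a b) : Nat.card (R0 h) = 27 := by
  let f : Fin 3 × Fin 3 × Fin 3 → R0 h := fun p => ⟨h.ρ ^ (p.1 : ℕ) * (a ^ (p.2.1 : ℕ) * b ^ (p.2.2 : ℕ)),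
    mul_mem (pow_mem (rho_R0 h) _) (mul_mem (pow_mem g.a_mem _) (pow_mem g.b_mem _))⟩
  have hf : Function.Bijective f := by
    constructor
    · rintro ⟨i, j, k⟩ ⟨i', j', k'⟩ e
      have e1 : h.ρ ^ (i : ℕ) * (a ^ (j : ℕ) * b ^ (k : ℕ)) = h.ρ ^ (i' : ℕ) * (a ^ (j' : ℕ) * b ^ (k' : ℕ)) :=
        congrArg Subtype.val e
      have t : ∀ i j k : ℕ, h.θ (h.ρ ^ i * (a ^ j * b ^ k)) = pm qA ^ j * pm qB ^ k := fun i j k => by
        rw [h.θ_mul _ _ (comm_pow h.rho_z i) (comm_mul (comm_pow g.ra.comm j) (comm_pow g.rb.comm k)),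
          h.θ_pow h.rho_z, h.θ_rho, one_pow, one_mul, g.θ_pow]
      have e2 := congrArg h.θ e1
      rw [t, t] at e2
      obtain ⟨e3, e4⟩ := TT_inj j.2 k.2 j'.2 k'.2 e2
      rw [e3, e4, mul_left_inj, pow_eq_pow_iff_modEq, h.orderOf_rho, Nat.ModEq, Nat.mod_eq_of_lt i.2,
        Nat.mod_eq_of_lt i'.2] at e1
      exact Prod.ext (Fin.ext e1) (Prod.ext (Fin.ext e3) (Fin.ext e4))
    · rintro ⟨x, hx⟩
      obtain ⟨i, hi, j, hj, k, hk, rfl⟩ := g.normal_form hx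
      exact ⟨(⟨i, hi⟩, ⟨j, hj⟩, ⟨k, hk⟩), rfl⟩
  rw [← Nat.card_congr (Equiv.ofBijective f hf)]
  simp

theorem Gens.ne (g : Gens h a b) : a * b ≠ b * a := fun e => h.rho_ne (by
  have := g.ab
  rw [e] at this
  exact (mul_eq_right.1 this.symm))

theorem conj_R0 {k x : G} (hk : k ∈ h.K2) (hx : x ∈ R0 h) (e : h.θ k * h.θ x * (h.θ k)⁻¹ ∈ TT) :
    k * x * k⁻¹ ∈ R0 h :=
  ⟨mul_mem (mul_mem hk hx.1) (inv_mem hk), by rw [conj_pow, hx.2.1]; group, by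
    rwa [h.θ_conj (h.K2_z hk) (h.K2_z hx.1)]⟩

theorem exists_outer (h : HM z) : ∃ k ∈ h.K2, k * h.ρ * k⁻¹ = h.ρ⁻¹ := by
  obtain ⟨k, r⟩ := h.exists_rk HM.chkL_j
  refine ⟨k, r.1, ?_⟩
  rw [h.conj_rho_out r.1 fun e => absurd (r.inner_iff.1 e) (by decide +kernel), h.rho_inv, mul_inv_cancel_right]

theorem mem_K2_of_norm (c3 : ∀ x : G, x * h.ρ = h.ρ * x → x * z = z * x) {n : G} {i : ℕ}
    (e : n * h.ρ * n⁻¹ = h.ρ ^ i) : n ∈ h.K2 := by
  rw [← pow_mod3 h.rho_three] at e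
  have hi : i % 3 < 3 := Nat.mod_lt _ (by norm_num)
  generalize i % 3 = m at e hi
  interval_cases m
  · exact absurd (by simpa using e) h.rho_ne
  · rw [pow_one] at e
    exact h.mem_K2_of_comm (c3 n (comm_of_conj_eq e)) (comm_of_conj_eq e)
  · obtain ⟨k, hk, e1⟩ := exists_outer h
    rw [pow_two, ← h.rho_inv, ← e1] at e
    have e2 : k⁻¹ * n * h.ρ = h.ρ * (k⁻¹ * n) := by
      calc _ = k⁻¹ * (n * h.ρ * n⁻¹) * n := by group
        _ = _ := by rw [e]; group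
    simpa using mul_mem hk (h.mem_K2_of_comm (c3 _ e2) e2)

theorem Gens.norm_le (g : Gens h a b) (c3 : ∀ x : G, x * h.ρ = h.ρ * x → x * z = z * x) :
    normalizer (R0 h : Set G) ≤ h.K2 := by
  intro n hn
  have h1 := (mem_normalizer_iff.1 hn _).1 g.a_mem
  have h2 := (mem_normalizer_iff.1 hn _).1 g.b_mem
  have h3 := (mem_normalizer_iff.1 hn _).1 (rho_R0 h)
  have e : n * h.ρ * n⁻¹ = n * a * n⁻¹ * (n * b * n⁻¹) * (n * b * n⁻¹ * (n * a * n⁻¹))⁻¹ := by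
    calc _ = n * (h.ρ * (b * a) * (b * a)⁻¹) * n⁻¹ := by group
      _ = _ := by rw [← g.ab]; group
  have a0 := h.K2_z h1.1
  have b0 := h.K2_z h2.1
  obtain ⟨i, -, e1⟩ := ker_three h h3.1 (by
    rw [e, h.θ_mul _ _ (comm_mul a0 b0) (comm_inv (comm_mul b0 a0)), h.θ_inv (comm_mul b0 a0), h.θ_mul _ _ a0 b0,
      h.θ_mul _ _ b0 a0, (TT_comm h1.2.2 h2.2.2).eq, mul_inv_cancel]) h3.2.1
  exact mem_K2_of_norm c3 e1

theorem Gens.norm_iff [Finite G] (g : Gens h a b) {n : G} (hn : n ∈ h.K2) :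
    n ∈ normalizer (R0 h : Set G) ↔ PN (h.θ n) := by
  have n0 := h.K2_z hn
  constructor
  · intro h1
    have key : ∀ x ∈ R0 h, h.θ x ≠ 1 → ∃ t ∈ L8, h.θ n * h.θ x = pm t * h.θ n := fun x hx x1 => by
      have h2 := ((mem_normalizer_iff.1 h1 _).1 hx).2.2
      rw [h.θ_conj n0 (h.K2_z hx.1)] at h2
      obtain ⟨t, ht, e⟩ := TT_L8 h2 (by simpa using x1)
      exact ⟨t, ht, by rw [e]; group⟩
    exact ⟨(h.θ_mem n n0).2, g.θa ▸ key a g.a_mem (g.θa ▸ A_ne), g.θb ▸ key b g.b_mem (g.θb ▸ B_ne)⟩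
  · rintro ⟨-, ⟨t, ht, e⟩, ⟨t', ht', e'⟩⟩
    refine mem_normalizer_fintype fun x hx => conj_R0 hn hx ?_
    obtain ⟨i, k, e1⟩ := hx.2.2
    have : h.θ n * h.θ x * (h.θ n)⁻¹ = (h.θ n * pm qA * (h.θ n)⁻¹) ^ i * (h.θ n * pm qB * (h.θ n)⁻¹) ^ k := by
      rw [e1, conj_pow, conj_pow]; group
    rw [this, e, e', mul_inv_cancel_right, mul_inv_cancel_right]
    exact mul_mem (pow_mem (L8_TT ht) i) (pow_mem (L8_TT ht') k)

theorem Gens.card_norm [Finite G] (g : Gens h a b) (c3 : ∀ x : G, x * h.ρ = h.ρ * x → x * z = z * x) :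
    Nat.card (normalizer (R0 h : Set G)) = 864 := by
  rw [card_six h _ (g.norm_le c3) (P := fun p => p ∈ M24 ∧ PN p), card_PN]
  · refine mem_normalizer_fintype fun x hx => ?_
    rwa [conj_eq_of_comm (h.K2_z hx.1).symm]
  · exact le_normalizer (rho_R0 h)
  · intro p
    constructor
    · rintro ⟨n, hn, rfl⟩
      exact ⟨h.θ_M24 (h.K2_z (g.norm_le c3 hn)), (g.norm_iff (g.norm_le c3 hn)).1 hn⟩
    · rintro ⟨h1, h2⟩
      obtain ⟨n, hn, rfl⟩ := h.θ_surj p ⟨h1, h2.1⟩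
      exact ⟨n, (g.norm_iff hn).2 h2, rfl⟩

theorem Gens.sylow [Finite G] (g : Gens h a b) (c3 : ∀ x : G, x * h.ρ = h.ρ * x → x * z = z * x) :
    ∃ Q : Sylow 3 G, (Q : Subgroup G) = R0 h := by
  have : Fact (Nat.Prime 3) := ⟨Nat.prime_three⟩
  have h1 : Nat.card (R0 h) = 3 ^ 3 := g.card
  obtain ⟨Q, hQ⟩ := (IsPGroup.of_card h1).exists_le_sylow
  refine ⟨Q, (eq_of_le_of_card_ge hQ ?_).symm⟩
  obtain ⟨n, hn⟩ := Q.isPGroup'.exists_card_eq
  rw [hn, h1]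
  refine Nat.pow_le_pow_right (by norm_num) (not_lt.1 fun h2 => ?_)
  have h3 := Sylow.prime_pow_dvd_card_normalizer
    ((Nat.pow_dvd_pow 3 h2).trans (hn ▸ card_subgroup_dvd_card (Q : Subgroup G))) h1
  rw [g.card_norm c3] at h3
  norm_num at h3

end

end G3

end CfsgLib.J4T
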