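import Mathlib
import Cfsg.Agent.Lib.J4T.FiveA
import Cfsg.Agent.Lib.J4T.ClsDD
import Cfsg.Agent.Lib.J4T.ClsGen

/-! # The 2-elements of `C(z)` of order at least 4 with involution `z` -/

set_option autoImplicit false
set_option linter.unusedSectionVars false

namespace CfsgLib.J4T.C62

open Cfsg CfsgLib.Golay CfsgLib.M24E Subgroup
open scoped Pointwise

/-- one step of the computation of `(s v * k) ^ n` -/
noncomputable def pwS (o A v st : ℕ) : ℕ :=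
  frc (Nat.land st 4095) fun w => frc (mv A w) fun u => Nat.add (Nat.xor v u)
    (Nat.mul 4096 (Nat.mod (Nat.add (Nat.add (Nat.div st 4096) (Nat.mul o (qf w))) (beta v u)) 2))

/-- the part in `E` of `(s v * k) ^ n` -/
noncomputable def pw (o A v n : ℕ) : ℕ := Nat.rec 0 (fun _ st => frc st (pwS o A v)) n

/-- test: the element of `E` has the power `z` -/
noncomputable def isZ (e : ℕ) : Bool := frc e fun e => or (Nat.beq e 4096) (Nat.beq (qf (Nat.land e 4095)) 1)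

/-- data of a class of 2-elements of `DD` -/
structure Cl (p A b o : ℕ) : Prop where
  chk : chkL p A = true
  hA : mpow A (2 ^ (b + 1)) = mI
  ord : orderOf (pm p) = 2 ^ (b + 1)
  ho : ap p 0 = 0 ∧ o = 0 ∨ ap p 0 ≠ 0 ∧ o = 1

/-- test for `Cl` -/
noncomputable def chkCl (p A b o : ℕ) : Bool :=
  and (and (chkL p A) (Nat.beq (mpow A (2 ^ (b + 1))) mI))
    (and (and (not (powId (ap p) (2 ^ b))) (powId (ap p) (2 ^ (b + 1))))
      (or (and (Nat.beq (ap p 0) 0) (Nat.beq o 0)) (and (not (Nat.beq (ap p 0) 0)) (Nat.beq o 1))))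

theorem cl_of {p A b o : ℕ} (h : chkCl p A b o = true) : Cl p A b o := by
  simp only [chkCl, Bool.and_eq_true, Bool.or_eq_true, beq_iff', Bool.not_eq_true'] at h
  obtain ⟨⟨h1, h2⟩, ⟨h3, h4⟩, h5⟩ := h
  have hr := pm_rp (isM_of h1)
  refine ⟨h1, h2, orderOf_eq_prime_pow (fun e => ?_) ((hr.powId_iff _).1 h4), h5.imp id fun h => ⟨fun e => ?_, h.2⟩⟩
  · rw [(hr.powId_iff _).2 e] at h3
    cases h3
  · rw [beq_iff'.2 e] at h
    cases h.1

theorem cl_1 : Cl (rE 1) (rM 1) 0 0 := cl_of (by decide +kernel)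
theorem cl_16 : Cl (rE 16) (rM 16) 0 1 := cl_of (by decide +kernel)
theorem cl_17 : Cl (rE 17) (rM 17) 0 1 := cl_of (by decide +kernel)
theorem cl_4a : Cl p4a m4a 1 0 := cl_of (by decide +kernel)
theorem cl_4b : Cl p4b m4b 1 0 := cl_of (by decide +kernel)
theorem cl_4c : Cl q4c m4c 1 1 := cl_of (by decide +kernel)
theorem cl_4d : Cl q4d m4d 1 1 := cl_of (by decide +kernel)
theorem cl_8a : Cl p8a m8a 2 0 := cl_of (by decide +kernel)
theorem cl_8b : Cl q8b m8b 2 1 := cl_of (by decide +kernel)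

theorem land_4095' {w a : ℕ} (hw : w < 4096) : Nat.land (w + 4096 * a) 4095 = w := by
  show (w + 4096 * a) &&& (2 ^ 12 - 1) = w
  rw [Nat.and_two_pow_sub_one_eq_mod]
  omega

/-- the action used in the orbit computation -/
noncomputable def act (c x : ℕ) : ℕ := Bool.rec (mv c x) (Nat.xor x c) (Nat.blt c 4096)

/-- the generators are translations by commutators or matrices that commute with `A` -/
noncomputable def chkG (A : ℕ) (Q : List ℕ) (c : ℕ) : Bool :=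
  Bool.rec (and (anyL Q fun q => chkL q c) (Nat.beq (mm c A) (mm A c)))
    (anyL [1, 2, 4, 8, 16, 32, 64, 128, 256, 512, 1024, 2048] fun u => Nat.beq c (Nat.xor u (mv A u)))
    (Nat.blt c 4096)

/-- certificate: one class with involution `z` -/
noncomputable def chkZ (A b o v0 u : ℕ) (Q L : List ℕ) : Bool :=
  and (and (and (Nat.blt v0 4096) (isZ (pw o A v0 (2 ^ (b + 1))))) (allL L (chkG A Q)))
    (and (and (and (Nat.blt u 4096) (Nat.beq (mv A u) u)) (Nat.beq (Nat.mod (Nat.add (bf u v0) (Nat.mul o (qf u))) 2) 1))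
      (frc (spin act L 4096 v0) fun W => allLT 4096 fun v => or (tb W v) (not (isZ (pw o A v (2 ^ (b + 1)))))))

/-- certificate: no element with involution `z` -/
noncomputable def chkN (A b o : ℕ) : Bool := allLT 4096 fun v => not (isZ (pw o A v (2 ^ (b + 1))))

variable {G : Type*} [Group G] {z : G}

theorem exists_k (h : HM2 z) {p A b o : ℕ} (c : Cl p A b o) : ∃ k, h.Rk k p A ∧ k ^ 2 ^ (b + 1) = 1 := by
  obtain ⟨k, r⟩ := h.exists_rk c.chk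
  refine ⟨k, r, (r.pow_eq c.hA).resolve_right fun e => h.sq (k ^ 2 ^ b) (pow_mem r.mem _) ?_⟩
  rw [← pow_add, ← two_mul, ← pow_succ', e]

theorem lift_two (h : HM z) {k k' : G} (hk : k ∈ h.K2) (hk' : k' ∈ h.K2) (e : h.θ k' = h.θ k) {m n : ℕ}
    (hm : k ^ 2 ^ m = 1) (hn : k' ^ 2 ^ n = 1) :
    ∃ i a : ℕ, h.ρ ^ i * (k * z ^ a) * (h.ρ ^ i)⁻¹ = k' := by
  obtain ⟨a, -, i, hi, e1⟩ := h.θ_ker' (mul_mem hk' (inv_mem hk)) (by
    rw [h.θ_mul _ _ (h.K2_z hk') (comm_inv (h.K2_z hk)), h.θ_inv (h.K2_z hk), e, mul_inv_cancel])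
  have e2 : k' = h.ρ ^ i * (k * z ^ a) := by
    rw [comm_zpow (h.K2_z hk), ← mul_assoc, comm_zpow (comm_pow h.rho_z i), ← e1]; group
  by_cases h0 : h.θ k (pt 0) = pt 0
  · have c1 : Commute h.ρ k := (h.conj_rho_in hk h0).symm
    have c2 : Commute h.ρ z := h.rho_z
    have c3 : Commute k z := h.K2_z hk
    have e3 : (h.ρ ^ i) ^ 2 ^ (m + n + 1) = 1 := by
      have e4 : k' ^ 2 ^ (m + n + 1) = 1 := by rw [show 2 ^ (m + n + 1) = 2 ^ n * 2 ^ (m + 1) by ring, pow_mul, hn, one_pow]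
      have e5 : k ^ 2 ^ (m + n + 1) = 1 := by rw [show 2 ^ (m + n + 1) = 2 ^ m * 2 ^ (n + 1) by ring, pow_mul, hm, one_pow]
      have e6 : (z ^ a) ^ 2 ^ (m + n + 1) = 1 := by rw [pow_succ', pow_mul, pow_two, h.zpow_self, one_pow]
      rwa [e2, ((c1.mul_right (c2.pow_right a)).pow_left i).mul_pow, (c3.pow_right a).mul_pow, e5, e6, mul_one,
        mul_one] at e4
    have e4 : h.ρ ^ i = 1 := by
      have h3 : (h.ρ ^ i) ^ 3 = 1 := by rw [← pow_mul, mul_comm, pow_mul, h.rho_three, one_pow]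
      exact (pow_eq_one_iff_of_coprime (Nat.Coprime.pow_left _ (by norm_num))).1 ⟨e3, h3⟩
    exact ⟨0, a, by rw [e2, e4]; simp⟩
  · have c1 := h.conj_rho_out hk h0
    have c2 : ∀ j : ℕ, k * h.ρ ^ j = h.ρ ^ (2 * j) * k := fun j => by
      induction j with
      | zero => simp
      | succ j ih => rw [pow_succ, ← mul_assoc, ih, mul_assoc, c1]; group
    refine ⟨2 * i, a, ?_⟩
    rw [e2, mul_inv_eq_iff_eq_mul, mul_assoc, mul_assoc, ← comm_zpow (comm_pow h.rho_z _), ← mul_assoc k, c2,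
      ← mul_assoc, ← mul_assoc, ← mul_assoc, ← pow_add, show i + 2 * (2 * i) = 2 * i + 3 * i by ring, pow_add,
      pow_mul h.ρ 3, h.rho_three, one_pow, mul_one]

theorem θ_two (h : HM z) {g : G} (hg : g * z = z * g) {n : ℕ} (hn : g ^ 2 ^ n = 1) : h.θ g ^ 2 ^ n = 1 := by
  rw [← h.θ_pow hg, hn, h.θ_one]

theorem conj_pow_one {g r : G} {n : ℕ} (hn : g ^ n = 1) : (r⁻¹ * g * r) ^ n = 1 := by
  simpa [hn] using conj_pow (a := r⁻¹) (b := g) (i := n)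

theorem reduce (h : HM z) {k g : G} {p A m n : ℕ} (r : h.Rk k p A) (hm : k ^ 2 ^ m = 1) (hg : g * z = z * g)
    (hn : g ^ 2 ^ n = 1) (hc : Cj p (h.θ g)) :
    ∃ c, c * z = z * c ∧ ∃ v < 4096, ∃ a : ℕ, c * (h.s v * k * z ^ a) * c⁻¹ = g := by
  obtain ⟨d, hd, -, e⟩ := hc
  obtain ⟨c, hc, rfl⟩ := h.θ_surj d hd
  have cz := h.K2_z hc
  have g1 : c⁻¹ * g * c * z = z * (c⁻¹ * g * c) := comm_mul (comm_mul (comm_inv cz) hg) cz
  obtain ⟨v, hv, k', hk', e1⟩ := h.decomp _ g1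
  have e2 : h.θ k' = h.θ k := by
    rw [← h.θ_E_mul (h.s_mem hv) (h.K2_z hk'), ← e1, h.θ_mul _ _ (comm_mul (comm_inv cz) hg) cz,
      h.θ_mul _ _ (comm_inv cz) hg, h.θ_inv cz, ← e, r.θ_eq]
    group
  have e3 : k' ^ 2 ^ (n + 1) = 1 := by
    have e4 : ∀ j : ℕ, ∀ w < 4096, h.α ((h.s v * k') ^ j) w = h.α (k' ^ j) w := fun j => by
      induction j with
      | zero => simp
      | succ j ih =>
        intro w hw
        rw [pow_succ, pow_succ, h.α_mul (comm_pow (e1 ▸ g1) _) (e1 ▸ g1) hw,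
          h.α_mul (comm_pow (h.K2_z hk') _) (h.K2_z hk') hw, h.α_E_mul (h.s_mem hv) (h.K2_z hk') hw,
          ih _ (h.α_lt _ _)]
    have e5 := h.E_inf_K2 (h.mem_E_of_α (comm_pow (h.K2_z hk') (2 ^ n)) fun w hw => by
      rw [← e4 _ w hw, ← e1, conj_pow_one hn, h.α_one hw]) (pow_mem hk' _)
    rw [pow_succ, pow_mul, pow_two]
    rcases e5 with e5 | e5 <;> rw [e5]
    exacts [mul_one _, h.zz]
  obtain ⟨i, a, e4⟩ := lift_two h r.mem hk' e2 hm e3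
  have ρz := comm_pow h.rho_z i
  obtain ⟨b, -, e5⟩ := h.exists_conj (comm_inv ρz) hv
  refine ⟨c * h.ρ ^ i, comm_mul cz ρz, _, h.α_lt (h.ρ ^ i)⁻¹ v, b + a, ?_⟩
  have e6 : h.s (h.α (h.ρ ^ i)⁻¹ v) * k * z ^ (b + a) = (h.ρ ^ i)⁻¹ * h.s v * (h.ρ ^ i)⁻¹⁻¹ * (k * z ^ a) := by
    rw [e5, pow_add, mul_assoc, ← mul_assoc k, comm_zpow r.comm]; group
  calc _ = c * (h.s v * (h.ρ ^ i * (k * z ^ a) * (h.ρ ^ i)⁻¹)) * c⁻¹ := by rw [e6]; group
    _ = g := by rw [e4, ← e1]; group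

section

variable {h : HM z} {k : G} {p A b o : ℕ} (c : Cl p A b o) (r : h.Rk k p A)
include c r

theorem k_s {w : ℕ} (hw : w < 4096) : k * h.s w = h.s (mv A w) * z ^ (o * qf w) * k := by
  rw [← mul_inv_eq_iff_eq_mul, ← r.α_eq hw]
  rcases c.ho with ⟨h0, rfl⟩ | ⟨h0, rfl⟩
  · rw [h.α_in k r.mem (r.inner_iff.2 h0) w hw]; simp
  · rw [h.α_out k r.mem (fun e => h0 (r.inner_iff.1 e)) w hw, one_mul]

theorem pw_spec {v : ℕ} (hv : v < 4096) (n : ℕ) :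
    ∃ w < 4096, ∃ a < 2, pw o A v n = w + 4096 * a ∧ (h.s v * k) ^ n = h.s w * z ^ a * k ^ n := by
  induction n with
  | zero => exact ⟨0, by norm_num, 0, by norm_num, rfl, by simp [h.s_zero]⟩
  | succ n ih =>
    obtain ⟨w, hw, a, ha, e1, e2⟩ := ih
    refine ⟨v ^^^ mv A w, xor_lt' hv (mv_lt _ _), (a + o * qf w + beta v (mv A w)) % 2, Nat.mod_lt _ two_pos, ?_, ?_⟩
    · have e3 : pw o A v (n + 1) = frc (pw o A v n) (pwS o A v) := rfl
      rw [e3, frc_eq, e1, pwS, frc_eq, frc_eq, land_4095' hw]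
      have e4 : Nat.div (w + 4096 * a) 4096 = a := by
        show (w + 4096 * a) / 4096 = a
        omega
      rw [e4]
      rfl
    · rw [pow_succ', e2, h.zpow_mod, pow_succ' k]
      calc _ = h.s v * (k * h.s w) * z ^ a * k ^ n := by group
        _ = h.s v * h.s (mv A w) * z ^ (o * qf w) * (k * z ^ a) * k ^ n := by rw [k_s c r hw]; group
        _ = _ := by rw [h.s_mul v hv _ (mv_lt _ _), comm_zpow r.comm]; group

theorem pow_eq (hk : k ^ 2 ^ (b + 1) = 1) {v : ℕ} (hv : v < 4096) (a : ℕ) :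
    ∃ w < 4096, ∃ a' < 2, pw o A v (2 ^ (b + 1)) = w + 4096 * a' ∧
      (h.s v * k * z ^ a) ^ 2 ^ (b + 1) = h.s w * z ^ a' := by
  obtain ⟨w, hw, a', ha, e1, e2⟩ := pw_spec c r hv (2 ^ (b + 1))
  refine ⟨w, hw, a', ha, e1, ?_⟩
  have c1 : Commute (h.s v * k) (z ^ a) := comm_zpow (comm_mul (h.s_z hv) r.comm) a
  rw [c1.mul_pow, e2, hk, pow_succ' 2, pow_mul, pow_two, h.zpow_self]
  simp

theorem isZ_of (hk : k ^ 2 ^ (b + 1) = 1) {v a n : ℕ} (hv : v < 4096)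
    (e : (h.s v * k * z ^ a) ^ 2 ^ (n + 1) = z) : isZ (pw o A v (2 ^ (b + 1))) = true := by
  obtain ⟨w, hw, a', ha, e1, e2⟩ := pow_eq c r hk hv a
  have gz : h.s v * k * z ^ a * z = z * (h.s v * k * z ^ a) :=
    comm_mul (comm_mul (h.s_z hv) r.comm) (comm_pow rfl a)
  have e3 : pm p ^ 2 ^ (n + 1) = 1 := by
    rw [← r.θ_eq, ← h.θ_E_mul (h.s_mem hv) r.comm,
      ← h.θ_mul_E (pow_mem h.z_mem a) (comm_mul (h.s_z hv) r.comm), ← h.θ_pow gz, e, h.θ_z]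
  have e4 := orderOf_dvd_of_pow_eq_one e3
  rw [c.ord, Nat.pow_dvd_pow_iff_le_right one_lt_two] at e4
  obtain ⟨d, rfl⟩ : ∃ d, n = b + d := ⟨n - b, by omega⟩
  rw [show 2 ^ (b + d + 1) = 2 ^ (b + 1) * 2 ^ d by ring, pow_mul, e2] at e
  rw [isZ, frc_eq, e1, land_4095' hw, Bool.or_eq_true, beq_iff', beq_iff']
  rcases d with _ | d
  · have := h.s_inj hw (by norm_num : 0 < 4096) (a := a') (b := 1) (by simpa [h.s_zero] using e)
    omega
  · have e5 := qf_lt w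
    by_contra hc
    rw [pow_succ', pow_mul, pow_two, h.sz_mul hw hw, Nat.xor_self, h.s_zero, one_mul, h.zpow_mod,
      show beta w w = qf w from rfl, show qf w = 0 by omega, zero_add, pow_add, h.zpow_self, one_pow] at e
    exact h.z_ne e.symm

theorem pow_of_isZ (hk : k ^ 2 ^ (b + 1) = 1) {v : ℕ} (hv : v < 4096)
    (e : isZ (pw o A v (2 ^ (b + 1))) = true) : ∃ n ≤ b + 1, (h.s v * k) ^ 2 ^ (n + 1) = z := by
  obtain ⟨w, hw, a', ha, e1, e2⟩ := pow_eq c r hk hv 0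
  rw [isZ, frc_eq, e1, land_4095' hw, Bool.or_eq_true, beq_iff', beq_iff'] at e
  rw [pow_zero, mul_one] at e2
  rcases e with e | e
  · refine ⟨b, by omega, ?_⟩
    rw [e2, show w = 0 by omega, show a' = 1 by omega, h.s_zero, one_mul, pow_one]
  · refine ⟨b + 1, le_rfl, ?_⟩
    rw [pow_succ, pow_mul, e2, pow_two, h.sz_mul hw hw, Nat.xor_self, h.s_zero, one_mul, h.zpow_mod,
      show beta w w = qf w from rfl, e, add_assoc, pow_add, pow_add, h.zpow_self, pow_one, mul_one]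

theorem s_conj' {u v : ℕ} (hu : u < 4096) (hv : v < 4096) :
    ∃ a : ℕ, h.s u * (h.s v * k) * (h.s u)⁻¹ = h.s (v ^^^ (u ^^^ mv A u)) * k * z ^ a ∧
      (mv A u = u → a % 2 = (bf u v + o * qf u) % 2) := by
  have e1 : h.s u * k * (h.s u)⁻¹ = h.s (u ^^^ mv A u) * z ^ (beta u (mv A u) + (o + 1) * qf u) * k := by
    rw [← r.α_eq hu]
    rcases c.ho with ⟨h0, rfl⟩ | ⟨h0, rfl⟩
    · rw [h.s_conj_in r.mem (r.inner_iff.2 h0) hu, h.zpow_xor, pow_add]; simp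
    · rw [h.s_conj_out r.mem (fun e => h0 (r.inner_iff.1 e)) hu, pow_add, show (1 + 1) * qf u = qf u + qf u by ring,
        pow_add, h.zpow_self, mul_one]
  have hl := xor_lt' hu (mv_lt A u)
  refine ⟨(beta v (u ^^^ mv A u) + bf u v + (beta u (mv A u) + (o + 1) * qf u)) % 2, ?_, fun e => ?_⟩
  · calc _ = h.s u * h.s v * (h.s u)⁻¹ * (h.s u * k * (h.s u)⁻¹) := by group
      _ = _ := by rw [h.s_conj hu hv, e1, ← mul_assoc, h.sz_mul hv hl, mul_assoc, ← comm_zpow r.comm, mul_assoc]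
  · rw [e, Nat.xor_self, beta_zero_right hv, show beta u u = qf u from rfl, add_mul]
    omega

theorem one_class (hk : k ^ 2 ^ (b + 1) = 1) {v0 u : ℕ} {Q L : List ℕ} (hZ : chkZ A b o v0 u Q L = true) :
    v0 < 4096 ∧ (∃ n ≤ b + 1, (h.s v0 * k) ^ 2 ^ (n + 1) = z) ∧ ∀ v < 4096, ∀ a n : ℕ,
      (h.s v * k * z ^ a) ^ 2 ^ (n + 1) = z → IsConj (h.s v0 * k) (h.s v * k * z ^ a) := by
  simp only [chkZ, Bool.and_eq_true, Nat.blt_eq, beq_iff', frc_eq] at hZ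
  obtain ⟨⟨⟨h1, h2⟩, h3⟩, ⟨⟨h4, h5⟩, h6⟩, h7⟩ := hZ
  refine ⟨h1, pow_of_isZ c r hk h1 h2, fun v hv a n e => ?_⟩
  have flip : ∀ x, (∃ g, g * z = z * g ∧ g * (h.s v0 * k) * g⁻¹ = x) → ∀ a : ℕ,
      ∃ g, g * z = z * g ∧ g * (h.s v0 * k) * g⁻¹ = x * z ^ a := by
    rintro _ ⟨g, hg, rfl⟩ a
    rcases h.zpow_cases a with e | e <;> rw [e]
    · exact ⟨g, hg, (mul_one _).symm⟩
    obtain ⟨a', e1, e2⟩ := s_conj' c r h4 h1
    refine ⟨g * h.s u, comm_mul hg (h.s_z h4), ?_⟩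
    rw [h5, Nat.xor_self, Nat.xor_zero, ← h.zpow_mod, e2 h5, show (bf u v0 + o * qf u) % 2 = 1 from h6,
      pow_one] at e1
    calc _ = g * (h.s u * (h.s v0 * k) * (h.s u)⁻¹) * g⁻¹ := by group
      _ = g * (h.s v0 * k) * (z * g⁻¹) := by rw [e1]; group
      _ = _ := by rw [← comm_inv hg]; group
  have unz : ∀ (x : G) (a : ℕ), (∃ g, g * z = z * g ∧ g * (h.s v0 * k) * g⁻¹ = x * z ^ a) →
      ∃ g, g * z = z * g ∧ g * (h.s v0 * k) * g⁻¹ = x := fun x a hx => by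
    simpa [mul_assoc, h.zpow_self] using flip _ hx a
  have h8 := of_allLT h7 hv
  rw [isZ_of c r hk hv e, Bool.not_true, Bool.or_false] at h8
  suffices h9 : v < 4096 ∧ ∃ g, g * z = z * g ∧ g * (h.s v0 * k) * g⁻¹ = h.s v * k by
    obtain ⟨g, -, e⟩ := flip _ h9.2 a
    exact isConj_iff.2 ⟨g, e⟩
  refine spin_spec (R := fun y => y < 4096 ∧ ∃ g, g * z = z * g ∧ g * (h.s v0 * k) * g⁻¹ = h.s y * k)
    (fun q hq x hx => ?_) ⟨h1, 1, by simp, by simp⟩ _ h8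
  obtain ⟨hx, g, hg, e⟩ := hx
  have h9 := (allL_iff _ _).1 h3 q hq
  rw [act]
  rw [chkG] at h9
  cases hb : Nat.blt q 4096 <;> rw [hb] at h9
  · simp only [Bool.and_eq_true, anyL_iff, beq_iff'] at h9
    obtain ⟨⟨t, -, h9⟩, h10⟩ := h9
    obtain ⟨y, ry⟩ := h.exists_rk h9
    obtain ⟨a, -, e1⟩ := h.exists_conj ry.comm hx
    rw [ry.α_eq hx] at e1
    have e2 : ∃ a : ℕ, y * k = k * y * z ^ a := by
      rcases ((r.mul ry).unique ((ry.mul r).congr rfl h10)) with e | e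
      exacts [⟨0, by simpa using e⟩, ⟨1, by simpa using e⟩]
    obtain ⟨a', e2⟩ := e2
    refine ⟨mv_lt _ _, unz _ (a + a') ⟨y * g, comm_mul ry.comm hg, ?_⟩⟩
    calc _ = y * (g * (h.s v0 * k) * g⁻¹) * y⁻¹ := by group
      _ = y * h.s x * y⁻¹ * (y * k) * y⁻¹ := by rw [e]; group
      _ = h.s (mv q x) * (z ^ a * k) * (y * z ^ a' * y⁻¹) := by rw [e1, e2]; group
      _ = _ := by rw [conj_zpow ry.comm, ← comm_zpow r.comm]; group
  · obtain ⟨t, ht, h9⟩ := (anyL_iff _ _).1 h9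
    have ht' : t < 4096 := by
      simp only [List.mem_cons, List.not_mem_nil, or_false] at ht
      omega
    obtain rfl := beq_iff'.1 h9
    obtain ⟨a, e1, -⟩ := s_conj' c r ht' hx
    refine ⟨xor_lt' hx (xor_lt' ht' (mv_lt _ _)), unz _ a ⟨h.s t * g, comm_mul (h.s_z ht') hg, ?_⟩⟩
    calc _ = h.s t * (g * (h.s v0 * k) * g⁻¹) * (h.s t)⁻¹ := by group
      _ = _ := by rw [e, e1]; rfl

end

/-- `g` lies in `C(z)`, and `θ g` has order `n` and is inner or outer -/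
def Inv (h : HM z) (g : G) (n : ℕ) (i : Bool) : Prop :=
  g * z = z * g ∧ orderOf (h.θ g) = n ∧ (h.θ g (pt 0) = pt 0 ↔ i = true)

theorem Inv.eq {h : HM z} {g g' x : G} {n n' : ℕ} {i i' : Bool} (a : Inv h g n i) (a' : Inv h g' n' i')
    (hx : x * z = z * x) (e : x * g * x⁻¹ = g') : n = n' ∧ i = i' := by
  have e1 := h.θ_conj hx a.1
  rw [e] at e1
  refine ⟨?_, Bool.eq_iff_iff.2 ?_⟩
  · rw [← a.2.1, ← a'.2.1, e1]
    exact ((MulAut.conj (h.θ x)).orderOf_eq _).symm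
  · rw [← a.2.2, ← a'.2.2, e1, conj_inner (h.θ_mem _ hx) (h.θ_mem _ a.1)]

/-- `g ^ 2 ^ (n + 1) = z` for some `n` -/
def PZ (z g : G) : Prop := ∃ n, g ^ 2 ^ (n + 1) = z

theorem cls_one (h : HM2 z) {p A b o : ℕ} (c : Cl p A b o) {v0 u : ℕ} {Q L : List ℕ}
    (hZ : chkZ A b o v0 u Q L = true) : ∃ x, Inv h.toHM x (2 ^ (b + 1)) (o == 0) ∧
      (∃ n ≤ b + 1, x ^ 2 ^ (n + 1) = z) ∧ ∀ g, g * z = z * g → PZ z g → Cj p (h.θ g) → IsConj x g := by
  obtain ⟨k, r, hk⟩ := exists_k h c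
  obtain ⟨h1, h2, h3⟩ := one_class c r hk hZ
  refine ⟨h.s v0 * k, ⟨comm_mul (h.s_z h1) r.comm, ?_, ?_⟩, h2, ?_⟩
  · rw [h.θ_E_mul (h.s_mem h1) r.comm, r.θ_eq, c.ord]
  · rw [h.θ_E_mul (h.s_mem h1) r.comm, r.inner_iff]
    rcases c.ho with ⟨h0, rfl⟩ | ⟨h0, rfl⟩ <;> simp [h0]
  · rintro g hg ⟨n, hn⟩ hc
    obtain ⟨x, hx, v, hv, a, rfl⟩ := reduce h.toHM r hk hg (n := n + 2) (by
      rw [pow_succ, pow_mul, hn, pow_two, h.zz]) hc
    refine (h3 v hv a n ?_).trans (isConj_iff.2 ⟨x, rfl⟩)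
    rw [conj_pow, mul_inv_eq_iff_eq_mul, ← hx] at hn
    exact mul_left_cancel hn

theorem cls_none (h : HM2 z) {p A b o : ℕ} (c : Cl p A b o) (hN : chkN A b o = true) {g : G}
    (hg : g * z = z * g) (hz : PZ z g) : ¬ Cj p (h.θ g) := fun hc => by
  obtain ⟨k, r, hk⟩ := exists_k h c
  obtain ⟨n, hn⟩ := hz
  obtain ⟨x, hx, v, hv, a, rfl⟩ := reduce h.toHM r hk hg (n := n + 2) (by
    rw [pow_succ, pow_mul, hn, pow_two, h.zz]) hc
  rw [conj_pow, mul_inv_eq_iff_eq_mul, ← hx] at hn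
  have := of_allLT hN hv
  rw [isZ_of c r hk hv (mul_left_cancel hn)] at this
  cases this

theorem cls_E (h : HM z) : ∃ x, Inv h x 1 true ∧ x ^ 2 = z ∧
    ∀ g, g * z = z * g → PZ z g → h.θ g = 1 → IsConj x g := by
  have h72 : 72 < 4096 := by norm_num
  refine ⟨h.s 72, ⟨h.s_z h72, by rw [h.θ_s h72, orderOf_one], by simp [h.θ_s h72]⟩, ?_, ?_⟩
  · rw [pow_two, h.s_sq h72, show qf 72 = 1 by decide +kernel, pow_one]
  rintro g hg ⟨n, hn⟩ e
  obtain ⟨v, hv, a, -, rfl⟩ := h.mem_E'.1 (h.mem_E_of_two hg e (n := n + 2) (by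
    rw [pow_succ, pow_mul, hn, pow_two, h.zz]))
  have e1 : qf v = 1 := by
    have e5 := qf_lt v
    by_contra hc
    rw [pow_succ', pow_mul, pow_two, h.sz_mul hv hv, Nat.xor_self, h.s_zero, one_mul, h.zpow_mod,
      show beta v v = qf v from rfl, show qf v = 0 by omega, zero_add, pow_add, h.zpow_self, one_pow] at hn
    exact h.z_ne hn.symm
  have h0 : v ≠ 0 := by
    rintro rfl
    revert e1
    decide +kernel
  obtain ⟨k, hk, e2⟩ := h.ty_trans h72 hv (by rw [(ty_eq_three hv).2 e1]; decide +kernel)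
  obtain ⟨b, -, e3⟩ := h.exists_conj (h.K2_z hk.1) h72
  rw [e2] at e3
  exact ((isConj_iff.2 ⟨k, e3⟩).trans (h.isConj_sz hv h0 b).symm).trans (h.isConj_sz hv h0 a)

theorem chkZ_1 : chkZ (rM 1) 0 0 1410 2 [0xbca291b6a7822765128f088cb615c0]
    [52, 9, 8, 22, 0x210ac7cff0427bf778038014034007026022] = true := by decide +kernel
theorem chkZ_17 : chkZ (rM 17) 0 1 512 1 [0x55b454a232990b7ba163cd8209137, 0xbcc233a6ac8d1d25aa16414c2691e0]
    [15, 14, 60, 3207, 385, 1407, 0x58dd187d68a159b8e211f43c00982349f001,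
      0x4a510ab99429913cca01300d00801902c001] = true := by decide +kernel
theorem chkZ_4a : chkZ m4a 1 0 192 8 [0xb9e300d6d21b5e828a8e4916a99980]
    [34, 22, 50, 2177, 1409, 38, 3336, 2184, 0xb8afeed6ecd3e33af302e03f03503303802b] = true := by decide +kernel
theorem chkZ_4d : chkZ m4d 1 1 128 21 [0xbc6764a2146d581229c71984b915e0]
    [9, 43, 21, 2013, 2195, 1284, 3950, 1305, 0x264d7f103220af891b00b01001601a002034] = true := by decide +kernel
theorem chkZ_8b : chkZ m8b 2 1 256 34 [0x46ea3e6d3c6d22a9156196448a17]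
    [31, 22, 2, 61, 578, 3955, 3553, 594, 2589, 3917, 0x80248cd659100a978c02901a00102500b008] = true := by
  decide +kernel
theorem chkN_16 : chkN (rM 16) 0 1 = true := by decide +kernel
theorem chkN_4b : chkN m4b 1 0 = true := by decide +kernel
theorem chkN_4c : chkN m4c 1 1 = true := by decide +kernel
theorem chkN_8a : chkN m8a 2 0 = true := by decide +kernel

theorem pow_inj {g w w' : G} {a b : ℕ} (h : g ^ 2 ^ a = w) (h' : g ^ 2 ^ b = w') (h1 : w ≠ 1) (h1' : w' ≠ 1)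
    (h2 : w * w = 1) (h2' : w' * w' = 1) : w = w' := by
  have key : ∀ {w w' : G} {a b : ℕ}, g ^ 2 ^ a = w → g ^ 2 ^ b = w' → w' ≠ 1 → w * w = 1 → ¬ a < b := by
    intro w w' a b h h' h1 h2 hl
    obtain ⟨d, rfl⟩ := Nat.exists_eq_add_of_lt hl
    rw [show 2 ^ (a + d + 1) = 2 ^ a * (2 * 2 ^ d) by ring, pow_mul, h, pow_mul, pow_two, h2, one_pow] at h'
    exact h1 h'.symm
  rw [← h, ← h', le_antisymm (not_lt.1 (key h' h h1 h2')) (not_lt.1 (key h h' h1' h2))]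

/-- six classes -/
theorem nc_z (h : HM2 z) : NC (⊤ : Subgroup G) {g | g ^ 2 ^ 21 = 1 ∧ ∃ w, IsConj z w ∧ PZ w g} 6 := by
  obtain ⟨x0, a0, b0, c0⟩ := cls_E h.toHM
  obtain ⟨x1, a1, b1, c1⟩ := cls_one h cl_1 chkZ_1
  obtain ⟨x2, a2, b2, c2⟩ := cls_one h cl_17 chkZ_17
  obtain ⟨x3, a3, b3, c3⟩ := cls_one h cl_4a chkZ_4a
  obtain ⟨x4, a4, b4, c4⟩ := cls_one h cl_4d chkZ_4d
  obtain ⟨x5, a5, b5, c5⟩ := cls_one h cl_8b chkZ_8b
  have hp : ∀ i, ∃ n ≤ 3, ![x0, x1, x2, x3, x4, x5] i ^ 2 ^ (n + 1) = z := fun i => by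
    fin_cases i
    · exact ⟨0, by norm_num, b0⟩
    · exact b1.imp fun n hn => ⟨hn.1.trans (by norm_num), hn.2⟩
    · exact b2.imp fun n hn => ⟨hn.1.trans (by norm_num), hn.2⟩
    · exact b3.imp fun n hn => ⟨hn.1.trans (by norm_num), hn.2⟩
    · exact b4.imp fun n hn => ⟨hn.1.trans (by norm_num), hn.2⟩
    · exact b5
  have hi : ∀ i, Inv h.toHM (![x0, x1, x2, x3, x4, x5] i) (![1, 2, 2, 4, 4, 8] i)
      (![true, true, false, true, false, false] i) := fun i => by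
    fin_cases i
    exacts [a0, a1, a2, a3, a4, a5]
  refine NC.of_fun ![x0, x1, x2, x3, x4, x5] (fun i => ?_) ?_ fun i j g _ e => ?_
  · obtain ⟨n, hn, e⟩ := hp i
    refine ⟨?_, z, IsConj.refl z, n, e⟩
    obtain ⟨d, hd⟩ : ∃ d, 21 = n + 1 + 1 + d := ⟨19 - n, by omega⟩
    rw [hd, pow_add, pow_mul, pow_succ, pow_mul, e, pow_two, h.zz, one_pow]
  · rintro g ⟨h2, w, hw, n, hn⟩
    obtain ⟨c, rfl⟩ := isConj_iff.1 hw
    have e1 : (c⁻¹ * g * c) ^ 2 ^ (n + 1) = z := by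
      have := conj_pow (a := c⁻¹) (b := g) (i := 2 ^ (n + 1))
      rw [inv_inv] at this
      rw [this, hn]; group
    have e2 : c⁻¹ * g * c * z = z * (c⁻¹ * g * c) := by rw [← e1, ← pow_succ, ← pow_succ']
    have e3 : PZ z (c⁻¹ * g * c) := ⟨n, e1⟩
    have fin : ∀ x, IsConj x (c⁻¹ * g * c) → ∃ y ∈ (⊤ : Subgroup G), y * x * y⁻¹ = g := fun x hx => by
      obtain ⟨y, hy⟩ := isConj_iff.1 (hx.trans (isConj_iff.2 ⟨c, by group⟩ : IsConj (c⁻¹ * g * c) g))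
      exact ⟨y, mem_top _, hy⟩
    rcases dd_two (h.θ_mem _ e2) (θ_two h.toHM e2 (conj_pow_one h2)) with
      e | e | e | e | e | e | e | e | e | e
    · exact ⟨0, fin _ (c0 _ e2 e3 e)⟩
    · exact ⟨1, fin _ (c1 _ e2 e3 e)⟩
    · exact (cls_none h cl_16 chkN_16 e2 e3 e).elim
    · exact ⟨2, fin _ (c2 _ e2 e3 e)⟩
    · exact ⟨3, fin _ (c3 _ e2 e3 e)⟩
    · exact (cls_none h cl_4b chkN_4b e2 e3 e).elim
    · exact (cls_none h cl_4c chkN_4c e2 e3 e).elim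
    · exact ⟨4, fin _ (c4 _ e2 e3 e)⟩
    · exact (cls_none h cl_8a chkN_8a e2 e3 e).elim
    · exact ⟨5, fin _ (c5 _ e2 e3 e)⟩
  · obtain ⟨n, -, e1⟩ := hp i
    obtain ⟨m, -, e2⟩ := hp j
    have e3 : g * z * g⁻¹ = z := pow_inj (by rw [← e1, ← conj_pow, e]) e2 (by simpa using h.z_ne) h.z_ne
      (by rw [conj_mul, h.zz]; simp) h.zz
    have := (hi i).eq (hi j) (mul_inv_eq_iff_eq_mul.1 e3) e
    revert this
    fin_cases i <;> fin_cases j <;> simp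

end CfsgLib.J4T.C62
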