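import Mathlib
import Cfsg.Agent.Lib.J4T.ThreeB
import Cfsg.Agent.Lib.Mathieu.Simple

/-!
# Groups of Janko-four type: the prime 3
-/

set_option autoImplicit false

namespace CfsgLib.J4T

open Cfsg CfsgLib.Golay CfsgLib.M24E CfsgLib.LargeExtra Subgroup
open scoped Pointwise commutatorElement

namespace G3

section

variable {G : Type*} [Group G] {z : G}

theorem Gens.conj_rho_pow {h : HM z} {a b : G} (g : Gens h a b) (i : ℕ) : IsConj a (h.ρ ^ i * a) := by
  induction i with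
  | zero => rw [pow_zero, one_mul]
  | succ i ih =>
    refine ih.trans (isConj_iff.2 ⟨b⁻¹, ?_⟩)
    have c : Commute b h.ρ := KK_rho h (R0_KK h g.b_mem)
    calc _ = b⁻¹ * h.ρ ^ i * (a * b) := by group
      _ = h.ρ ^ i * b⁻¹ * (b * h.ρ * a) := by rw [g.ab, (c.inv_left.pow_right i).eq, c.eq, mul_assoc h.ρ]
      _ = _ := by group

theorem Gens.conj_a {j : JM z} (hj : j.Good) {a b : G} (g : Gens j.toHM a b) : IsConj j.ρ a := by
  obtain ⟨c1, e1⟩ := duad1 j
  have l1 : (1 : ℕ) < 16 := by norm_num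
  have n : ∀ x, x * z = z * x → j.θ x • ofMask o0 = ofMask o0 → x ∈ normalizer (j.V : Set G) := fun x hx e => by
    rw [hj.V_eq]; exact (hj.wc.norm_H x hx).2 e
  have c : ∀ x, x * z = z * x → x * j.l 1 = j.l 1 * x → x * j.c (ofMask 262152) = j.c (ofMask 262152) * x :=
    fun x h1 h2 => by rw [← e1]; exact ((show Commute x (j.l 1) from h2).mul_right h1).eq
  have h1 := conj_three j.toMM (n _ j.rho_z (by rw [j.θ_rho, one_smul])) j.rho_three j.rho_ne c1
    (c _ j.rho_z (KK_rho j.toHM (l_KK j.toHM2 l1)).symm)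
  have u1 : isM (uE 1) = true := (HM.chkL_DD (HM.chkL_uE l1)).1
  have h2 : a * j.l 1 * a⁻¹ = j.l 1 := by
    refine j.lift_unique (j.l_mem 1 l1) (mul_mem (mul_mem g.ra.1 (j.l_mem 1 l1)) (inv_mem g.ra.1)) ?_
      (j.l_inner l1) ?_ (j.l_sq l1) ?_ (j.l_conj 1 l1 one_ne_zero) ?_
    · rw [j.θ_conj g.ra.comm (j.l_z l1), g.θa, (j.l_rk l1).θ_eq, eq_mul_inv_iff_mul_eq]
      exact (((pm_rp isM_A).intw_iff (pm_rp u1) (pm_rp u1)).1 (by decide +kernel)).symm
    · rw [(j.l_rk l1).θ_eq]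
      exact fun e => absurd ((pm_rp u1).isId_iff.2 e) (by decide +kernel)
    · calc _ = a * (j.l 1 * j.l 1) * a⁻¹ := by group
        _ = 1 := by rw [j.l_sq l1]; group
    · exact (j.l_conj 1 l1 one_ne_zero).trans (isConj_iff.2 ⟨a, rfl⟩)
  have h3 := conj_three j.toMM (n a g.ra.comm (by
      rw [g.θa]; exact ((pm_rp isM_A).setFix_iff _).1 (by decide +kernel))) g.a3
    (fun e => g.ne (by rw [e, one_mul, mul_one])) c1 (c a g.ra.comm (comm_of_conj_eq h2))
  exact h1.symm.trans h3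

theorem conj_of_R0 {j : JM z} (hj : j.Good) {x : G} (hx : x ∈ R0 j.toHM) (h1 : x ≠ 1) : IsConj j.ρ x := by
  by_cases e : j.θ x = 1
  · obtain ⟨i, hi, rfl⟩ := ker_three j.toHM hx.1 e hx.2.1
    interval_cases i
    · simp at h1
    · rw [pow_one]
    · obtain ⟨k, -, e1⟩ := exists_outer j.toHM
      exact isConj_iff.2 ⟨k, by rw [e1, j.rho_inv, pow_two]⟩
  · obtain ⟨a, b, g⟩ := exists_gens j.toHM
    obtain ⟨r, hr, e1⟩ := TT_conj hx.2.2 e
    obtain ⟨k, hk, rfl⟩ := j.θ_surj r hr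
    have e2 : j.θ k⁻¹ * j.θ x * (j.θ k⁻¹)⁻¹ = pm qA := by rw [j.θ_inv (j.K2_z hk), ← e1]; group
    obtain ⟨i, -, e3⟩ := R0_eq (conj_R0 (inv_mem hk) hx (e2 ▸ A_TT)) g.a_mem (by
      rw [j.θ_conj (comm_inv (j.K2_z hk)) (j.K2_z hx.1), e2, g.θa])
    refine (g.conj_a hj).trans ((g.conj_rho_pow i).trans (isConj_iff.2 ⟨k, ?_⟩))
    rw [← e3]; group

/-- `θ` on `KK` -/
def θK (h : HM z) : h.KK →* Spor.M22 :=
  (θN h h.KK inf_le_left).codRestrict _ fun x => Mathieu.mem_M22.2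
    ⟨h.θ_M24 (h.K2_z x.2.1), DD_fix23 (h.θ_mem _ (h.K2_z x.2.1)) (h.mem_KK.1 x.2).2, (h.mem_KK.1 x.2).2⟩

theorem θK_surj (h : HM z) : Function.Surjective (θK h) := by
  rintro ⟨p, hp⟩
  obtain ⟨h1, h2, h3⟩ := Mathieu.mem_M22.1 hp
  obtain ⟨k, hk, rfl⟩ := h.θ_surj p (mem_DD.2 ⟨h1, Or.inl ⟨h3, h2⟩⟩)
  exact ⟨⟨k, h.mem_KK.2 ⟨hk, h3⟩⟩, rfl⟩

theorem M22_nc : ¬ IsMulCommutative Spor.M22 := fun h => by
  have m : ∀ q, isM q = true → ap q 23 = 23 → ap q 0 = 0 → pm q ∈ Spor.M22 := fun q h1 h2 h3 =>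
    Mathieu.mem_M22.2 ⟨pm_mem h1, ((pm_rp h1).pt_eq_iff (by norm_num) (by norm_num)).2 h2,
      ((pm_rp h1).pt_eq_iff (by norm_num) (by norm_num)).2 h3⟩
  have := congrArg Subtype.val (h.is_comm.comm ⟨_, m qu isM_qu (by decide +kernel) (by decide +kernel)⟩
    ⟨_, m q5 isM_q5 (by decide +kernel) (by decide +kernel)⟩)
  exact absurd (((pm_rp isM_qu).intw_iff (pm_rp isM_q5) (pm_rp isM_q5)).2 this) (by decide +kernel)

theorem M22_center : center Spor.M22 = ⊥ :=
  (Mathieu.simple_M22.eq_bot_or_eq_top_of_normal _ inferInstance).resolve_right fun e =>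
    M22_nc (center_eq_top_iff.1 e)

theorem M22_perfect : commutator Spor.M22 = ⊤ :=
  (Mathieu.simple_M22.eq_bot_or_eq_top_of_normal _ inferInstance).resolve_left fun e =>
    M22_nc (center_eq_top_iff.1 ((commutator_eq_bot_iff_center_eq_top _).1 e))

theorem center_KK (h : HM z) : center h.KK = (θK h).ker := by
  ext x
  constructor
  · intro hx
    have : θK h x ∈ center Spor.M22 := mem_center_iff.2 fun p => by
      obtain ⟨k, rfl⟩ := θK_surj h p
      rw [← map_mul, ← map_mul, mem_center_iff.1 hx k]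
    rwa [M22_center] at this
  · intro hx
    exact mem_center_iff.2 fun k => Subtype.ext
      (ker_comm h x.2.1 (congrArg Subtype.val (MonoidHom.mem_ker.1 hx)) k.2).symm.eq

theorem zrho_KK (h : HM z) : z * h.ρ ∈ h.KK :=
  mul_mem (mem_KK_of h rfl (zrho h).eq) (mem_KK_of h h.rho_z rfl)

theorem center_KK' (h : HM z) : center h.KK = zpowers ⟨z * h.ρ, zrho_KK h⟩ := by
  rw [center_KK]
  ext x
  rw [← mem_map_iff_mem h.KK.subtype_injective (K := zpowers _), MonoidHom.map_zpowers, coe_subtype, ker_iff,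
    MonoidHom.mem_ker]
  exact ⟨fun e => ⟨x.2.1, congrArg Subtype.val e⟩, fun e => Subtype.ext e.2⟩

theorem perfect_KK (h : HM2 z) : ⁅h.KK, h.KK⁆ = h.KK := by
  refine le_antisymm (commutator_le_self _) ?_
  have l4 : (4 : ℕ) < 16 := by norm_num
  have key : ∀ x < 16, x ≠ 0 → h.l x * h.l 4 ∈ ⁅h.KK, h.KK⁆ := fun x hx x0 => by
    obtain ⟨k, hk, e⟩ := conj_l4 h (h.l_mem x hx) (h.l_inner hx) (fun e => x0 (uE_inj hx (by norm_num) (by
      rw [(h.l_θ x hx).app (by norm_num), (h.l_θ 0 (by norm_num)).app (by norm_num), e, h.l_zero, h.θ_one])))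
      (h.l_sq hx) (h.l_conj x hx x0)
    have := commutator_mem_commutator hk (l_KK h l4)
    rwa [commutatorElement_def, e, inv_eq_of_mul_eq_one_right (h.l_sq l4)] at this
  have m7 : h.l 7 ∈ ⁅h.KK, h.KK⁆ := by
    have := key 3 (by norm_num) (by norm_num)
    rwa [h.l_mul 3 (by norm_num) 4 l4, show fU 3 4 = 0 by decide +kernel, pow_zero, mul_one] at this
  have m4 : h.l 4 ∈ ⁅h.KK, h.KK⁆ := by simpa using mul_mem (inv_mem m7) (key 7 (by norm_num) (by norm_num))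
  have m5 : h.l 5 ∈ ⁅h.KK, h.KK⁆ := by simpa using mul_mem (key 5 (by norm_num) (by norm_num)) (inv_mem m4)
  have mz : z ∈ ⁅h.KK, h.KK⁆ := by
    have := key 1 (by norm_num) (by norm_num)
    rw [h.l_mul 1 (by norm_num) 4 l4, show fU 1 4 = 1 by decide +kernel, pow_one] at this
    simpa using mul_mem (inv_mem m5) this
  have mρ : h.ρ ∈ ⁅h.KK, h.KK⁆ := by
    obtain ⟨a, b, g⟩ := exists_gens h.toHM
    have := commutator_mem_commutator (R0_KK _ g.a_mem) (R0_KK _ g.b_mem)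
    rw [commutatorElement_def, g.ab] at this
    simpa [mul_assoc] using this
  intro x hx
  have h1 : θK h.toHM ⟨x, hx⟩ ∈ (commutator h.KK).map (θK h.toHM) := by
    rw [map_commutator_eq, MonoidHom.range_eq_top.2 (θK_surj _), ← commutator_def, M22_perfect]; trivial
  obtain ⟨y, hy, e⟩ := h1
  have h2 : (y : G) ∈ ⁅h.KK, h.KK⁆ := by
    rw [← map_subtype_commutator]; exact ⟨y, hy, rfl⟩
  have h3 : y⁻¹ * ⟨x, hx⟩ ∈ (θK h.toHM).ker := by rw [MonoidHom.mem_ker, map_mul, map_inv, e, inv_mul_cancel]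
  have h4 : (y : G)⁻¹ * x ∈ zpowers (z * h.ρ) := (ker_iff _).2
    ⟨(y⁻¹ * ⟨x, hx⟩).2.1, congrArg Subtype.val (MonoidHom.mem_ker.1 h3)⟩
  simpa using mul_mem h2 (zpowers_le.2 (mul_mem mz mρ) h4)

theorem KK_eq (h : HM z) : centralizer ({z} : Set G) ⊓ centralizer (zpowers h.ρ : Set G) = h.KK := by
  ext x
  rw [mem_inf, zpowers_eq_closure, centralizer_closure, mem_cent, mem_cent]
  exact ⟨fun e => mem_KK_of h e.1 e.2, fun e => ⟨h.K2_z e.1, KK_rho h e⟩⟩

end

end G3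

open G3

variable {G : Type*} [Group G] [Finite G] {z : G}

theorem JM.Good.conj3 {j : JM z} (hj : j.Good) : ∀ x : G, orderOf x = 3 → IsConj j.ρ x := by
  intro x hx
  have : Fact (Nat.Prime 3) := ⟨Nat.prime_three⟩
  obtain ⟨a, b, g⟩ := exists_gens j.toHM
  obtain ⟨Q, hQ⟩ := g.sylow hj.cent3
  obtain ⟨P, hP⟩ := (IsPGroup.of_card (n := 1) (G := zpowers x) (p := 3)
    (by rw [Nat.card_zpowers, hx, pow_one])).exists_le_sylow
  obtain ⟨u, rfl⟩ := MulAction.exists_smul_eq G Q P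
  have h1 := hP (mem_zpowers x)
  rw [Sylow.coe_subgroup_smul, hQ, mem_pointwise_smul_iff_inv_smul_mem] at h1
  refine (conj_of_R0 hj h1 fun e => ?_).trans (isConj_iff.2 ⟨u, ?_⟩)
  · rw [inv_smul_eq_iff, smul_one] at e
    rw [e, orderOf_one] at hx
    norm_num at hx
  · simp [mul_assoc]

/-- the conclusion of S5563 -/
theorem JM.Good.s5563 {j : JM z} (hj : j.Good) {P : Subgroup G} (hP : P = zpowers j.ρ) :
    ⁅centralizer ({z} : Set G) ⊓ centralizer (P : Set G), centralizer ({z} : Set G) ⊓ centralizer (P : Set G)⁆ =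
      centralizer ({z} : Set G) ⊓ centralizer (P : Set G) ∧
    IsCyclic (center ↥(centralizer ({z} : Set G) ⊓ centralizer (P : Set G))) ∧
    Nat.card (center ↥(centralizer ({z} : Set G) ⊓ centralizer (P : Set G))) = 6 ∧
    Spor.IsoM22 (↥(centralizer ({z} : Set G) ⊓ centralizer (P : Set G)) ⧸
      center ↥(centralizer ({z} : Set G) ⊓ centralizer (P : Set G))) ∧
    normalizer (P : Set G) ≤ centralizer ({z} : Set G) := by
  subst hP
  rw [KK_eq]
  refine ⟨perfect_KK j.toHM2, ?_, ?_, ⟨?_⟩, fun n hn => ?_⟩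
  · rw [center_KK']; infer_instance
  · rw [center_KK', Nat.card_zpowers, orderOf_mk, orderOf_zrho]
  · exact (QuotientGroup.quotientMulEquivOfEq (center_KK _)).trans
      (QuotientGroup.quotientKerEquivOfSurjective _ (θK_surj _))
  · obtain ⟨i, e⟩ := (Submonoid.mem_powers_iff _ _).1
      (mem_powers_iff_mem_zpowers.2 ((mem_normalizer_iff.1 hn _).1 (mem_zpowers j.ρ)))
    exact mem_cent.2 (j.K2_z (mem_K2_of_norm hj.cent3 e.symm))

/-- the conclusion of S5564 -/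
theorem JM.Good.s5564 {j : JM z} (hj : j.Good) : ∀ x y : G, orderOf x = 3 → orderOf y = 3 → IsConj x y :=
  fun x y hx hy => (hj.conj3 x hx).symm.trans (hj.conj3 y hy)

/-- the conclusion of S5565 -/
theorem JM.Good.s5565 {j : JM z} (hj : j.Good) (R : Sylow 3 G) (hR : (R : Subgroup G) ≤ centralizer ({z} : Set G)) :
    IsExtraspecial 3 (R : Subgroup G) ∧ Nat.card (R : Subgroup G) = 27 ∧ Monoid.exponent (R : Subgroup G) = 3 ∧
    normalizer ((R : Subgroup G) : Set G) ≤ centralizer ({z} : Set G) ∧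
    Nat.card (normalizer ((R : Subgroup G) : Set G)) = 864 := by
  have : Fact (Nat.Prime 3) := ⟨Nat.prime_three⟩
  obtain ⟨a, b, g⟩ := exists_gens j.toHM
  obtain ⟨Q, hQ⟩ := g.sylow hj.cent3
  have hQ' : (Q : Subgroup G) ≤ centralizer ({z} : Set G) := fun x hx => mem_cent.2 (j.K2_z (hQ ▸ hx).1)
  obtain ⟨u, hu⟩ := MulAction.exists_smul_eq (centralizer ({z} : Set G)) (Q.subtype hQ') (R.subtype hR)
  rw [Sylow.smul_subtype] at hu
  have e : (R : Subgroup G) = (R0 j.toHM).map (MulAut.conj (u : G)).toMonoidHom := by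
    rw [← Sylow.subtype_injective hu, ← hQ]; rfl
  have iso : R0 j.toHM ≃* (R : Subgroup G) := e ▸ (MulAut.conj (u : G)).subgroupMap _
  have c : Nat.card (R : Subgroup G) = 27 := by rw [← Nat.card_congr iso.toEquiv, g.card]
  have n : normalizer ((R : Subgroup G) : Set G) =
      (normalizer (R0 j.toHM : Set G)).map (MulAut.conj (u : G)).toMonoidHom := by
    rw [e, map_equiv_normalizer_eq]
  refine ⟨PGroup.isExtraspecial_of_card_eq_cube c fun h => g.ne ?_, c, ?_, ?_, ?_⟩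
  · have h1 := h.is_comm.comm (iso ⟨a, g.a_mem⟩) (iso ⟨b, g.b_mem⟩)
    rw [← map_mul, ← map_mul] at h1
    exact congrArg Subtype.val (iso.injective h1)
  · rw [← Monoid.exponent_eq_of_mulEquiv iso]
    refine ((Nat.dvd_prime Nat.prime_three).1 (Monoid.exponent_dvd_iff_forall_pow_eq_one.2
      fun x => Subtype.ext x.2.2.1)).resolve_left fun h => j.rho_ne ?_
    have := Monoid.pow_exponent_eq_one (⟨j.ρ, rho_R0 _⟩ : R0 j.toHM)
    rw [h, pow_one] at this
    exact congrArg Subtype.val this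
  · rw [n]
    rintro _ ⟨x, hx, rfl⟩
    exact mul_mem (mul_mem u.2 (mem_cent.2 (j.K2_z (g.norm_le hj.cent3 hx)))) (inv_mem u.2)
  · rw [n, card_map_of_injective (MulAut.conj (u : G)).injective, g.card_norm hj.cent3]

end CfsgLib.J4T
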