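import Mathlib
import Cfsg.Agent.Lib.J4T.ClsTwoH
import Cfsg.Agent.Lib.J4T.Three

/-! # The nine classes of 2-elements of `C(ρ) = 6.M22` -/

set_option autoImplicit false
set_option linter.unusedSectionVars false

namespace CfsgLib.J4T.C62

open Cfsg CfsgLib.Golay CfsgLib.M24E Subgroup
open scoped Pointwise

variable {G : Type*} [Group G] {z : G}

theorem NC.of_fun' {H : Subgroup G} {X : Set G} {n : ℕ} (f : Fin n → G) (h1 : ∀ i, f i ∈ X)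
    (h2 : ∀ x ∈ X, ∃ i, ∃ h ∈ H, h * f i * h⁻¹ = x)
    (h3 : ∀ i j, i < j → ∀ h ∈ H, h * f i * h⁻¹ ≠ f j) : NC H X n :=
  NC.of_fun f h1 h2 fun i j h hh e => by
    rcases lt_trichotomy i j with l | l | l
    · exact (h3 i j l h hh e).elim
    · exact l
    · exact (h3 j i l h⁻¹ (inv_mem hh) (by rw [← e]; group)).elim

theorem inv_comm (h : HM2 z) {c k : G} (hc : c ∈ h.KK) (hk : k ∈ h.KK) (h2 : h.θ c ^ 2 = 1)
    (e : h.θ c * h.θ k = h.θ k * h.θ c) : c * k = k * c := by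
  by_cases h1 : h.θ c = 1
  · exact G3.ker_comm h.toHM hc.1 h1 hk
  have cz := h.K2_z hc.1
  have kz := h.K2_z hk.1
  obtain ⟨t, ht, e1, e2, e3⟩ := h.exists_lift (h.θ_mem c cz) (h.mem_KK.1 hc).2 (by rwa [← pow_two]) h1
  have e4 : k * t * k⁻¹ = t := h.lift_unique ht (mul_mem (mul_mem hk.1 ht) (inv_mem hk.1))
    (by rw [h.θ_conj kz (h.K2_z ht), e1, ← e, mul_inv_cancel_right]) (e1 ▸ (h.mem_KK.1 hc).2) (e1 ▸ h1) e2
    (by rw [conj_mul, e2]; simp) e3 (e3.trans (isConj_iff.2 ⟨k, rfl⟩))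
  have e5 : Commute (c * t⁻¹) k := G3.ker_comm h.toHM (mul_mem hc.1 (inv_mem ht))
    (by rw [h.θ_mul _ _ cz (comm_inv (h.K2_z ht)), h.θ_inv (h.K2_z ht), e1, mul_inv_cancel]) hk
  have e6 : Commute t k := (mul_inv_eq_iff_eq_mul.1 e4).symm
  simpa using (e5.mul_left e6).eq

theorem l_conj' (h : HM2 z) {t : G} (ht : t ∈ h.K2) {p x y : ℕ} (hp : Rp (ap p) (h.θ t)) (hx : x < 16) (hy : y < 16)
    (h0 : x ≠ 0) (h0' : y ≠ 0) (e : intw (ap p) (ap (uE x)) (ap (uE y)) = true)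
    (e' : isId (ap (uE y)) = false) : t * h.l x * t⁻¹ = h.l y := by
  refine h.lift_unique (h.l_mem y hy) (mul_mem (mul_mem ht (h.l_mem x hx)) (inv_mem ht)) ?_ (h.l_inner hy) (fun e1 => ?_)
    (h.l_sq hy) (by rw [conj_mul, h.l_sq hx]; simp) (h.l_conj y hy h0')
    ((h.l_conj x hx h0).trans (isConj_iff.2 ⟨t, rfl⟩))
  · rw [h.θ_conj (h.K2_z ht) (h.l_z hx), (hp.intw_iff (h.l_θ x hx) (h.l_θ y hy)).1 e, mul_inv_cancel_right]
  · rw [(h.l_θ y hy).isId_iff.2 e1] at e'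
    cases e'

theorem redK (h : HM z) {k y : G} {p m n : ℕ} (hk : k ∈ h.K2) (e : h.θ k = pm p) (hm : k ^ 2 ^ m = 1)
    (hy : y ∈ h.KK) (hn : y ^ 2 ^ n = 1) (hc : Cj p (h.θ y)) :
    ∃ c ∈ h.KK, c * k * c⁻¹ = y ∨ c * (k * z) * c⁻¹ = y := by
  obtain ⟨d, hd, d0, e1⟩ := hc
  obtain ⟨c, hc, rfl⟩ := h.θ_surj d hd
  have cz := h.K2_z hc
  have yz := h.K2_z hy.1
  obtain ⟨i, a, e2⟩ := lift_two h hk (mul_mem (mul_mem (inv_mem hc) hy.1) hc) (by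
    rw [h.θ_mul _ _ (comm_mul (comm_inv cz) yz) cz, h.θ_mul _ _ (comm_inv cz) yz, h.θ_inv cz, ← e1, e]
    group) hm (conj_pow_one hn)
  have e3 : c * h.ρ ^ i * (k * z ^ a) * (c * h.ρ ^ i)⁻¹ = y := by
    calc _ = c * (h.ρ ^ i * (k * z ^ a) * (h.ρ ^ i)⁻¹) * c⁻¹ := by group
      _ = y := by rw [e2]; group
  refine ⟨c * h.ρ ^ i, mul_mem (h.mem_KK.2 ⟨hc, d0⟩) (pow_mem (G3.mem_KK_of h h.rho_z rfl) i), ?_⟩
  rcases h.zpow_cases a with e | e <;> rw [e] at e3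
  · exact Or.inl (by simpa using e3)
  · exact Or.inr e3

theorem Cj.inner {p : ℕ} {g : P24} (h : Cj p g) (hp : pm p ∈ DD) (hp' : isM p = true) (h0 : g (pt 0) = pt 0) :
    ap p 0 = 0 := by
  obtain ⟨r, hr, -, rfl⟩ := h
  exact ((pm_rp hp').pt_eq_iff (by norm_num) (by norm_num)).1 ((conj_inner hr hp).1 h0)

theorem Cl.not_cj {p A b : ℕ} (c : Cl p A b 1) {g : P24} (h0 : g (pt 0) = pt 0) : ¬ Cj p g := fun h =>
  (c.ho.resolve_left (by simp)).1 (h.inner (HM.chkL_DD c.chk).2 (isM_of c.chk) h0)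

theorem exists_kb (h : HM2 z) : ∃ k ∈ h.KK, h.θ k = pm p4b ∧ k ^ 2 ^ 2 = 1 ∧ ∃ c ∈ h.KK, c * k * c⁻¹ = k * z := by
  have lift : ∀ p, is22 p = true → powId (ap p) 2 = true → isId (ap p) = false →
      ∃ t ∈ h.KK, Rp (ap p) (h.θ t) ∧ t * t = 1 := fun p a1 a2 a3 => by
    obtain ⟨b1, b2, b3⟩ := is22_spec a1
    obtain ⟨t, ht, e1, e2, -⟩ := h.exists_lift b2 b3 (by rw [← pow_two]; exact ((pm_rp b1).powId_iff 2).1 a2)
      (fun e => by rw [(pm_rp b1).isId_iff.2 e] at a3; cases a3)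
    exact ⟨t, h.mem_KK.2 ⟨ht, e1 ▸ b3⟩, e1 ▸ pm_rp b1, e2⟩
  obtain ⟨t, ht, r, t2⟩ := lift 0xba60e8ca757d02c22ac33984b415a0 (by decide +kernel) (by decide +kernel)
    (by decide +kernel)
  obtain ⟨u, hu, r', u2⟩ := lift 0xba611732953cdb212ac8798851ac20 (by decide +kernel) (by decide +kernel)
    (by decide +kernel)
  have e1 : t * h.l 2 * t⁻¹ = h.l 6 := l_conj' h ht.1 r (by norm_num) (by norm_num) (by norm_num) (by norm_num)
    (by decide +kernel) (by decide +kernel)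
  have e2 : t * h.l 3 * t⁻¹ = h.l 11 := l_conj' h ht.1 r (by norm_num) (by norm_num) (by norm_num) (by norm_num)
    (by decide +kernel) (by decide +kernel)
  have e3 : u * h.l 2 * u⁻¹ = h.l 10 := l_conj' h hu.1 r' (by norm_num) (by norm_num) (by norm_num) (by norm_num)
    (by decide +kernel) (by decide +kernel)
  have e4 : u * t = t * u := inv_comm h hu ht ((r'.powId_iff 2).1 (by decide +kernel))
    ((r'.intw_iff r r).1 (by decide +kernel))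
  have ti : t⁻¹ = t := inv_eq_of_mul_eq_one_right t2
  refine ⟨h.l 2 * t, mul_mem (G3.l_KK h (by norm_num)) ht, ?_, ?_, h.l 3 * u, mul_mem (G3.l_KK h (by norm_num)) hu, ?_⟩
  · rw [h.θ_mul _ _ (h.l_z (by norm_num)) (h.K2_z ht.1)]
    exact (((h.l_θ 2 (by norm_num)).mul r).eqF_iff (pm_rp (isM_of chk_4b))).1 (by decide +kernel)
  · have e5 : (h.l 2 * t) ^ 2 = h.l 4 * z ^ fU 2 6 := by
      rw [← show 2 ^^^ 6 = 4 from rfl, ← h.l_mul 2 (by norm_num) 6 (by norm_num), ← e1, ti, pow_two]; group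
    rw [pow_two 2, pow_mul, e5, pow_two, mul_assoc, ← mul_assoc (z ^ _), ← comm_zpow (h.l_z (by norm_num)),
      mul_assoc, h.zpow_self, mul_one, h.l_sq (by norm_num)]
  · have e5 := h.l_mul 3 (by norm_num) 10 (by norm_num)
    have e6 := h.l_mul 9 (by norm_num) 11 (by norm_num)
    have e7 : (h.l 3)⁻¹ = h.l 3 := inv_eq_of_mul_eq_one_right (h.l_sq (by norm_num))
    have e8 : z ^ fU 9 11 * z ^ fU 3 10 = z := by
      rw [← pow_add, show fU 9 11 + fU 3 10 = 1 by decide +kernel, pow_one]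
    calc _ = h.l 3 * (u * h.l 2 * u⁻¹) * (u * t * u⁻¹) * (h.l 3)⁻¹ := by group
      _ = h.l 3 * h.l 10 * (t * h.l 3 * t⁻¹) * t := by rw [e3, e4, e7]; group
      _ = h.l 9 * (z ^ fU 3 10 * h.l 11) * t := by rw [e2, e5, mul_assoc (h.l _)]; rfl
      _ = h.l 2 * (z ^ fU 9 11 * z ^ fU 3 10) * t := by
        rw [← comm_zpow (h.l_z (by norm_num)), ← mul_assoc, e6, mul_assoc (h.l _)]; rfl
      _ = _ := by rw [e8, mul_assoc, ← h.K2_z ht.1, mul_assoc]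

theorem not_flip (h : HM2 z) {k x c : G} (hk : k ∈ h.KK) (e : h.θ k = pm p8a) (hx : x = k ∨ x = k ^ 2)
    (hc : c ∈ h.KK) : c * x * c⁻¹ ≠ x * z := fun e1 => by
  have kz := h.K2_z hk.1
  have cz := h.K2_z hc.1
  have hxK : x ∈ h.KK := by rcases hx with rfl | rfl; exacts [hk, pow_mem hk 2]
  have xz := h.K2_z hxK.1
  have kx : Commute k x := by rcases hx with rfl | rfl; exacts [rfl, Commute.pow_right rfl 2]
  have e2 : Commute (h.θ c) (h.θ x) := by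
    have := h.θ_conj cz xz
    rw [e1, h.θ_mul_E h.z_mem xz] at this
    exact (mul_inv_eq_iff_eq_mul.1 this.symm)
  have e3 : Commute (h.θ c) (pm p4a) := by
    rcases hx with rfl | rfl
    · rw [← p8a_sq, ← e]; exact e2.pow_right 2
    · rwa [h.θ_pow kz, e, p8a_sq] at e2
  obtain ⟨i, -, e4⟩ := (cent_search (h.θ_mem c cz) (p4a_sq ▸ e3.pow_right 2)).2.2.2 (h.mem_KK.1 hc).2 e3
  have e5 : h.θ (c * k ^ i) = h.θ c * pm p8a ^ i := by rw [h.θ_mul _ _ cz (comm_pow kz i), h.θ_pow kz, e]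
  have e6 : c * k ^ i * x = x * (c * k ^ i) := inv_comm h (mul_mem hc (pow_mem hk i)) hxK (e5 ▸ e4) (by
    rw [h.θ_mul _ _ cz (comm_pow kz i)]
    refine (e2.mul_left ?_).eq
    show h.θ (k ^ i) * h.θ x = h.θ x * h.θ (k ^ i)
    rw [← h.θ_mul _ _ (comm_pow kz i) xz, ← h.θ_mul _ _ xz (comm_pow kz i), (kx.pow_left i).eq])
  rw [mul_assoc, (kx.pow_left i).eq, ← mul_assoc, ← mul_assoc, mul_left_inj] at e6
  rw [e6, mul_inv_cancel_right] at e1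
  exact h.z_ne (by simpa using e1)

/-- nine classes -/
theorem nc_three (h : HM2 z) (c3 : ∀ x : G, x * h.ρ = h.ρ * x → x * z = z * x) :
    NC (centralizer {h.ρ}) {y | y ^ 2 ^ 21 = 1 ∧ y * h.ρ = h.ρ * y} 9 := by
  have hK : centralizer {h.ρ} = h.KK := by
    ext x
    rw [mem_centralizer_singleton_iff]
    exact ⟨fun e => G3.mem_KK_of h.toHM (c3 x e) e, G3.KK_rho h.toHM⟩
  rw [hK]
  obtain ⟨k, r, k8⟩ := exists_k h cl_8a
  have hk : k ∈ h.KK := h.mem_KK.2 ⟨r.mem, r.inner_iff.2 (by decide +kernel)⟩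
  obtain ⟨b, hb, θb, b4, c, hc, bc⟩ := exists_kb h
  have zK : z ∈ h.KK := G3.mem_KK_of h.toHM rfl h.rho_z.symm
  have lK := G3.l_KK h (x := 4) (by norm_num)
  have θl : h.θ (h.l 4) = pm (rE 1) := (h.l_rk (by norm_num)).θ_eq.trans (by rw [G3.rE_one])
  have θk : h.θ (k ^ 2) = pm p4a := by rw [h.θ_pow r.comm, r.θ_eq, p8a_sq]
  have k4 : (k ^ 2) ^ 2 ^ 2 = 1 := by rw [← pow_mul]; exact k8
  have l2 : h.l 4 ^ 2 ^ 1 = 1 := by rw [pow_one, pow_two, h.l_sq (by norm_num)]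
  have θz : ∀ x ∈ h.KK, h.θ (x * z) = h.θ x := fun x hx => h.θ_mul_E h.z_mem (h.K2_z hx.1)
  have p8 : ∀ x : G, ∀ n ≤ 3, x ^ 2 ^ n = 1 → x ^ 8 = 1 := fun x n hn e =>
    orderOf_dvd_iff_pow_eq_one.1 ((orderOf_dvd_of_pow_eq_one e).trans (pow_dvd_pow 2 hn))
  have z8 : ∀ x ∈ h.KK, x ^ 8 = 1 → (x * z) ^ 8 = 1 := fun x hx e => by
    rw [Commute.mul_pow (h.K2_z hx.1), e, p8 z 1 (by norm_num) (by rw [pow_one, pow_two, h.zz]), one_mul]
  have hf : ∀ i, ![1, z, h.l 4, h.l 4 * z, k ^ 2, k ^ 2 * z, b, k, k * z] i ∈ h.KK ∧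
      ![1, z, h.l 4, h.l 4 * z, k ^ 2, k ^ 2 * z, b, k, k * z] i ^ 8 = 1 ∧
      orderOf (h.θ (![1, z, h.l 4, h.l 4 * z, k ^ 2, k ^ 2 * z, b, k, k * z] i)) = ![1, 1, 2, 2, 4, 4, 4, 8, 8] i := by
    intro i
    fin_cases i
    · exact ⟨one_mem _, one_pow _, by simp [h.θ_one]⟩
    · exact ⟨zK, by simpa using z8 1 (one_mem _) (one_pow _), by simp [h.θ_z]⟩
    · exact ⟨lK, p8 _ 1 (by norm_num) l2, (congrArg orderOf θl).trans cl_1.ord⟩
    · exact ⟨mul_mem lK zK, z8 _ lK (p8 _ 1 (by norm_num) l2), (congrArg orderOf ((θz _ lK).trans θl)).trans cl_1.ord⟩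
    · exact ⟨pow_mem hk 2, p8 _ 2 (by norm_num) k4, (congrArg orderOf θk).trans cl_4a.ord⟩
    · exact ⟨mul_mem (pow_mem hk 2) zK, z8 _ (pow_mem hk 2) (p8 _ 2 (by norm_num) k4),
        (congrArg orderOf ((θz _ (pow_mem hk 2)).trans θk)).trans cl_4a.ord⟩
    · exact ⟨hb, p8 _ 2 (by norm_num) b4, (congrArg orderOf θb).trans cl_4b.ord⟩
    · exact ⟨hk, k8, (congrArg orderOf r.θ_eq).trans cl_8a.ord⟩
    · exact ⟨mul_mem hk zK, z8 _ hk k8, (congrArg orderOf ((θz _ hk).trans r.θ_eq)).trans cl_8a.ord⟩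
  refine NC.of_fun' ![1, z, h.l 4, h.l 4 * z, k ^ 2, k ^ 2 * z, b, k, k * z] (fun i => ⟨?_, G3.KK_rho _ (hf i).1⟩)
    (fun y hy => ?_) fun i j hij g hg e => ?_
  · rw [show 2 ^ 21 = 8 * 2 ^ 18 by norm_num, pow_mul, (hf i).2.1, one_pow]
  · have hy' : y ∈ h.KK := G3.mem_KK_of h.toHM (c3 y hy.2) hy.2
    have yz := h.K2_z hy'.1
    have y0 := (h.mem_KK.1 hy').2
    rcases dd_two (h.θ_mem _ yz) (θ_two h.toHM yz hy.1) with e | e | e | e | e | e | e | e | e | e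
    · rcases h.E_inf_K2 (h.mem_E_of_two yz e hy.1) hy'.1 with rfl | rfl
      · exact ⟨0, 1, one_mem _, by simp⟩
      · exact ⟨1, 1, one_mem _, by simp⟩
    · obtain ⟨c, hc, e | e⟩ := redK h.toHM lK.1 θl l2 hy' hy.1 e
      exacts [⟨2, c, hc, e⟩, ⟨3, c, hc, e⟩]
    · exact (cl_16.not_cj y0 e).elim
    · exact (cl_17.not_cj y0 e).elim
    · obtain ⟨c, hc, e | e⟩ := redK h.toHM (pow_mem hk 2).1 θk k4 hy' hy.1 e
      exacts [⟨4, c, hc, e⟩, ⟨5, c, hc, e⟩]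
    · obtain ⟨d, hd, e | e⟩ := redK h.toHM hb.1 θb b4 hy' hy.1 e
      · exact ⟨6, d, hd, e⟩
      · exact ⟨6, d * c, mul_mem hd hc, by rw [← e, ← bc]; simp only [mul_inv_rev, mul_assoc]; rfl⟩
    · exact (cl_4c.not_cj y0 e).elim
    · exact (cl_4d.not_cj y0 e).elim
    · obtain ⟨c, hc, e | e⟩ := redK h.toHM hk.1 r.θ_eq k8 hy' hy.1 e
      exacts [⟨7, c, hc, e⟩, ⟨8, c, hc, e⟩]
    · exact (cl_8b.not_cj y0 e).elim
  · have gz := h.K2_z hg.1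
    have e1 : ![1, 1, 2, 2, 4, 4, 4, 8, 8] i = ![1, 1, 2, 2, 4, 4, 4, 8, 8] j := by
      rw [← (hf i).2.2, ← (hf j).2.2, ← e, h.θ_conj gz (h.K2_z (hf i).1.1)]
      exact ((MulAut.conj (h.θ g)).orderOf_eq _).symm
    have e2 : (i = 0 ∧ j = 1) ∨ (i = 2 ∧ j = 3) ∨ (i = 4 ∧ j = 5) ∨ (i = 4 ∧ j = 6) ∨ (i = 5 ∧ j = 6) ∨
        (i = 7 ∧ j = 8) := by
      clear e
      revert i j
      decide
    have flipb : ∀ x a, a * z = z * a → a * a = 1 → g * (x * a) * g⁻¹ = b → a = 1 ∨ a = z →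
        g⁻¹ * c * g * x * (g⁻¹ * c * g)⁻¹ = x * z := by
      rintro x a a1 a2 a3 a4
      have a5 : g * a * g⁻¹ = a := by
        rcases a4 with rfl | rfl
        · simp
        · rw [gz, mul_inv_cancel_right]
      have a6 : c * a * c⁻¹ = a := by
        rcases a4 with rfl | rfl
        · simp
        · rw [h.K2_z hc.1, mul_inv_cancel_right]
      have a7 : g * x * g⁻¹ = b * a := by
        rw [← a3, ← a5, conj_mul, a5, mul_assoc x, a2, mul_one]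
      calc _ = g⁻¹ * (c * (g * x * g⁻¹) * c⁻¹) * g := by group
        _ = g⁻¹ * (c * b * c⁻¹ * (c * a * c⁻¹)) * g := by rw [a7]; group
        _ = g⁻¹ * (g * x * g⁻¹) * (z * g) := by rw [bc, a6, a7, mul_assoc b, ← a1]; group
        _ = x * z := by rw [← gz]; group
    have gc := mul_mem (mul_mem (inv_mem hg) hc) hg
    rcases e2 with ⟨rfl, rfl⟩ | ⟨rfl, rfl⟩ | ⟨rfl, rfl⟩ | ⟨rfl, rfl⟩ | ⟨rfl, rfl⟩ | ⟨rfl, rfl⟩
    · exact h.z_ne (by simpa using e.symm)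
    · exact (h.one_of _ lK.1 (h.l_inner (by norm_num)) (fun e => by simpa [e] using (hf 2).2.2) (h.l_sq (by norm_num))).1
        (h.l_conj 4 (by norm_num) (by norm_num)) ((h.l_conj 4 (by norm_num) (by norm_num)).trans (isConj_iff.2 ⟨g, e⟩))
    · exact not_flip h hk r.θ_eq (Or.inr rfl) hg e
    · exact not_flip h hk r.θ_eq (Or.inr rfl) gc (flipb _ 1 (by simp) (by simp) (by simpa using e) (Or.inl rfl))
    · exact not_flip h hk r.θ_eq (Or.inr rfl) gc (flipb _ z rfl h.zz e (Or.inr rfl))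
    · exact not_flip h hk r.θ_eq (Or.inl rfl) hg e

end CfsgLib.J4T.C62
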