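import Mathlib
import Cfsg.Agent.Lib.J4T.ClsThree
import Cfsg.Agent.Lib.J4T.Five

/-! # The nine classes of `{2, 3}`-elements of a group `2^3 . L3(2)` -/

set_option autoImplicit false
set_option linter.unusedSectionVars false

namespace CfsgLib.J4T.C62

open Cfsg CfsgLib.Golay CfsgLib.M24E Subgroup

/-- a `3 × 3` matrix over `F2` (columns of three bits) applied to a vector -/
def a3 (A v : ℕ) : ℕ := (v % 2 * (A % 8)) ^^^ (v / 2 % 2 * (A / 8 % 8)) ^^^ (v / 4 % 2 * (A / 64 % 8))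

/-- product of matrices -/
def m3 (A B : ℕ) : ℕ := a3 A (B % 8) + 8 * a3 A (B / 8 % 8) + 64 * a3 A (B / 64 % 8)

/-- invertible matrices -/
def i3 (A : ℕ) : Prop := ∀ v < 8, a3 A v = 0 → v = 0

instance (A : ℕ) : Decidable (i3 A) := inferInstanceAs (Decidable (∀ v < 8, a3 A v = 0 → v = 0))

theorem a3_lt (A v : ℕ) : a3 A v < 8 := by
  have h : ∀ a b : ℕ, a % 2 * (b % 8) < 2 ^ 3 := fun a b => by
    rcases Nat.mod_two_eq_zero_or_one a with h | h <;> rw [h] <;> omega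
  exact xor_lt (xor_lt (h _ _) (h _ _)) (h _ _)

theorem m3_lt (A B : ℕ) : m3 A B < 512 := by
  have h1 := a3_lt A (B % 8)
  have h2 := a3_lt A (B / 8 % 8)
  have h3 := a3_lt A (B / 64 % 8)
  rw [m3]; omega

theorem a3_xor : ∀ A < 512, ∀ v < 8, ∀ w < 8, a3 A (v ^^^ w) = a3 A v ^^^ a3 A w := by decide +kernel

theorem a3_mk : ∀ a < 8, ∀ b < 8, ∀ c < 8, a3 (a + 8 * b + 64 * c) 1 = a ∧ a3 (a + 8 * b + 64 * c) 2 = b ∧
    a3 (a + 8 * b + 64 * c) 4 = c ∧ a3 (a + 8 * b + 64 * c) 0 = 0 := by decide +kernel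

theorem a3_eta : ∀ A < 512, A = a3 A 1 + 8 * a3 A 2 + 64 * a3 A 4 := by decide +kernel

theorem lin3 {f g : ℕ → ℕ} (hf : ∀ v < 8, ∀ w < 8, f (v ^^^ w) = f v ^^^ f w)
    (hg : ∀ v < 8, ∀ w < 8, g (v ^^^ w) = g v ^^^ g w) (h1 : f 1 = g 1) (h2 : f 2 = g 2) (h4 : f 4 = g 4) :
    ∀ v < 8, f v = g v := by
  refine bits_ind' 3 (P := fun v => f v = g v) ?_ (fun i hi => ?_) fun x hx y hy a b => by rw [hf x hx y hy, hg x hx y hy, a, b]
  · have a := hf 0 (by norm_num) 0 (by norm_num)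
    have b := hg 0 (by norm_num) 0 (by norm_num)
    simp only [Nat.xor_self] at a b
    rw [a, b]
  · interval_cases i
    exacts [h1, h2, h4]

theorem a3_m3 {A B v : ℕ} (hA : A < 512) (hB : B < 512) (hv : v < 8) : a3 (m3 A B) v = a3 A (a3 B v) := by
  obtain ⟨h1, h2, h3, -⟩ := a3_mk _ (a3_lt A (B % 8)) _ (a3_lt A (B / 8 % 8)) _ (a3_lt A (B / 64 % 8))
  refine lin3 (g := fun v => a3 A (a3 B v)) (a3_xor _ (m3_lt A B)) (fun v hv w hw => ?_) ?_ ?_ ?_ v hv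
  · rw [a3_xor B hB v hv w hw, a3_xor A hA _ (a3_lt _ _) _ (a3_lt _ _)]
  · exact h1.trans (by simp [a3])
  · exact h2.trans (by simp [a3])
  · exact h3.trans (by simp [a3])

theorem card_i3 : ((Finset.range 512).filter i3).card = 168 := by decide +kernel

theorem cls3 : ∀ A < 512, i3 A → m3 A (m3 (m3 A (m3 A A)) (m3 A (m3 A A))) = 273 ∨
    ∃ B < 512, i3 B ∧ (m3 B 337 = m3 A B ∨ m3 B 98 = m3 A B ∨ m3 B 409 = m3 A B) := by decide +kernel

/-- a transvection with centre in the plane -/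
def tv3 (B : ℕ) : Prop := (∃ C < 512, i3 C ∧ m3 C 337 = m3 B C) ∧ ∀ u < 8, u ^^^ a3 B u < 4

instance (B : ℕ) : Decidable (tv3 B) :=
  inferInstanceAs (Decidable ((∃ C < 512, i3 C ∧ m3 C 337 = m3 B C) ∧ ∀ u < 8, u ^^^ a3 B u < 4))

theorem d8 : ∀ B < 512, i3 B → m3 B 337 = m3 337 B →
    (B = 273 ∨ B = 409 ∨ B = m3 409 409 ∨ B = m3 409 (m3 409 409)) ∨ (tv3 B ∧ tv3 (m3 B 409)) := by
  decide +kernel

variable {G : Type*} [Group G]

/-- coordinates on a group `2^3 . L3(2)` -/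
structure Z3 (J : Subgroup G) (ζ : ℕ → G) : Prop where
  mul : ∀ v < 8, ∀ w < 8, ζ v * ζ w = ζ (v ^^^ w)
  inj : ∀ v < 8, ∀ w < 8, ζ v = ζ w → v = w
  mem : ∀ v < 8, ζ v ∈ J
  norm : ∀ y ∈ J, ∀ v < 8, ∃ w < 8, y * ζ v * y⁻¹ = ζ w
  cent : ∀ y ∈ J, (∀ v < 8, y * ζ v = ζ v * y) → ∃ v < 8, y = ζ v
  card : Nat.card J = 1344

/-- `y` acts by the matrix `A` -/
def Act (J : Subgroup G) (ζ : ℕ → G) (y : G) (A : ℕ) : Prop :=
  y ∈ J ∧ A < 512 ∧ ∀ v < 8, y * ζ v * y⁻¹ = ζ (a3 A v)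

variable {J : Subgroup G} {ζ : ℕ → G}

theorem Act.mul {x y : G} {A B : ℕ} (a : Act J ζ x A) (b : Act J ζ y B) : Act J ζ (x * y) (m3 A B) :=
  ⟨mul_mem a.1 b.1, m3_lt _ _, fun v hv => by
    rw [a3_m3 a.2.1 b.2.1 hv, ← a.2.2 _ (a3_lt _ _), ← b.2.2 v hv]; group⟩

theorem Act.conj {g y : G} {A B C : ℕ} (a : Act J ζ g B) (b : Act J ζ y A) (hC : C < 512) (e : m3 B C = m3 A B) :
    Act J ζ (g⁻¹ * y * g) C :=
  ⟨mul_mem (mul_mem (inv_mem a.1) b.1) a.1, hC, fun v hv => by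
    calc _ = g⁻¹ * (y * (g * ζ v * g⁻¹) * y⁻¹) * g := by group
      _ = _ := by
        rw [a.2.2 v hv, b.2.2 _ (a3_lt _ _), ← a3_m3 b.2.1 a.2.1 hv, ← e, a3_m3 a.2.1 hC hv, ← a.2.2 _ (a3_lt _ _)]
        group⟩

theorem Act.comm {y : G} {A v : ℕ} (a : Act J ζ y A) (hv : v < 8) : y * ζ v = ζ (a3 A v) * y :=
  mul_inv_eq_iff_eq_mul.1 (a.2.2 v hv)

namespace Z3

variable (d : Z3 J ζ)
include d

theorem zero : ζ 0 = 1 := by simpa using d.mul 0 (by norm_num) 0 (by norm_num)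

theorem sq {v : ℕ} (hv : v < 8) : ζ v * ζ v = 1 := by rw [d.mul v hv v hv, Nat.xor_self, d.zero]

theorem act_z {v : ℕ} (hv : v < 8) : Act J ζ (ζ v) 273 :=
  ⟨d.mem v hv, by norm_num, fun w hw => by
    rw [(by decide : ∀ w < 8, a3 273 w = w) w hw, d.mul v hv w hw, Nat.xor_comm, ← d.mul w hw v hv,
      mul_inv_cancel_right]⟩

theorem act_zmul {y : G} {A v : ℕ} (a : Act J ζ y A) (hv : v < 8) : Act J ζ (ζ v * y) A :=
  (by decide +kernel : ∀ A < 512, m3 273 A = A) A a.2.1 ▸ (d.act_z hv).mul a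

theorem exists_act {y : G} (hy : y ∈ J) : ∃ A, i3 A ∧ Act J ζ y A := by
  choose! f hf hf' using d.norm y hy
  obtain ⟨h1, h2, h3, -⟩ := a3_mk _ (hf 1 (by norm_num)) _ (hf 2 (by norm_num)) _ (hf 4 (by norm_num))
  have hl : f 1 + 8 * f 2 + 64 * f 4 < 512 := by
    have := hf 1 (by norm_num)
    have := hf 2 (by norm_num)
    have := hf 4 (by norm_num)
    omega
  have h4 := lin3 (g := f) (a3_xor _ hl) (fun v hv w hw => d.inj _ (hf _ (xor_lt (n := 3) hv hw)) _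
    (xor_lt (n := 3) (hf v hv) (hf w hw)) (by
      rw [← d.mul _ (hf v hv) _ (hf w hw), ← hf' v hv, ← hf' w hw, ← hf' _ (xor_lt (n := 3) hv hw), ← d.mul v hv w hw]
      group)) h1 h2 h3
  refine ⟨_, fun v hv e => d.inj v hv 0 (by norm_num) ?_, hy, hl, fun v hv => by rw [h4 v hv, hf' v hv]⟩
  have := hf' v hv
  rw [← h4 v hv, e, d.zero] at this
  rw [d.zero]
  simpa using this

theorem uniq {y : G} {A B : ℕ} (a : Act J ζ y A) (b : Act J ζ y B) : A = B := by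
  have h : ∀ v < 8, a3 A v = a3 B v := fun v hv =>
    d.inj _ (a3_lt _ _) _ (a3_lt _ _) ((a.2.2 v hv).symm.trans (b.2.2 v hv))
  rw [a3_eta A a.2.1, a3_eta B b.2.1, h 1 (by norm_num), h 2 (by norm_num), h 4 (by norm_num)]

theorem same {x y : G} {A : ℕ} (a : Act J ζ x A) (b : Act J ζ y A) : ∃ v < 8, x = ζ v * y := by
  obtain ⟨v, hv, e⟩ := d.cent (y⁻¹ * x) (mul_mem (inv_mem b.1) a.1) fun v hv => by
    rw [mul_assoc, a.comm hv, ← b.2.2 v hv]; group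
  exact ⟨_, a3_lt A v, by rw [← b.comm hv, ← e, mul_inv_cancel_left]⟩

theorem triv {x : G} (a : Act J ζ x 273) : ∃ v < 8, x = ζ v := by
  simpa [d.zero] using d.same a (d.act_z (v := 0) (by norm_num))

theorem intw {g x y : G} {A B C : ℕ} (a : Act J ζ g B) (b : Act J ζ x A) (c : Act J ζ y C)
    (e : g * x * g⁻¹ = y) : m3 B A = m3 C B :=
  d.uniq (a.mul b) (mul_inv_eq_iff_eq_mul.1 e ▸ c.mul a)

theorem z_conj {y : G} {A u v : ℕ} (a : Act J ζ y A) (hu : u < 8) (hv : v < 8) :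
    ζ u * (ζ v * y) * (ζ u)⁻¹ = ζ (u ^^^ v ^^^ a3 A u) * y := by
  rw [inv_eq_of_mul_eq_one_right (d.sq hu), ← d.mul _ (xor_lt (n := 3) hu hv) _ (a3_lt _ _), ← d.mul u hu v hv,
    mul_assoc, mul_assoc, a.comm hu]
  group

theorem z_sq {y : G} {A v : ℕ} (a : Act J ζ y A) (hv : v < 8) :
    ζ v * y * (ζ v * y) = ζ (v ^^^ a3 A v) * (y * y) := by
  rw [← d.mul v hv _ (a3_lt _ _), mul_assoc, ← mul_assoc y, a.comm hv]
  group

variable [Finite G]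

theorem surj {A : ℕ} (hA : A < 512) (hi : i3 A) : ∃ y, Act J ζ y A := by
  classical
  choose! F hF hF' using fun y (hy : y ∈ J) => d.exists_act hy
  have h1 := Finset.card_le_mul_card_image (f := F) (J : Set G).toFinite.toFinset 8 fun B hB => by
    obtain ⟨y, hy, rfl⟩ := Finset.mem_image.1 hB
    rw [Set.Finite.mem_toFinset] at hy
    refine (Finset.card_le_card fun x hx => ?_).trans
      ((Finset.card_image_le (s := Finset.range 8) (f := fun v => ζ v * y)).trans_eq (Finset.card_range 8))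
    obtain ⟨h1, h2⟩ := Finset.mem_filter.1 hx
    obtain ⟨v, hv, e⟩ := d.same (h2 ▸ hF' x ((Set.Finite.mem_toFinset _).1 h1)) (hF' y hy)
    exact Finset.mem_image.2 ⟨v, Finset.mem_range.2 hv, e.symm⟩
  rw [← Set.ncard_eq_toFinset_card, ← Nat.card_coe_set_eq, SetLike.coe_sort_coe, d.card] at h1
  have h2 : (J : Set G).toFinite.toFinset.image F = (Finset.range 512).filter i3 :=
    Finset.eq_of_subset_of_card_le (fun B hB => by
      obtain ⟨y, hy, rfl⟩ := Finset.mem_image.1 hB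
      rw [Set.Finite.mem_toFinset] at hy
      exact Finset.mem_filter.2 ⟨Finset.mem_range.2 (hF' y hy).2.1, hF y hy⟩) (by rw [card_i3]; omega)
  obtain ⟨y, hy, rfl⟩ := Finset.mem_image.1 (h2.ge (Finset.mem_filter.2 ⟨Finset.mem_range.2 hA, hi⟩))
  exact ⟨y, hF' y ((Set.Finite.mem_toFinset _).1 hy)⟩

theorem cyc {y g : G} {A v : ℕ} (a : Act J ζ y A) (hg : g ∈ J) (hv : v < 8)
    (h1 : ∀ B < 512, i3 B → m3 B A = m3 A B → B = 273 ∨ B = A ∨ B = m3 A A ∨ B = m3 A (m3 A A))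
    (h2 : ∀ u < 8, u ^^^ 0 ^^^ a3 A u ≠ v) : g * y * g⁻¹ ≠ ζ v * y := fun e => by
  obtain ⟨B, hB, b⟩ := d.exists_act hg
  obtain ⟨x, hx, c⟩ : ∃ x, Act J ζ x B ∧ x * y = y * x := by
    rcases h1 B b.2.1 hB (d.intw b a (d.act_zmul a hv) e) with rfl | rfl | rfl | rfl
    · exact ⟨_, d.act_z (v := 0) (by norm_num), by simp [d.zero]⟩
    · exact ⟨_, a, rfl⟩
    · exact ⟨_, a.mul a, by group⟩
    · exact ⟨_, a.mul (a.mul a), by group⟩
  obtain ⟨u, hu, rfl⟩ := d.same b hx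
  refine h2 u hu (d.inj _ (xor_lt (n := 3) (xor_lt (n := 3) hu (by norm_num)) (a3_lt _ _)) _ hv (mul_right_cancel (b := y) ?_))
  rw [← d.z_conj a hu (by norm_num), ← e, d.zero, one_mul, mul_assoc _ x, c]
  group

variable {y : G} (a : Act J ζ y 409)
include a

theorem y4 : y * y * (y * y) = ζ 0 ∨ y * y * (y * y) = ζ 1 := by
  obtain ⟨w, hw, e⟩ := d.triv ((a.mul a).mul (a.mul a))
  have h1 : a3 409 w = w := d.inj _ (a3_lt _ _) _ hw (by rw [← a.2.2 w hw, ← e]; group)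
  rcases (by decide : ∀ w < 8, a3 409 w = w → w = 0 ∨ w = 1) w hw h1 with rfl | rfl
  exacts [Or.inl e, Or.inr e]

theorem sq_inv {r : G} {R : ℕ} (b : Act J ζ r R) (h : ∃ B < 512, i3 B ∧ m3 B 337 = m3 R B) :
    ∃ u < 8, r * r = ζ (u ^^^ a3 R u) := by
  obtain ⟨B, hB, iB, e⟩ := h
  obtain ⟨g, c⟩ := d.surj hB iB
  obtain ⟨v, hv, e1⟩ := d.same (c.conj b (by norm_num) e) (a.mul a)
  obtain ⟨u, hu, e2⟩ : ∃ u < 8, ζ v * (y * y) * (ζ v * (y * y)) = ζ (u ^^^ a3 337 u) := by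
    rw [d.z_sq (a.mul a) hv]
    have hl : v ^^^ a3 (m3 409 409) v < 8 := xor_lt (n := 3) hv (a3_lt _ _)
    rcases d.y4 a with e | e <;> rw [e, d.mul _ hl _ (by norm_num)]
    · obtain ⟨u, hu, e⟩ := (by decide : ∀ v < 8, ∃ u < 8, v ^^^ a3 (m3 409 409) v ^^^ 0 = u ^^^ a3 337 u) v hv
      exact ⟨u, hu, by rw [e]⟩
    · obtain ⟨u, hu, e⟩ := (by decide : ∀ v < 8, ∃ u < 8, v ^^^ a3 (m3 409 409) v ^^^ 1 = u ^^^ a3 337 u) v hv
      exact ⟨u, hu, by rw [e]⟩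
  refine ⟨a3 B u, a3_lt _ _, ?_⟩
  rw [← a3_m3 b.2.1 hB hu, ← e, a3_m3 hB (by norm_num) hu, ← a3_xor B hB u hu _ (a3_lt _ _),
    ← c.2.2 _ (xor_lt (n := 3) hu (a3_lt _ _)), ← e2, ← e1]
  group

theorem not_conj2 {g : G} (hg : g ∈ J) : g * (y * y) * g⁻¹ ≠ ζ 2 * (y * y) := fun e => by
  obtain ⟨B, hB, b⟩ := d.exists_act hg
  have ax : Act J ζ (y * y) 337 := a.mul a
  have fin : ∀ w < 2, g * (y * y) * g⁻¹ ≠ ζ w * (y * y) := fun w hw e' => by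
    have := d.inj 2 (by norm_num) w (by omega) (mul_right_cancel (e.symm.trans e'))
    omega
  rcases d8 B b.2.1 hB (d.intw b ax (d.act_zmul ax (by norm_num)) e) with h | ⟨⟨h1, h3⟩, h2, h4⟩
  · obtain ⟨x, hx, c⟩ : ∃ x, Act J ζ x B ∧ x * (y * y) = y * y * x := by
      rcases h with rfl | rfl | rfl | rfl
      · exact ⟨_, d.act_z (v := 0) (by norm_num), by simp [d.zero]⟩
      · exact ⟨_, a, by group⟩
      · exact ⟨_, a.mul a, by group⟩
      · exact ⟨_, a.mul (a.mul a), by group⟩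
    obtain ⟨u, hu, rfl⟩ := d.same b hx
    refine fin (u ^^^ 0 ^^^ a3 337 u) ((by decide : ∀ u < 8, u ^^^ 0 ^^^ a3 337 u < 2) u hu) ?_
    rw [← d.z_conj ax hu (by norm_num), d.zero, one_mul, mul_assoc _ x, c]
    group
  · obtain ⟨u, hu, e1⟩ := d.sq_inv a b h1
    obtain ⟨v, hv, e2⟩ := d.sq_inv a (b.mul a) h2
    have h5 := h3 u hu
    have h6 := h4 v hv
    generalize u ^^^ a3 B u = p at e1 h5
    generalize v ^^^ a3 (m3 B 409) v = q at e2 h6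
    have ai : Act J ζ y⁻¹ 473 := ⟨inv_mem a.1, by norm_num, fun w hw => by
      rw [← (by decide : ∀ w < 8, a3 409 (a3 473 w) = w) w hw, ← a.2.2 _ (a3_lt _ _),
        (by decide : ∀ w < 8, a3 409 (a3 473 w) = w) w hw]
      group⟩
    have e3 : g * y * g⁻¹ = ζ (q ^^^ a3 473 p) * y⁻¹ := by
      rw [← d.mul q (by omega) _ (a3_lt _ _), mul_assoc (ζ q), ← ai.comm (by omega), ← e2,
        ← inv_eq_of_mul_eq_one_right (d.sq (v := p) (by omega)), ← e1]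
      group
    have hl : q ^^^ a3 473 p < 4 := (by decide : ∀ q < 4, ∀ p < 4, q ^^^ a3 473 p < 4) q h6 p h5
    generalize q ^^^ a3 473 p = w at e3 hl
    have e4 : g * (y * y) * g⁻¹ = ζ (w ^^^ a3 473 w) * (y * y * (y * y))⁻¹ * (y * y) := by
      rw [← conj_mul, e3, d.z_sq ai (by omega)]; group
    have hl' : w ^^^ a3 473 w < 2 := (by decide : ∀ w < 4, w ^^^ a3 473 w < 2) w hl
    rcases d.y4 a with e5 | e5 <;>
      rw [e5, inv_eq_of_mul_eq_one_right (d.sq (by norm_num)), d.mul _ (by omega) _ (by norm_num)] at e4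
    · exact fin _ (xor_lt (n := 1) hl' (by norm_num)) e4
    · exact fin _ (xor_lt (n := 1) hl' (by norm_num)) e4

theorem not_conj4 {g : G} {v : ℕ} (hv : v < 4) : g * (ζ v * (y * y)) * g⁻¹ ≠ ζ 4 * (y * y) := fun e => by
  have ax : Act J ζ (y * y) 337 := a.mul a
  have e1 := congrArg (fun x => x * x) e
  simp only [conj_mul] at e1
  rw [d.z_sq ax (by omega), d.z_sq ax (by norm_num), (by decide : ∀ v < 4, v ^^^ a3 337 v = 0) v hv,
    show 4 ^^^ a3 337 4 = 1 by decide, d.zero, one_mul] at e1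
  have h1 : ζ 1 ≠ 1 := fun e => absurd (d.inj 1 (by norm_num) 0 (by norm_num) (e.trans d.zero.symm)) one_ne_zero
  rcases d.y4 a with e2 | e2 <;> rw [e2] at e1
  · exact h1 (by simpa [d.zero] using e1.symm)
  · exact h1 (by simpa [d.sq] using e1)

omit a in
/-- nine classes -/
theorem nc {N : ℕ} (h24 : 24 ∣ N) (h7 : Nat.Coprime 7 N) : NC J {x | x ∈ J ∧ x ^ N = 1} 9 := by
  obtain ⟨y, a⟩ := d.surj (A := 409) (by norm_num) (by decide)
  obtain ⟨t, b⟩ := d.surj (A := 98) (by norm_num) (by decide)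
  have ax : Act J ζ (y * y) 337 := a.mul a
  have a1 : Act J ζ 1 273 := d.zero ▸ d.act_z (v := 0) (by norm_num)
  have hf : ∀ i, Act J ζ (![1, ζ 1, y * y, ζ 2 * (y * y), ζ 4 * (y * y), t, ζ 1 * t, y, ζ 4 * y] i)
      (![273, 273, 337, 337, 337, 98, 98, 409, 409] i) := fun i => by
    fin_cases i
    exacts [a1, d.act_z (by norm_num), ax, d.act_zmul ax (by norm_num), d.act_zmul ax (by norm_num), b,
      d.act_zmul b (by norm_num), a, d.act_zmul a (by norm_num)]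
  refine NC.of_fun' ![1, ζ 1, y * y, ζ 2 * (y * y), ζ 4 * (y * y), t, ζ 1 * t, y, ζ 4 * y]
    (fun i => ⟨(hf i).1, ?_⟩) (fun x hx => ?_) fun i j hij g hg e => ?_
  · have h1 := hf i
    have h2 := h1.mul (h1.mul h1)
    have h3 := (h2.mul h2).mul (h2.mul h2)
    rw [(by decide : ∀ A ∈ [273, 337, 98, 409],
      m3 (m3 (m3 A (m3 A A)) (m3 A (m3 A A))) (m3 (m3 A (m3 A A)) (m3 A (m3 A A))) = 273) _
      ((by decide : ∀ i : Fin 9, ![273, 273, 337, 337, 337, 98, 98, 409, 409] i ∈ [273, 337, 98, 409]) i)] at h3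
    obtain ⟨v, hv, e⟩ := d.triv h3
    obtain ⟨k, rfl⟩ := h24
    generalize ![1, ζ 1, y * y, ζ 2 * (y * y), ζ 4 * (y * y), t, ζ 1 * t, y, ζ 4 * y] i = x at e
    rw [pow_mul, show x ^ 24 = 1 by
      rw [← d.sq hv, ← e]; simp only [pow_succ, pow_zero, one_mul, mul_assoc], one_pow]
  · obtain ⟨A, iA, c⟩ := d.exists_act hx.1
    have red : ∀ {B C : ℕ} {r : G}, B < 512 → i3 B → Act J ζ r C → m3 B C = m3 A B →
        ∃ g ∈ J, ∃ v < 8, g * (ζ v * r) * g⁻¹ = x := fun hB iB hr e => by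
      obtain ⟨g, hg⟩ := d.surj hB iB
      obtain ⟨v, hv, e1⟩ := d.same (hg.conj c hr.2.1 e) hr
      exact ⟨g, hg.1, v, hv, by rw [← e1]; group⟩
    have fin : ∀ {g r : G} {C u v w : ℕ}, g ∈ J → Act J ζ r C → u < 8 → w < 8 → u ^^^ w ^^^ a3 C u = v →
        g * (ζ v * r) * g⁻¹ = x → ∃ h ∈ J, h * (ζ w * r) * h⁻¹ = x := fun {g r C u v w} hg hr hu hw e e' =>
      ⟨g * ζ u, mul_mem hg (d.mem u hu), by rw [← e', ← e, ← d.z_conj hr hu hw]; group⟩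
    rcases cls3 A c.2.1 iA with h | ⟨B, hB, iB, h | h | h⟩
    · have h2 := c.mul (c.mul c)
      obtain ⟨v, hv, e⟩ := d.triv (h ▸ c.mul (h2.mul h2))
      have h3 : x ^ 2 = 1 := by
        have h4 : (x ^ 2) ^ 7 = 1 := by rw [← d.sq hv, ← e]; simp only [pow_succ, pow_zero, one_mul, mul_assoc]
        exact (pow_eq_one_iff_of_coprime h7).1 ⟨h4, by rw [← pow_mul, mul_comm, pow_mul, hx.2, one_pow]⟩
      have h4 : x = ζ v := by
        rw [← e]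
        calc x = x * (x ^ 2) ^ 3 := by rw [h3]; simp
          _ = _ := by simp only [pow_succ, pow_zero, one_mul, mul_assoc]
      rcases Nat.eq_zero_or_pos v with rfl | h0
      · exact ⟨0, 1, one_mem _, by simp [h4, d.zero]⟩
      · obtain ⟨B, hB, iB, e⟩ := (by decide +kernel : ∀ v < 8, 0 < v → ∃ B < 512, i3 B ∧ a3 B 1 = v) v hv h0
        obtain ⟨g, hg⟩ := d.surj hB iB
        exact ⟨1, g, hg.1, (hg.2.2 1 (by norm_num)).trans (by rw [e, h4])⟩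
    · obtain ⟨g, hg, v, hv, e⟩ := red hB iB ax h
      obtain ⟨u, hu, h | h | h | h⟩ := (by decide : ∀ v < 8, ∃ u < 8, u ^^^ 0 ^^^ a3 337 u = v ∨
        u ^^^ 2 ^^^ a3 337 u = v ∨ u ^^^ 4 ^^^ a3 337 u = v ∨ u ^^^ a3 409 4 ^^^ a3 337 u = v) v hv
      · exact ⟨2, by simpa [d.zero] using fin hg ax hu (by norm_num) h e⟩
      · exact ⟨3, fin hg ax hu (by norm_num) h e⟩
      · exact ⟨4, fin hg ax hu (by norm_num) h e⟩
      · obtain ⟨k, hk, e1⟩ := fin hg ax hu (a3_lt _ _) h e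
        refine ⟨4, k * y, mul_mem hk a.1, ?_⟩
        rw [← e1, ← a.2.2 4 (by norm_num)]
        show k * y * (ζ 4 * (y * y)) * (k * y)⁻¹ = _
        group
    · obtain ⟨g, hg, v, hv, e⟩ := red hB iB b h
      obtain ⟨u, hu, h | h⟩ := (by decide : ∀ v < 8, ∃ u < 8, u ^^^ 0 ^^^ a3 98 u = v ∨ u ^^^ 1 ^^^ a3 98 u = v) v hv
      · exact ⟨5, by simpa [d.zero] using fin hg b hu (by norm_num) h e⟩
      · exact ⟨6, fin hg b hu (by norm_num) h e⟩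
    · obtain ⟨g, hg, v, hv, e⟩ := red hB iB a h
      obtain ⟨u, hu, h | h⟩ := (by decide : ∀ v < 8, ∃ u < 8, u ^^^ 0 ^^^ a3 409 u = v ∨ u ^^^ 4 ^^^ a3 409 u = v) v hv
      · exact ⟨7, by simpa [d.zero] using fin hg a hu (by norm_num) h e⟩
      · exact ⟨8, fin hg a hu (by norm_num) h e⟩
  · obtain ⟨B, iB, c⟩ := d.exists_act hg
    have e1 := d.intw c (hf i) (hf j) e
    have e2 := (by decide +kernel : ∀ A ∈ [273, 337, 98, 409], ∀ C ∈ [273, 337, 98, 409], ∀ B < 512, i3 B →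
      m3 B A = m3 C B → A = C)
      _ ((by decide : ∀ i : Fin 9, ![273, 273, 337, 337, 337, 98, 98, 409, 409] i ∈ [273, 337, 98, 409]) i)
      _ ((by decide : ∀ i : Fin 9, ![273, 273, 337, 337, 337, 98, 98, 409, 409] i ∈ [273, 337, 98, 409]) j)
      B c.2.1 iB e1
    rcases (by decide : ∀ i j : Fin 9, i < j →
      ![273, 273, 337, 337, 337, 98, 98, 409, 409] i = ![273, 273, 337, 337, 337, 98, 98, 409, 409] j →
      (i = 0 ∧ j = 1) ∨ (i = 2 ∧ j = 3) ∨ (i = 2 ∧ j = 4) ∨ (i = 3 ∧ j = 4) ∨ (i = 5 ∧ j = 6) ∨ (i = 7 ∧ j = 8))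
      i j hij e2 with ⟨rfl, rfl⟩ | ⟨rfl, rfl⟩ | ⟨rfl, rfl⟩ | ⟨rfl, rfl⟩ | ⟨rfl, rfl⟩ | ⟨rfl, rfl⟩
    · exact absurd (d.inj 1 (by norm_num) 0 (by norm_num) (by simpa [d.zero] using e.symm)) one_ne_zero
    · exact d.not_conj2 a hg e
    · exact d.not_conj4 a (g := g) (v := 0) (by norm_num) (by rw [d.zero, one_mul]; exact e)
    · exact d.not_conj4 a (v := 2) (by norm_num) e
    · exact d.cyc b hg (by norm_num) (by decide +kernel) (by decide) e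
    · exact d.cyc a hg (by norm_num) (by decide +kernel) (by decide) e

end Z3

theorem NC.direct [Finite G] {a : G} {J : Subgroup G} {N n : ℕ}
    (hJ : IsInternalDirectProduct (zpowers a) J (centralizer {a})) (hc : (orderOf a).Coprime N)
    (h : NC J {y | y ∈ J ∧ y ^ N = 1} n) : NC (centralizer {a}) {y | y ^ N = 1 ∧ y * a = a * y} n := by
  have dec : ∀ y ∈ centralizer ({a} : Set G), ∃ b ∈ zpowers a, ∃ c ∈ J, b * c = y := fun y hy =>
    (Core.mem_sup_of_le_normalizer_left (hJ.2.1.trans (Five.Hc_le_N a))).1 (hJ.2.2.2.2.ge hy)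
  refine h.ctrl hJ.2.1 (fun y hy => ⟨hy.2, mem_centralizer_singleton_iff.1 (hJ.2.1 hy.1)⟩)
    (fun y hy => ⟨y, ⟨?_, hy.1⟩, 1, one_mem _, by simp⟩) fun y hy g hg _ => ?_
  · obtain ⟨b, hb, c, hc', rfl⟩ := dec y (mem_centralizer_singleton_iff.2 hy.2)
    have h1 := hy.1
    rw [Commute.mul_pow (hJ.2.2.1 b hb c hc')] at h1
    have e : b ^ N = 1 := mem_bot.1 (hJ.2.2.2.1.le ⟨pow_mem hb N, by
      rw [eq_inv_of_mul_eq_one_left h1]; exact J.inv_mem (J.pow_mem hc' N)⟩)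
    rwa [(pow_eq_one_iff_of_coprime hc).1 ⟨orderOf_dvd_iff_pow_eq_one.1 (orderOf_dvd_of_mem_zpowers hb), e⟩, one_mul]
  · obtain ⟨b, hb, c, hc', rfl⟩ := dec g hg
    refine ⟨c, hc', ?_⟩
    have := hJ.2.2.1 b hb _ (mul_mem (mul_mem hc' hy.1) (inv_mem hc'))
    calc c * y * c⁻¹ = b * (c * y * c⁻¹) * b⁻¹ := by rw [this]; group
      _ = _ := by group

/-- the nine classes of `{2, 3}`-elements that commute with an element of order 5 -/
theorem nc_five [Finite G] {z : G} (h : HM z) {f x r : G} (d : Five.FD f x r h.Z8) {N : ℕ} (h24 : 24 ∣ N)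
    (h7 : Nat.Coprime 7 N) (h5 : Nat.Coprime 5 N) : NC (centralizer {f}) {y | y ^ N = 1 ∧ y * f = f * y} 9 := by
  obtain ⟨J, hJ, hZ, -⟩ := d.exists_J
  have hl : ∀ v < 8, v % 2 + 8 * (v / 2 % 2) ∈ ({0, 1, 8, 9} : Finset ℕ) := by decide
  have hl' : ∀ v, v % 2 + 8 * (v / 2 % 2) < 64 := fun v => by omega
  let ζ : ℕ → G := fun v => h.s (v % 2 + 8 * (v / 2 % 2)) * z ^ (v / 4)
  have hζ : ∀ v < 8, ζ v ∈ h.Z8 := fun v hv => ⟨_, hl v hv, v / 4, by omega, rfl⟩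
  have hζ' : ∀ e ∈ h.Z8, ∃ v < 8, e = ζ v := by
    rintro _ ⟨w, hw, a, ha, rfl⟩
    obtain ⟨v, hv, rfl, rfl⟩ := (by decide : ∀ w ∈ ({0, 1, 8, 9} : Finset ℕ), ∀ a < 2, ∃ v < 8,
      w = v % 2 + 8 * (v / 2 % 2) ∧ a = v / 4) w hw a ha
    exact ⟨v, hv, rfl⟩
  have cJ : Nat.card J = 1344 := by
    have h1 := Coprime.card_sup_of_le_normalizer (hJ.2.1.trans (Five.Hc_le_N f)) hJ.2.2.2.1
    rw [hJ.2.2.2.2, d.card_C, Nat.card_zpowers, d.ord] at h1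
    omega
  have hd : Z3 J ζ := ⟨fun v hv w hw => ?_, fun v hv w hw e => ?_, fun v hv => hZ (hζ v hv),
    fun y hy v hv => hζ' _ ((mem_normalizer_iff.1 (d.norm (hJ.2.1 hy)) _).1 (hζ v hv)), fun y hy e => ?_, cJ⟩
  · exact (hd.nc h24 h7).direct hJ (d.ord ▸ h5)
  · obtain ⟨e1, e2⟩ := (by decide : ∀ v < 8, ∀ w < 8, (v % 2 + 8 * (v / 2 % 2)) ^^^ (w % 2 + 8 * (w / 2 % 2)) =
      (v ^^^ w) % 2 + 8 * ((v ^^^ w) / 2 % 2) ∧ (0 + v / 4 + w / 4) % 2 = (v ^^^ w) / 4) v hv w hw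
    simp only [ζ]
    rw [h.sz_mul (by omega) (by omega), beta_W0 (hl' v) (hl' w), e1, e2]
  · have := h.s_inj (by omega) (by omega) e
    omega
  · obtain ⟨a, ha, i, e1⟩ := d.cent y (hJ.2.1 hy) fun a ha => by
      obtain ⟨v, hv, rfl⟩ := hζ' a ha
      exact e v hv
    have : f ^ i = 1 := mem_bot.1 (hJ.2.2.2.1.le ⟨npow_mem_zpowers f i, (mul_mem_cancel_left (hZ ha)).1 (e1 ▸ hy)⟩)
    rw [this, mul_one] at e1
    exact hζ' y (e1 ▸ ha)

end CfsgLib.J4T.C62
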