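import Mathlib
import Cfsg.Agent.Lib.J4T.ClsTwoH
import Cfsg.Agent.Lib.J4T.Good

/-! # The ten classes of 2-elements -/

set_option autoImplicit false
set_option linter.unusedSectionVars false

namespace CfsgLib.J4T.C62

open Cfsg CfsgLib.Golay CfsgLib.M24E Subgroup
open scoped Pointwise

/-- the part in `V` of `(c a * κ q) ^ n` -/
noncomputable def nrm (q a n : ℕ) : ℕ := Nat.rec 0 (fun _ S => frc S fun S => Nat.xor a (img (ap q) S)) n

/-- test: the vector is even and the power is the duad `{0, 23}` -/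
noncomputable def isT (q n s : ℕ) : Bool :=
  frc (Nat.mul 4096 s) fun a => and (Nat.beq (Nat.mod (pc a) 2) 0) (isCode (Nat.xor (nrm q a n) 8388609))

/-- the action used in the orbit computation -/
noncomputable def actM (c x : ℕ) : ℕ := Bool.rec (sy (img (ap c) (Nat.mul 4096 x))) (Nat.xor x c) (Nat.blt c 4096)

theorem chkT_16 : (frc (spin actM [1141, 141, 1314, 479, 0x44702d82732a8b7cd096b1c2a9257,
    0x4181244ed116469bd2eb22ab1aa97] 4096 2050) fun W =>
      allLT 4096 fun s => or (tb W s) (not (isT (rE 16) 2 s))) = true := by decide +kernel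

theorem chkT_none : allL [(rE 1, 2), (rE 17, 2), (p4a, 4), (p4b, 4), (q4c, 4), (q4d, 4), (p8a, 8), (q8b, 8)]
    (fun t => frc t.1 fun q => allLT 4096 fun s => not (isT q t.2 s)) = true := by decide +kernel

variable {G : Type*} [Group G] {z : G}

theorem nrm_spec (m : MM z) {q a : ℕ} {g : M24} (hg : Rp (ap q) g) (ha : a < 2 ^ 24) (he : Even (ofMask a).card)
    (n : ℕ) : nrm q a n < 2 ^ 24 ∧ Even (ofMask (nrm q a n)).card ∧
      (m.c (ofMask a) * m.κ g) ^ n = m.c (ofMask (nrm q a n)) * m.κ (g ^ n) := by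
  induction n with
  | zero => exact ⟨by norm_num [nrm], by simp [nrm, ofMask_zero], by simp [nrm, ofMask_zero, m.c_empty]⟩
  | succ n ih =>
    have e : nrm q a (n + 1) = a ^^^ img (ap q) (nrm q a n) :=
      frc_eq (nrm q a n) fun S => Nat.xor a (img (ap q) S)
    rw [e, ofMask_xor, hg.ofMask_img, pow_succ' (m.c _ * _), ih.2.2, m.mk_mul he ih.2.1, pow_succ' g]
    exact ⟨xor_lt ha (hg.img_lt _), ev_sd he (ev_smul _ ih.2.1), rfl⟩

theorem isT_of (m : MM z) {p A b o : ℕ} (c : Cl p A b o) {g : M24} (hg : (g : P24) = pm p) {s n : ℕ}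
    (hs : s < 4096) (he : Even (ofMask (4096 * s)).card)
    (e : (m.c (ofMask (4096 * s)) * m.κ g) ^ 2 ^ (n + 1) = m.c (ofMask 8388609)) :
    isT p (2 ^ (b + 1)) s = true := by
  have hr : Rp (ap p) g := hg ▸ pm_rp (isM_of c.chk)
  have eD := ev_two card_D
  have e1 : pm p ^ 2 ^ (n + 1) = 1 := by
    obtain ⟨-, h1, h2⟩ := nrm_spec m hr (hi_lt hs) he (2 ^ (n + 1))
    rw [e, ← mul_one (m.c (ofMask 8388609)), ← map_one m.κ] at h2
    rw [← hg, ← coe_pow, ← m.mk_inj eD h1 h2, coe_one]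
  have e4 := orderOf_dvd_of_pow_eq_one e1
  rw [c.ord, Nat.pow_dvd_pow_iff_le_right one_lt_two] at e4
  obtain ⟨d, rfl⟩ : ∃ d, n = b + d := ⟨n - b, by omega⟩
  obtain ⟨h0, h1, h2⟩ := nrm_spec m hr (hi_lt hs) he (2 ^ (b + 1))
  rw [show g ^ 2 ^ (b + 1) = 1 from Subtype.ext (by rw [coe_pow, hg, ← c.ord, pow_orderOf_eq_one, coe_one]),
    map_one, mul_one] at h2
  rw [show 2 ^ (b + d + 1) = 2 ^ (b + 1) * 2 ^ d by ring, pow_mul, h2] at e
  rcases d with _ | d
  · rw [pow_zero, pow_one, m.c_eq_iff h1 eD, ← ofMask_xor, ofMask_mem_iff (xor_lt h0 (by norm_num))] at e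
    rw [card_ofMask (hi_lt hs), Nat.even_iff] at he
    rw [isT, frc_eq, Bool.and_eq_true, beq_iff']
    exact ⟨he, e⟩
  · rw [pow_succ' 2 d, pow_mul, pow_two, m.c_sq h1, one_pow] at e
    exact (m.c_ne_one eD (by rw [card_D]; norm_num) (by rw [card_D]; norm_num) e.symm).elim

theorem reduceM (m : MM z) {g : G} (hg : g ∈ normalizer (m.V : Set G)) {p : ℕ} (hc : Cj p (m.ψ g)) {n : ℕ}
    (e : g ^ n = m.c (ofMask 8388609)) : ∃ y : M24, (y : P24) = pm p ∧ ∃ s < 4096, Even (ofMask (4096 * s)).card ∧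
      (m.c (ofMask (4096 * s)) * m.κ y) ^ n = m.c (ofMask 8388609) ∧ IsConj (m.c (ofMask (4096 * s)) * m.κ y) g := by
  obtain ⟨r, hr, -, e1⟩ := hc
  obtain ⟨a, ha, e2⟩ := m.ψ_spec hg
  have e3 := m.conj_κ_mk ha ⟨r⁻¹, DD_le (inv_mem hr)⟩ (m.ψ g)
  obtain ⟨s, hs, h1, h2⟩ := MM.exists_sy (ev_smul r⁻¹ ha)
  rw [← e2, (m.c_eq_iff (ev_smul _ ha) h1).2 h2] at e3
  refine ⟨_, ?_, s, hs, h1, ?_, (isConj_iff.2 ⟨_, e3⟩).symm⟩
  · show r⁻¹ * (m.ψ g : P24) * r⁻¹⁻¹ = _
    rw [← e1]; group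
  · rw [← e3, conj_pow, e, m.conj _ _ (ev_two card_D)]
    exact congrArg m.c (inv_mem hr).2

/-- one class -/
theorem nc_t {m : MM z} (hf : m.Full) :
    NC (⊤ : Subgroup G) {g | g ^ 2 ^ 21 = 1 ∧ ∃ w, IsConj (m.c (ofMask 8388609)) w ∧ PZ w g} 1 := by
  have eD := ev_two card_D
  have t1 := m.c_ne_one eD (by rw [card_D]; norm_num) (by rw [card_D]; norm_num)
  let y : M24 := ⟨pm (rE 16), DD_le (rE_mem (by norm_num))⟩
  have hy : Rp (ap (rE 16)) y := pm_rp (isM_rE (by norm_num))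
  have e0 : Even (ofMask (4096 * 2050)).card := ev_mask (by norm_num) (by decide +kernel)
  have e1 : (m.c (ofMask (4096 * 2050)) * m.κ y) ^ 2 = m.c (ofMask 8388609) := by
    obtain ⟨h0, h1, h2⟩ := nrm_spec m hy (by norm_num) e0 2
    rw [h2, show y ^ 2 = 1 from Subtype.ext ((hy.powId_iff 2).1 (by decide +kernel)), map_one, mul_one,
      m.c_eq_iff h1 eD, ← ofMask_xor, ofMask_mem_iff (xor_lt h0 (by norm_num))]
    decide +kernel
  refine NC.one (r := m.c (ofMask (4096 * 2050)) * m.κ y) ⟨?_, _, IsConj.refl _, 0, e1⟩ ?_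
  · rw [show 2 ^ 21 = 2 * (2 * 2 ^ 19) by norm_num, pow_mul, e1, pow_mul, pow_two, m.c_sq eD, one_pow]
  rintro g ⟨h2, w, hw, n, hn⟩
  obtain ⟨c, rfl⟩ := isConj_iff.1 hw
  have e2 : (c⁻¹ * g * c) ^ 2 ^ (n + 1) = m.c (ofMask 8388609) := by
    have := conj_pow (a := c⁻¹) (b := g) (i := 2 ^ (n + 1))
    rw [inv_inv] at this
    rw [this, hn]; group
  suffices h : IsConj (m.c (ofMask (4096 * 2050)) * m.κ y) (c⁻¹ * g * c) by
    obtain ⟨x, hx⟩ := isConj_iff.1 (h.trans (isConj_iff.2 ⟨c, by group⟩ : IsConj (c⁻¹ * g * c) g))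
    exact ⟨x, mem_top _, hx⟩
  have h3 := conj_pow_one (r := c) h2
  generalize c⁻¹ * g * c = x at e2 h3
  have e3 : x * m.c (ofMask 8388609) = m.c (ofMask 8388609) * x := by rw [← e2, ← pow_succ, ← pow_succ']
  have hx : x ∈ normalizer (m.V : Set G) := hf.cent_duad _ card_D (mem_centralizer_singleton_iff.2 e3)
  have hD : (m.ψ x : P24) ∈ DD := mem_DD'.2 ⟨(m.ψ x).2, (m.comm_duad_iff hx card_D).1 e3⟩
  have h4 : (m.ψ x : P24) ^ 2 ^ 21 = 1 := by
    have := map_pow m.ψh ⟨x, hx⟩ (2 ^ 21)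
    rw [show (⟨x, hx⟩ : normalizer (m.V : Set G)) ^ 2 ^ 21 = 1 from Subtype.ext h3, map_one] at this
    exact this.symm
  have none : ∀ {p A b o : ℕ}, Cl p A b o → (p, 2 ^ (b + 1)) ∈ [(rE 1, 2), (rE 17, 2), (p4a, 4), (p4b, 4), (q4c, 4),
      (q4d, 4), (p8a, 8), (q8b, 8)] → ¬ Cj p (m.ψ x) := fun c hp hc => by
    obtain ⟨y', h5, s, hs, h6, h7, -⟩ := reduceM m hx hc e2
    have h8 := (allL_iff _ _).1 chkT_none _ hp
    rw [frc_eq] at h8
    have h9 := of_allLT h8 hs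
    rw [isT_of m c h5 hs h6 h7] at h9
    cases h9
  rcases dd_two hD h4 with e | e | e | e | e | e | e | e | e | e
  · rw [pow_succ', pow_mul, pow_two, m.V_sq ((m.ψ_eq_one_iff hx).1 (Subtype.ext e)), one_pow] at e2
    exact (t1 e2.symm).elim
  · exact (none cl_1 (by simp) e).elim
  · obtain ⟨y', h5, s, hs, h6, h7, h8⟩ := reduceM m hx e e2
    obtain rfl : y' = y := Subtype.ext h5
    have h9 := chkT_16
    rw [frc_eq] at h9
    have h10 := of_allLT h9 hs
    rw [show isT (rE 16) 2 s = true from isT_of m cl_16 h5 hs h6 h7, Bool.not_true, Bool.or_false] at h10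
    refine IsConj.trans ?_ h8
    refine (spin_spec (R := fun s => s < 4096 ∧ Even (ofMask (4096 * s)).card ∧
      IsConj (m.c (ofMask (4096 * 2050)) * m.κ y) (m.c (ofMask (4096 * s)) * m.κ y)) (fun q hq s hs => ?_)
      ⟨by norm_num, e0, IsConj.refl _⟩ _ h10).2.2
    obtain ⟨a1, a2, a3⟩ := hs
    have tr : ∀ b d, d < 4096 → b < 2 ^ 24 → pc b % 2 = 0 → pc (4096 * d) % 2 = 0 →
        isCode (Nat.xor (4096 * d) (Nat.xor b (img (ap (rE 16)) b))) = true → s ^^^ d < 4096 ∧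
        Even (ofMask (4096 * (s ^^^ d))).card ∧
        IsConj (m.c (ofMask (4096 * 2050)) * m.κ y) (m.c (ofMask (4096 * (s ^^^ d))) * m.κ y) := by
      intro b d hd hb b1 d1 hc
      have d2 : Even (ofMask (4096 * (s ^^^ d))).card := by rw [hi_xor]; exact ev_sd a2 (ev_mask (hi_lt hd) d1)
      refine ⟨xor_lt' a1 hd, d2, a3.trans (m.cj_of_inComm d2 a2 ⟨ofMask b, ev_mask hb b1, ?_⟩).isConj⟩
      rw [hi_xor, symmDiff_comm (ofMask (4096 * s)), symmDiff_assoc (ofMask (4096 * d)), sd_self, sd_empty,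
        ← hy.ofMask_img, ← ofMask_xor, ← ofMask_xor]
      exact mem_of_isCode hc
    have mt : ∀ q, isM q = true → intw (ap q) (ap (rE 16)) (ap (rE 16)) = true →
        sy (img (ap q) (4096 * s)) < 4096 ∧ Even (ofMask (4096 * sy (img (ap q) (4096 * s)))).card ∧
        IsConj (m.c (ofMask (4096 * 2050)) * m.κ y) (m.c (ofMask (4096 * sy (img (ap q) (4096 * s)))) * m.κ y) := by
      intro q q1 q2
      have q3 := pm_rp q1
      have q4 := (m.cj_conj a2 ⟨pm q, pm_mem q1⟩ y).isConj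
      have q5 : (⟨pm q, pm_mem q1⟩ : M24) * y * (⟨pm q, pm_mem q1⟩ : M24)⁻¹ = y :=
        mul_inv_eq_iff_eq_mul.2 (Subtype.ext ((q3.intw_iff hy hy).1 q2))
      have q6 := m.c_sy (q3.img_lt (4096 * s)) (by rw [q3.ofMask_img]; exact ev_smul _ a2)
      rw [q5, ← q3.ofMask_img, q6.2] at q4
      exact ⟨sy_lt (q3.img_lt _), q6.1, a3.trans q4⟩
    simp only [List.mem_cons, List.not_mem_nil, or_false] at hq
    rcases hq with rfl | rfl | rfl | rfl | rfl | rfl
    · exact tr 3 1141 (by norm_num) (by norm_num) (by decide +kernel) (by decide +kernel) (by decide +kernel)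
    · exact tr 5 141 (by norm_num) (by norm_num) (by decide +kernel) (by decide +kernel) (by decide +kernel)
    · exact tr 9 1314 (by norm_num) (by norm_num) (by decide +kernel) (by decide +kernel) (by decide +kernel)
    · exact tr 33 479 (by norm_num) (by norm_num) (by decide +kernel) (by decide +kernel) (by decide +kernel)
    · exact mt _ (by decide +kernel) (by decide +kernel)
    · exact mt _ (by decide +kernel) (by decide +kernel)
  · exact (none cl_17 (by simp) e).elim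
  · exact (none cl_4a (by simp) e).elim
  · exact (none cl_4b (by simp) e).elim
  · exact (none cl_4c (by simp) e).elim
  · exact (none cl_4d (by simp) e).elim
  · exact (none cl_8a (by simp) e).elim
  · exact (none cl_8b (by simp) e).elim

/-- ten classes of 2-elements -/
theorem nc_two {j : JM z} (hj : j.Good) : NC (⊤ : Subgroup G) {g | g ^ 2 ^ 21 = 1} 10 := by
  have eD := ev_two card_D
  have t1 := j.toMM.c_ne_one eD (by rw [card_D]; norm_num) (by rw [card_D]; norm_num)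
  have t2 := j.toMM.c_sq eD
  have hn := hj.full.nconj _ card_D
  have two : ∀ x : G, x ≠ 1 → x * x = 1 → IsConj z x ∨ IsConj (j.c (ofMask 8388609)) x := fun x h1 h2 =>
    (hj.full.two x h1 h2).imp id fun h => (j.toMM.isConj_duad card_D card_3).trans h
  have cne : ∀ {a w : G}, a ≠ 1 → a * a = 1 → IsConj a w → w ≠ 1 ∧ w * w = 1 := fun h1 h2 hw => by
    obtain ⟨c, rfl⟩ := isConj_iff.1 hw
    exact ⟨by simpa using h1, by rw [conj_mul, h2]; simp⟩
  have n1 : NC (⊤ : Subgroup G) {g | g = 1} 1 := NC.one rfl fun x hx => ⟨1, mem_top _, by simp [hx.symm]⟩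
  have n2 : NC (⊤ : Subgroup G) {g | g ≠ 1 ∧ g * g = 1} 2 :=
    NC.two ⟨j.z_ne, j.zz⟩ ⟨t1, t2⟩ (fun x hx => by simpa [isConj_iff] using two x hx.1 hx.2)
      fun g _ e => hn (isConj_iff.2 ⟨g, e⟩)
  have big : ∀ {a g : G}, a ≠ 1 → a * a = 1 → (∃ w, IsConj a w ∧ PZ w g) → g * g ≠ 1 := by
    rintro a g h1 h2 ⟨w, hw, n, hn⟩ e
    rw [pow_succ', pow_mul, pow_two, e, one_pow] at hn
    exact (cne h1 h2 hw).1 hn.symm
  refine ((n1.union n2 ?_).union ((nc_z j.toHM2).union (nc_t hj.full) ?_) ?_).congr fun g => ?_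
  · rintro _ rfl g - h
    exact h.1 (by simp)
  · rintro x ⟨-, w, hw, n, h1⟩ g - ⟨-, w', hw', n', h2⟩
    have h3 : g * w * g⁻¹ = w' := pow_inj (by rw [← h1, ← conj_pow]) h2 (by simpa using (cne j.z_ne j.zz hw).1)
      (cne t1 t2 hw').1 (by rw [conj_mul, (cne j.z_ne j.zz hw).2]; simp) (cne t1 t2 hw').2
    exact hn ((hw.trans (isConj_iff.2 ⟨g, h3⟩)).trans hw'.symm)
  · intro x hx g _ h
    have h1 : g * x * g⁻¹ * (g * x * g⁻¹) = 1 := by
      rw [conj_mul, show x * x = 1 from hx.elim (fun e => by rw [e, mul_one]) fun e => e.2]; simp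
    exact h.elim (fun h => big j.z_ne j.zz h.2 h1) fun h => big t1 t2 h.2 h1
  · constructor
    · rintro ((h | h) | h | h)
      · exact h ▸ one_pow _
      · show g ^ 2 ^ 21 = 1
        rw [pow_succ', pow_mul, pow_two, h.2, one_pow]
      · exact h.1
      · exact h.1
    · intro h
      by_cases h1 : g = 1
      · exact Or.inl (Or.inl h1)
      obtain ⟨a, h2, h3⟩ := exists_invol h h1
      rcases a with _ | a
      · exact Or.inl (Or.inr ⟨h1, by simpa using h3⟩)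
      · exact Or.inr ((two _ h2 h3).imp (fun e => ⟨h, _, e, a, rfl⟩) fun e => ⟨h, _, e, a, rfl⟩)

end CfsgLib.J4T.C62
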