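import Mathlib
import Cfsg.Agent.Lib.J4T.FiveA
import Cfsg.Agent.Lib.J4T.DD

/-!
# Groups of Janko-four type: computations in `M24` for the prime 7 and the group `2^(3+12)`
-/

set_option autoImplicit false

namespace CfsgLib.J4T.S7

open Cfsg CfsgLib.Golay CfsgLib.M24E Subgroup
open scoped Pointwise

/-! ### the five octads through `0, 2, 4, 23` -/

/-- the five octads through the points `0, 2, 4, 23` -/
def oc (i : ℕ) : ℕ := fld 0xa0031d88d015960095c12017800c75 i

/-- an element interchanging the first two octads -/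
def pT : ℕ := 0xb9534648eb7b953836a8886c2190c0
/-- its matrix -/
def aT : ℕ := 0xca0519b0a50498a85383341400811d0a6001
/-- an element of order 7 of `M22` -/
def p7 : ℕ := 0xbd4f0a3d480ad33636ce8c8a331040
/-- its matrix -/
def a7 : ℕ := 0x2301c6489046ff64082180044bf043024438

theorem chkL_pT : chkL pT aT = true := by decide +kernel
theorem chkL_p7 : chkL p7 a7 = true := by decide +kernel
theorem isM_p5 : isM p5 = true := by decide +kernel
theorem isM_pT : isM pT = true := by decide +kernel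
theorem isM_p7 : isM p7 = true := by decide +kernel

theorem oc_lt (i : ℕ) : oc i < 2 ^ 24 := fld_lt _ _

theorem oc_zero : oc 0 = o0 := by decide +kernel

theorem oc_inj {i k : ℕ} (hi : i < 5) (hk : k < 5) (h : ofMask (oc i) = ofMask (oc k)) : i = k := by
  exact (by decide +kernel : ∀ i < 5, ∀ k < 5, oc i = oc k → i = k) i hi k hk
    (ofMask_injOn (oc_lt i) (oc_lt k) h)

theorem p5_pow {i : ℕ} (hi : i < 5) : pm p5 ^ i • ofMask o0 = ofMask (oc i) := by
  rw [((pm_rp isM_p5).pow i).smul_eq_iff _ (oc_lt i)]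
  revert i
  decide +kernel

theorem pT_oc {i : ℕ} (hi : i < 5) :
    pm pT • ofMask (oc i) = ofMask (oc (if i = 0 then 1 else if i = 1 then 0 else i)) := by
  rw [(pm_rp isM_pT).smul_eq_iff _ (oc_lt _)]
  revert i
  decide +kernel

theorem rE_oc {x i : ℕ} (hx : x < 16) (hi : i < 5) : pm (rE x) • ofMask (oc i) = ofMask (oc i) := by
  rw [(pm_rp (isM_rE (by omega))).smul_eq_iff _ (oc_lt _)]
  exact Nat.eq_of_beq_eq_true (of_allLT (of_allLT (n := 16)
    (f := fun x => allLT 5 fun i => Nat.beq (img (ap (rE x)) (oc i)) (oc i)) (by decide +kernel) hx) hi)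

theorem oct_thru {o : Finset GolayPt} (ho : o ∈ octads) (h : ofMask 8388629 ⊆ o) :
    ∃ i < 5, o = ofMask (oc i) := by
  refine forall_code (P := fun o => o.card = 8 → ofMask 8388629 ⊆ o → ∃ i < 5, o = ofMask (oc i))
    (fun m => or (not (Nat.beq (pc m) 8)) (or (not (Nat.beq (Nat.land 8388629 m) 8388629))
      (anyL [0, 1, 2, 3, 4] fun i => Nat.beq m (oc i)))) ?_ (by decide +kernel) ho.1 ho.2 h
  intro m hm h h8 hs
  have hlt := lt_of_isCode hm
  rw [card_ofMask hlt] at h8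
  have h1 : Nat.land 8388629 m = 8388629 := by
    refine ofMask_injOn (lt_of_le_of_lt Nat.and_le_left (by norm_num)) (by norm_num) ?_
    exact (ofMask_land _ _).trans (Finset.inter_eq_left.2 hs)
  rw [h8, h1] at h
  simp only [Nat.beq_refl, Bool.not_true, Bool.false_or, anyL_iff, beq_iff'] at h
  obtain ⟨i, hi, rfl⟩ := h
  exact ⟨i, by simp only [List.mem_cons, List.not_mem_nil, or_false] at hi; omega, rfl⟩

theorem fix_five {g : P24} (hg : g ∈ M24) (h0 : g (pt 0) = pt 0) (h23 : g (pt 23) = pt 23)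
    (h : ∀ i < 5, g • ofMask (oc i) = ofMask (oc i)) : ∃ x < 16, Rp (ap (rE x)) g := by
  have hB : chkB 0x620ca810f2aa56e9c5af1d2c128ae0 0x95e65c153431376d1d68d47238880 = true := by
    decide +kernel
  have hc := chkB_lt hB
  refine all_of_search (P := fun g => g (pt 0) = pt 0 ∧ g (pt 23) = pt 23 ∧
      ∀ i < 5, g • ofMask (oc i) = ofMask (oc i)) (Q := fun g => ∃ x < 16, Rp (ap (rE x)) g) hB
    ((sound_okPt hc (by norm_num) (by norm_num) fun _ _ h => h.1).and
      ((sound_okPt hc (by norm_num) (by norm_num) fun _ _ h => h.2.1).and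
      ((sound_okS hc fun _ _ h => h.2.2 0 (by norm_num)).and
        (sound_okS hc fun _ _ h => h.2.2 1 (by norm_num)))))
    (good := fun φ => or (not (allLT 5 fun i => setTo φ (oc i) (oc i)))
      (not (allLT 16 fun x => not (eqF φ (ap (rE x)))))) ?_ (by decide +kernel) g hg ⟨h0, h23, h⟩
  intro g _ hP φ hφ h
  rw [(allLT_iff _ _).2 fun i hi => (hφ.setFix_iff _).2 (hP.2.2 i hi), Bool.not_true, Bool.false_or,
    Bool.not_eq_true', ← Bool.not_eq_true, allLT_iff] at h
  push Not at h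
  obtain ⟨x, hx, h⟩ := h
  have hr := pm_rp (isM_rE (x := x) (by omega))
  rw [Ne, Bool.not_eq_true', Bool.not_eq_false, hφ.eqF_iff hr] at h
  exact ⟨x, hx, h ▸ hr⟩

/-- the vectors of duads lying in the plane of `o0` -/
theorem dv_o0 {x y v : ℕ} (hx : x < 23) (hy : y < 23) (hx0 : 0 < x) (hy0 : 0 < y) (hxy : x ≠ y)
    (hv : v < 64) (h : sp v (dv x y) = true) : pt x ∈ ofMask o0 ∧ pt y ∈ ofMask o0 := by
  have h1 := of_allLT (of_allLT (n := 23) (f := fun x => allLT 23 fun y => frc (dv x y) fun d =>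
    or (or (Nat.beq x 0) (or (Nat.beq y 0) (Nat.beq x y))) (or (and (tb o0 x) (tb o0 y))
      (and (Nat.ble 64 d) (and (Nat.ble 64 (rho d)) (Nat.ble 64 (rho (rho d)))))))
    (by decide +kernel) hx) hy
  simp only [frc_eq, Bool.or_eq_true, Bool.and_eq_true, beq_iff', Nat.ble_eq] at h1
  rw [tb_pt (by omega), tb_pt (by omega)] at h1
  rw [sp_iff] at h
  rcases h1 with h1 | h1 | h1
  · omega
  · exact h1
  · omega

/-! ### elements of order 7 -/

theorem card_cent_p7 :
    Nat.card {g : P24 // g ∈ M24 ∧ (g * pm p7 = pm p7 * g ∧ g • ofMask 8388609 = ofMask 8388609)} = 14 := by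
  have hB : chkB 0x4d4e05b22d2d14fb4a68bba0619041 0x3aece4aa2561a129b6e8a91e218414 = true := by
    decide +kernel
  have hr := pm_rp isM_p7
  rw [card_of_search hB (sound_okI (chkB_lt hB) hr hr fun _ _ h => h.1)
    (t := fun φ => and (intw φ (ap p7) (ap p7)) (setTo φ 8388609 8388609))
    (fun g _ φ hφ => by rw [Bool.and_eq_true, hφ.intw_iff hr hr, hφ.setFix_iff])]
  decide +kernel

theorem card_cent_q7 {d : ℕ} (hd : d ∈ [1280, 1048832, 1049600]) :
    Nat.card {g : P24 // g ∈ M24 ∧ (g * pm q7a = pm q7a * g ∧ g • ofMask d = ofMask d)} = 14 := by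
  have hr := pm_rp isM_q7a
  rw [card_of_search chkB_id (sound_okI (chkB_lt chkB_id) hr hr fun _ _ h => h.1)
    (t := fun φ => and (intw φ (ap q7a) (ap q7a)) (setTo φ d d))
    (fun g _ φ hφ => by rw [Bool.and_eq_true, hφ.intw_iff hr hr, hφ.setFix_iff])]
  revert d
  decide +kernel

theorem duad_q7 {d : Finset GolayPt} (hd : d.card = 2) (h : pm q7a • d = d) :
    ∃ m ∈ [1280, 1048832, 1049600], d = ofMask m := by
  obtain ⟨p, q, hpq, rfl⟩ := Finset.card_eq_two.1 hd
  have hr := pm_rp isM_q7a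
  have e : ({p, q} : Finset GolayPt) = ofMask (2 ^ ix p ||| 2 ^ ix q) := by
    rw [ofMask_lor, ofMask_two_pow, ofMask_two_pow]; rfl
  rw [e, ← hr.setFix_iff] at h
  have h1 := of_allLT (of_allLT (n := 24) (f := fun x => allLT 24 fun y =>
    frc (Nat.lor (Nat.pow 2 x) (Nat.pow 2 y)) fun m => or (Nat.beq x y)
      (or (not (setTo (ap q7a) m m)) (memL [1280, 1048832, 1049600] m)))
    (by decide +kernel) (ix_lt p)) (ix_lt q)
  rw [frc_eq] at h1
  have h2 : Nat.lor (Nat.pow 2 (ix p)) (Nat.pow 2 (ix q)) = 2 ^ ix p ||| 2 ^ ix q := rfl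
  rw [h2, h] at h1
  simp only [Bool.or_eq_true, beq_iff', Bool.not_true, Bool.false_eq_true, false_or, memL_iff] at h1
  exact ⟨_, h1.resolve_left fun h => hpq (ix_injective h), e⟩

theorem code_iff {φ : ℕ → ℕ} {g : P24} (hg : Rp φ g) (m : ℕ) {m' : ℕ} (hm : m' < 2 ^ 24) :
    symmDiff (g • ofMask m) (ofMask m') ∈ codeSets ↔ isCode (Nat.xor (img φ m) m') = true := by
  rw [← hg.ofMask_img, ← ofMask_xor, ofMask_mem_iff (xor_lt (hg.img_lt m) hm)]
  rfl

theorem fix_q7 {s : ℕ} (hs : s < 4096) (he : Even (ofMask (4096 * s)).card)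
    (h : symmDiff (pm q7a • ofMask (4096 * s)) (ofMask (4096 * s)) ∈ codeSets) :
    s ∈ [0, 730, 2247, 2589] := by
  rw [code_iff (pm_rp isM_q7a) _ (hi_lt hs)] at h
  rw [card_ofMask (hi_lt hs), Nat.even_iff] at he
  have h1 := of_allLT (n := 4096) (f := fun s => frc (Nat.mul 4096 s) fun m =>
    or (Nat.beq (Nat.mod (pc m) 2) 1) (or (not (isCode (Nat.xor (img (ap q7a) m) m)))
      (memL [0, 730, 2247, 2589] s))) (by decide +kernel) hs
  rw [frc_eq] at h1
  have h2 : Nat.mul 4096 s = 4096 * s := rfl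
  have h3 : Nat.mod (pc (4096 * s)) 2 = 0 := he
  rw [h2, h, h3] at h1
  simpa only [Bool.or_eq_true, beq_iff', Bool.not_true, Bool.false_eq_true, false_or, memL_iff,
    zero_ne_one] using h1

theorem not_real_q7 {r : P24} (hr : r ∈ M24) : r * pm q7a ≠ (pm q7a)⁻¹ * r := by
  have h1 := pm_rp isM_q7a
  have h2 : Rp (ap 0x33a34bd9b25966782aa8225e31040c) (pm q7a)⁻¹ :=
    (chkB_spec (v := q7a) (by decide +kernel)).2.2
  intro h
  refine all_of_search (P := fun g => g * pm q7a = (pm q7a)⁻¹ * g) (Q := fun _ => False) chkB_id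
    (sound_okI (chkB_lt chkB_id) h1 h2 fun _ _ h => h)
    (good := fun φ => not (intw φ (ap q7a) (ap 0x33a34bd9b25966782aa8225e31040c))) ?_
    (by decide +kernel) r hr h
  intro g _ hP φ hφ h
  rw [(hφ.intw_iff h1 h2).2 hP] at h
  exact absurd h (by decide)

/-- elements of order 7 of `M24` are not real -/
theorem not_real_seven {g r : P24} (hg : g ∈ M24) (h7 : g ^ 7 = 1) (h1 : g ≠ 1) (hr : r ∈ M24) :
    r * g * r⁻¹ ≠ g⁻¹ := by
  intro h
  have hq : pm q7a ^ 7 = 1 := orderOf_q7a ▸ pow_orderOf_eq_one _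
  rcases class_seven hg h7 h1 with ⟨k, hk, rfl⟩ | ⟨k, hk, rfl⟩
  · refine not_real_q7 (conj_mem hk hr) ?_
    calc k⁻¹ * r * k * pm q7a = k⁻¹ * (r * (k * pm q7a * k⁻¹) * r⁻¹) * r * k := by group
      _ = _ := by rw [h]; group
  · refine not_real_q7 (conj_mem hk hr) ?_
    have h2 : (k⁻¹ * r * k) * pm q7a ^ 3 * (k⁻¹ * r * k)⁻¹ = (pm q7a ^ 3)⁻¹ := by
      calc _ = k⁻¹ * (r * (k * pm q7a ^ 3 * k⁻¹) * r⁻¹) * k := by group
        _ = _ := by rw [h]; group
    have h3 : (pm q7a ^ 3) ^ 5 = pm q7a := by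
      rw [← pow_mul, show 3 * 5 = 7 * 2 + 1 from rfl, pow_succ, pow_mul, hq, one_pow, one_mul]
    have h4 := congrArg (· ^ 5) h2
    simp only [conj_pow, inv_pow, h3] at h4
    exact mul_inv_eq_iff_eq_mul.1 h4

/-! ### the group `Z = 2^3` in the cocode and a subgroup `L3(2)` of its normaliser -/

/-- sets representing generators of `Z` -/
def zG : List ℕ := [15, 4196355, 2569]
/-- sets representing the elements of `Z` -/
def zM : List ℕ := [0, 15, 4196355, 4196364, 2569, 2566, 2117, 2122]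

/-- `g` normalises `Z` -/
def NZ (g : P24) : Prop := ∀ m ∈ zG, ∃ m' ∈ zM, symmDiff (g • ofMask m) (ofMask m') ∈ codeSets

/-- test for `NZ` -/
noncomputable def nZ (φ : ℕ → ℕ) : Bool :=
  allL zG fun m => frc (img φ m) fun k => anyL zM fun m' => isCode (Nat.xor k m')

theorem nZ_iff {φ : ℕ → ℕ} {g : P24} (hg : Rp φ g) : nZ φ = true ↔ NZ g := by
  have h : ∀ m ∈ zM, m < 2 ^ 24 := by decide
  simp only [nZ, NZ, allL_iff, frc_eq, anyL_iff]
  exact forall₂_congr fun m _ => exists_congr fun m' => and_congr_right fun h' =>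
    (code_iff hg m (h m' h')).symm

/-- an element of order 3 without fixed points centralising `Z` -/
def q3 : ℕ := 0x43803b05eb4cc522b626a5e153a984
/-- an element of order 7 normalising `Z` -/
def g7 : ℕ := 0x3aeaf835889166a3383488ee44d840
/-- an element of order 3 normalising `g7` -/
def n3 : ℕ := 0x51ab0448efa5e6c4b86d28a245d820

theorem isM_q3 : isM q3 = true := by decide +kernel
theorem isM_g7 : isM g7 = true := by decide +kernel
theorem isM_n3 : isM n3 = true := by decide +kernel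

/-- a subgroup `L3(2)` of the normaliser of `Z` -/
def KL : Subgroup M24 :=
  centralizer {(⟨pm q3, pm_mem isM_q3⟩ : M24)} ⊓ MulAction.stabilizer M24 (ofMask 4196943)

theorem mem_KL {g : M24} :
    g ∈ KL ↔ (g : P24) * pm q3 = pm q3 * g ∧ (g : P24) • ofMask 4196943 = ofMask 4196943 := by
  rw [KL, mem_inf, mem_centralizer_singleton_iff, mem_stab_M24, Subtype.ext_iff]
  rfl

theorem chkB_KL : chkB 0x119ca3de36a3e481ce096956c0d480 0x9404f53629754e42d10c9d8c15dc60 = true := by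
  decide +kernel

theorem card_KL : Nat.card KL = 168 := by
  have hr := pm_rp isM_q3
  have hc := chkB_lt chkB_KL
  rw [card_subgroup_eq KL (P := fun g => g * pm q3 = pm q3 * g ∧ g • ofMask 4196943 = ofMask 4196943)
    fun _ => mem_KL, card_of_search chkB_KL
    ((sound_okI hc hr hr fun _ _ h => h.1).and (sound_okS hc fun _ _ h => h.2))
    (t := fun φ => and (intw φ (ap q3) (ap q3)) (setTo φ 4196943 4196943))
    (fun g _ φ hφ => by rw [Bool.and_eq_true, hφ.intw_iff hr hr, hφ.setFix_iff])]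
  decide +kernel

theorem KL_spec {g : M24} (hg : g ∈ KL) : NZ g ∧
    ((∀ m ∈ zG, symmDiff ((g : P24) • ofMask m) (ofMask m) ∈ codeSets) → g = 1) := by
  have hr := pm_rp isM_q3
  have hc := chkB_lt chkB_KL
  have h := all_of_search (P := fun g => g * pm q3 = pm q3 * g ∧ g • ofMask 4196943 = ofMask 4196943)
    (Q := fun g => NZ g ∧ ((∀ m ∈ zG, symmDiff (g • ofMask m) (ofMask m) ∈ codeSets) → g = 1)) chkB_KL
    ((sound_okI hc hr hr fun _ _ h => h.1).and (sound_okS hc fun _ _ h => h.2))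
    (good := fun φ => or (not (intw φ (ap q3) (ap q3))) (and (nZ φ)
      (or (not (allL zG fun m => isCode (Nat.xor (img φ m) m))) (isId φ)))) ?_ (by decide +kernel)
    g g.2 (mem_KL.1 hg)
  · exact ⟨h.1, fun h1 => Subtype.ext (h.2 h1)⟩
  · intro g _ hP φ hφ h
    rw [(hφ.intw_iff hr hr).2 hP.1, Bool.not_true, Bool.false_or, Bool.and_eq_true, nZ_iff hφ] at h
    refine ⟨h.1, fun h1 => ?_⟩
    have h2 : ∀ m ∈ zG, m < 2 ^ 24 := by decide
    have h3 := h.2
    rwa [(allL_iff _ _).2 fun m hm => (code_iff hφ m (h2 m hm)).1 (h1 m hm), Bool.not_true,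
      Bool.false_or, hφ.isId_iff] at h3

/-- `g7` as an element of `M24` -/
noncomputable def G7 : M24 := ⟨pm g7, pm_mem isM_g7⟩
/-- `n3` as an element of `M24` -/
noncomputable def N3 : M24 := ⟨pm n3, pm_mem isM_n3⟩

theorem G7_mem : G7 ∈ KL := mem_KL.2
  ⟨((pm_rp isM_g7).intw_iff (pm_rp isM_q3) (pm_rp isM_q3)).1 (by decide +kernel),
    ((pm_rp isM_g7).setFix_iff _).1 (by decide +kernel)⟩

theorem N3_mem : N3 ∈ KL := mem_KL.2
  ⟨((pm_rp isM_n3).intw_iff (pm_rp isM_q3) (pm_rp isM_q3)).1 (by decide +kernel),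
    ((pm_rp isM_n3).setFix_iff _).1 (by decide +kernel)⟩

theorem orderOf_G7 : orderOf G7 = 7 := by
  rw [← Subgroup.orderOf_coe]
  exact orderOf_pm (by norm_num) isM_g7 (by decide +kernel) (by decide +kernel)

theorem N3_G7 : N3 * G7 * N3⁻¹ = G7 ^ 2 := by
  rw [mul_inv_eq_iff_eq_mul]
  exact Subtype.ext (((pm_rp isM_n3).intw_iff (pm_rp isM_g7) ((pm_rp isM_g7).pow 2)).1
    (by decide +kernel))

theorem G7_fix {m : ℕ} (hm : m ∈ [17, 2097153]) : (G7 : P24) • ofMask m = ofMask m := by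
  refine ((pm_rp isM_g7).setFix_iff _).1 ?_
  revert m
  decide +kernel

/-- no involution fixing the fixed points of `g7` normalises `Z` -/
theorem eq_one_of_fix_three {g : P24} (hg : g ∈ M24) (h2 : g ^ 2 = 1)
    (hf : ∀ p ∈ ofMask 2097169, g p = p) (hn : NZ g) : g = 1 := by
  have hB : chkB 0x9328929d4685ecf9c5a35a1c20d480 0x734555dd4f615363c6869426141060 = true := by
    decide +kernel
  refine all_of_search (P := fun g => (∀ p ∈ ofMask 2097169, g p = p) ∧ g ^ 2 = 1 ∧ NZ g)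
    (Q := fun g => g = 1) hB (sound_okFix (chkB_lt hB) fun _ _ h => h.1)
    (good := fun φ => Bool.rec true (Bool.rec true (isId φ) (nZ φ)) (powId φ 2)) ?_
    (by decide +kernel) g hg ⟨hf, h2, hn⟩
  intro g _ hP φ hφ h
  rw [(hφ.powId_iff 2).2 hP.2.1, (nZ_iff hφ).2 hP.2.2] at h
  exact hφ.isId_iff.1 h

end CfsgLib.J4T.S7
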