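import Mathlib
import Cfsg.Agent.Lib.J4T.Seven1
import Cfsg.Agent.Lib.W2.Tools

/-!
# Groups of Janko-four type: involutions centralising an element of order 7
-/

set_option autoImplicit false
set_option linter.unusedSectionVars false

namespace CfsgLib.J4T

open Cfsg CfsgLib.Golay CfsgLib.M24E CfsgLib.Tech CfsgLib.W2 Subgroup
open scoped Pointwise

namespace S7

variable {G : Type*} [Group G] [Finite G]

theorem sylowIn_zpowers {p : ℕ} [Fact p.Prime] {x : G} {H : Subgroup G} (hx : orderOf x = p)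
    (hH : x ∈ H) (h : ¬ p * p ∣ Nat.card H) : IsSylowIn p (zpowers x) H := by
  have hle : zpowers x ≤ H := (zpowers_le).2 hH
  refine ⟨hle, isPGroup_zpowers_iff.2 ⟨1, by rw [hx, pow_one]⟩, fun hd => h ?_⟩
  rw [← card_mul_relIndex' hle, Nat.card_zpowers, hx]
  exact Nat.mul_dvd_mul_left p hd

theorem zpowers_eq_of_prime {p : ℕ} (hp : p.Prime) {x y : G} (hx : orderOf x = p)
    (hy : y ∈ zpowers x) (h1 : y ≠ 1) : zpowers y = zpowers x := by
  have hle : zpowers y ≤ zpowers x := (zpowers_le).2 hy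
  have h2 := card_dvd_of_le hle
  rw [Nat.card_zpowers, Nat.card_zpowers, hx, Nat.dvd_prime hp, orderOf_eq_one_iff] at h2
  refine eq_of_le_of_card_ge hle ?_
  rw [Nat.card_zpowers, Nat.card_zpowers, hx, h2.resolve_left h1]

omit [Finite G] in
theorem cx_le_of_mem {x y : G} (hy : y ∈ zpowers x) : Cx x ≤ Cx y := by
  obtain ⟨k, rfl⟩ := hy
  exact fun g hg => mem_Cx.2 ((show Commute g x from mem_Cx.1 hg).zpow_right k).eq

omit [Finite G] in
theorem cx_eq_of_zpowers {x y : G} (h : zpowers y = zpowers x) : Cx y = Cx x :=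
  le_antisymm (cx_le_of_mem (h ▸ mem_zpowers x)) (cx_le_of_mem (h.symm ▸ mem_zpowers y))

omit [Finite G] in
theorem cent_zpowers (x : G) : centralizer (zpowers x : Set G) = Cx x := by
  ext g
  refine ⟨fun h => mem_Cx.2 (h x (mem_zpowers x)).symm, fun h y hy => ?_⟩
  exact (mem_Cx.1 (cx_le_of_mem hy h)).symm

omit [Finite G] in
theorem card_cx_conj (g a b : G) :
    Nat.card (Cx (g * a * g⁻¹) ⊓ Cx (g * b * g⁻¹) : Subgroup G) = Nat.card (Cx a ⊓ Cx b : Subgroup G) := by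
  rw [← cj_Cx, ← cj_Cx, ← cj_inf, card_cj]

omit [Finite G] in
theorem card_dvd_of_hom {D K : Subgroup G} {Q : Type*} [Group Q] (f : D →* Q) (R : Subgroup Q)
    (hK : ∀ x : D, f x = 1 → (x : G) ∈ K) (hR : ∀ x, f x ∈ R) :
    Nat.card D ∣ Nat.card K * Nat.card R := by
  rw [← f.ker.card_mul_index, index_ker]
  refine Nat.mul_dvd_mul ?_ (card_dvd_of_le ?_)
  · let φ : f.ker →* K := (D.subtype.comp f.ker.subtype).codRestrict K fun x => hK x.1 x.2
    exact card_dvd_of_injective φ fun a b h =>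
      Subtype.ext (Subtype.ext (congrArg (fun t : K => (t : G)) h))
  · rintro _ ⟨x, rfl⟩
    exact hR x

end S7

open S7

variable {G : Type*} [Group G] [Finite G] {z : G}

theorem S7.a7_fix {v : ℕ} (hv : v < 4096) (h : mv a7 v = v) : v = 0 := by
  have h1 := of_allLT (n := 4096) (f := fun v => or (Nat.beq v 0) (not (Nat.beq (mv a7 v) v)))
    (by decide +kernel) hv
  rw [h, Nat.beq_refl, Bool.not_true, Bool.or_false, beq_iff'] at h1
  exact h1

theorem HM.exists_seven (h : HM z) : ∃ u, h.Rk u p7 a7 ∧ orderOf u = 7 := by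
  obtain ⟨k, hk⟩ := h.exists_rk chkL_p7
  have key : ∀ u, h.Rk u p7 a7 → u ^ 7 = 1 → orderOf u = 7 := fun u hu h7 => by
    have : Fact (Nat.Prime 7) := ⟨by norm_num⟩
    refine orderOf_eq_prime h7 fun h1 => ?_
    have h2 := hu.α_eq (v := 1) (by norm_num)
    rw [h1, h.α_one (by norm_num)] at h2
    exact absurd (a7_fix (by norm_num) h2.symm) (by norm_num)
  rcases hk.pow_eq (n := 7) (by decide +kernel) with h1 | h1
  · exact ⟨k, hk, key k hk h1⟩
  · refine ⟨k * z, hk.mul_z, key _ hk.mul_z ?_⟩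
    rw [(show Commute k z from hk.comm).mul_pow, h1, ← pow_succ', ← h.zpow_mod, pow_zero]

theorem HM.card_cent_u (h : HM z) {u : G} (hu : h.Rk u p7 a7) :
    Nat.card (Cx z ⊓ Cx u : Subgroup G) ∣ 84 := by
  have hK : ∀ x ∈ Cx z ⊓ Cx u, x ∈ h.K2 := fun x hx => by
    obtain ⟨v, hv, k, hk, rfl⟩ := h.decomp x (mem_Cx.1 hx.1)
    have hk' : k * u * k⁻¹ ∈ h.K2 := mul_mem (mul_mem hk hu.mem) (inv_mem hk)
    obtain ⟨a, -, e⟩ := h.s_conj_K2 hk' hv
    have e1 : h.s v * (k * u * k⁻¹) * (h.s v)⁻¹ = h.s 0 * u := by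
      rw [h.s_zero, one_mul]
      calc _ = h.s v * k * u * (h.s v * k)⁻¹ := by group
        _ = _ := mem_Cx'.1 hx.2
    rw [e, mul_assoc] at e1
    obtain ⟨e2, e3⟩ := h.decomp_unique (xor_lt' hv (h.α_lt _ _)) (by norm_num)
      (mul_mem (pow_mem h.z_mem_K2 a) hk') hu.mem e1
    have e4 : h.α u v = v := by
      rw [← e3, h.α_E_mul (pow_mem h.z_mem a) (h.K2_z hk') hv]
      exact (Nat.xor_eq_zero_iff.1 e2).symm
    rw [hu.α_eq hv] at e4
    rw [a7_fix hv e4, h.s_zero, one_mul]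
    exact hk
  have hc : Commute z h.ρ := h.rho_z.symm
  have h6 : (z * h.ρ) ^ 6 = 1 := by
    rw [hc.mul_pow, ← h.zpow_mod, show 6 = 3 * 2 from rfl, pow_mul, h.rho_three]; simp
  have hz : z ∈ zpowers (z * h.ρ) := ⟨(3 : ℕ), by
    simp only [zpow_natCast]; rw [hc.mul_pow, h.rho_three, ← h.zpow_mod]; simp⟩
  have hr : h.ρ ∈ zpowers (z * h.ρ) := by
    have := mul_mem (inv_mem hz) (mem_zpowers (z * h.ρ))
    rwa [inv_mul_cancel_left] at this
  let R : Subgroup P24 := M24 ⊓ (Cx (pm p7) ⊓ MulAction.stabilizer P24 (ofMask 8388609))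
  have hR : Nat.card R = 14 := card_cent_p7 ▸ Nat.card_congr (Equiv.subtypeEquivRight fun g => by
    simp only [R, mem_inf, mem_Cx, MulAction.mem_stabilizer_iff])
  have h1 := card_dvd_of_hom (K := zpowers (z * h.ρ))
    (h.θhom.comp (inclusion (inf_le_left : Cx z ⊓ Cx u ≤ Cx z))) R (fun x hx => by
      obtain ⟨a, i, e⟩ := h.θ_ker x (hK x x.2) hx
      rw [e]
      exact mul_mem (pow_mem hz a) (pow_mem hr i)) (fun x => by
      have hx := mem_Cx.1 x.2.1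
      have h2 := mem_DD'.1 (h.θ_mem x hx)
      refine ⟨h2.1, mem_Cx.2 ?_, h2.2⟩
      show h.θ x * pm p7 = pm p7 * h.θ x
      rw [← hu.θ_eq, ← h.θ_mul _ _ hx hu.comm, ← h.θ_mul _ _ hu.comm hx, mem_Cx.1 x.2.2])
  rw [hR, Nat.card_zpowers] at h1
  exact h1.trans (Nat.mul_dvd_mul_right (orderOf_dvd_of_pow_eq_one h6) 14)

theorem HM.conj_seven (h : HM z) {u x : G} (hu : h.Rk u p7 a7) (h7 : orderOf u = 7)
    (hx : x * z = z * x) (hx7 : orderOf x = 7) :
    ∃ g, g * z = z * g ∧ zpowers (g * x * g⁻¹) = zpowers u := by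
  have : Fact (Nat.Prime 7) := ⟨by norm_num⟩
  obtain ⟨g, hg, h1⟩ := (sylowIn_zpowers (H := Cx z) h7 (mem_Cx.2 hu.comm)
    (by rw [h.card_H]; norm_num)).exists_conj_mem (mem_Cx.2 hx)
    (isPGroup_zpowers_iff.2 ⟨1, by rw [hx7, pow_one]⟩)
  refine ⟨g, mem_Cx.1 hg, zpowers_eq_of_prime (by norm_num) h7 h1 fun h2 => ?_⟩
  have := ord_conj g x
  rw [h2, hx7, orderOf_one] at this
  exact absurd this (by norm_num)

theorem HM.card_cent_seven (h : HM z) {x : G} (hx : x * z = z * x) (hx7 : orderOf x = 7) :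
    Nat.card (Cx z ⊓ Cx x : Subgroup G) ∣ 84 := by
  obtain ⟨u, hu, h7⟩ := h.exists_seven
  obtain ⟨g, hg, e⟩ := h.conj_seven hu h7 hx hx7
  rw [← card_cx_conj g, mem_Cx'.1 (mem_Cx.2 hg), cx_eq_of_zpowers e]
  exact h.card_cent_u hu

theorem HM.not_real7 (h : HM z) {x n : G} (hx : x * z = z * x) (hx7 : orderOf x = 7)
    (hn : n * z = z * n) : n * x * n⁻¹ ≠ x⁻¹ := by
  classical
  intro e
  refine not_real_seven (h.θ_M24 hx) ?_ ?_ (h.θ_M24 hn) ?_
  · rw [← h.θ_pow hx, ← hx7, pow_orderOf_eq_one, h.θ_one]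
  · intro h1
    obtain ⟨u, hu, h7⟩ := h.exists_seven
    obtain ⟨g, hg, e⟩ := h.conj_seven hu h7 hx hx7
    obtain ⟨k, hk⟩ := (mem_zpowers_iff_mem_range_orderOf.1 (e ▸ mem_zpowers u) :
      u ∈ Finset.image (fun k => (g * x * g⁻¹) ^ k) _) |> Finset.mem_image.1
    have h2 : h.θ u = 1 := by
      rw [← hk.2, h.θ_pow (comm_mul (comm_mul hg hx) (comm_inv hg)), h.θ_conj hg hx, h1]; simp
    rw [hu.θ_eq, ← (pm_rp isM_p7).isId_iff] at h2
    exact absurd h2 (by decide +kernel)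
  · rw [← h.θ_conj hn hx, e, h.θ_inv hx]

theorem MM.card_fix_seven (m : MM z) {x : G} (hx : x ∈ normalizer (m.V : Set G))
    (hq : (m.ψ x : P24) = pm q7a) : Nat.card (m.V ⊓ Cx x : Subgroup G) ∣ 4 := by
  classical
  have h1 : IsPGroup 2 (m.V ⊓ Cx x : Subgroup G) :=
    isPGroup_iff_mem.2 fun y hy => ⟨1, by rw [pow_one, sq, m.V_sq hy.1]⟩
  obtain ⟨n, hn⟩ := IsPGroup.iff_card.1 h1
  have h2 : ((m.V ⊓ Cx x : Subgroup G) : Set G) ⊆
      ↑(([0, 730, 2247, 2589].map fun s => m.c (ofMask (4096 * s))).toFinset) := by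
    rintro y ⟨h3, h4⟩
    obtain ⟨a, ha, rfl⟩ := (m.mem_V y).1 h3
    obtain ⟨s, hs, he, h5⟩ := MM.exists_sy ha
    rw [(m.c_eq_iff ha he).2 h5] at h4 ⊢
    have h6 := (m.comm_iff hx he).1 (mem_Cx.1 h4).symm
    rw [hq] at h6
    exact Finset.mem_coe.2 (List.mem_toFinset.2 (List.mem_map_of_mem (fix_q7 hs he h6)))
  have h3 : Nat.card (m.V ⊓ Cx x : Subgroup G) ≤ 4 := by
    have := Set.ncard_le_ncard h2 (Finset.finite_toSet _)
    rw [Set.ncard_coe_finset] at this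
    exact this.trans ((List.toFinset_card_le _).trans (by simp))
  rw [hn] at h3 ⊢
  exact pow_dvd_pow 2 (show n ≤ 2 from (Nat.pow_le_pow_iff_right (by norm_num)).1 h3)

theorem MM.Full.card_cent_q7 {m : MM z} (hm : m.Full) {x : G} (hx : x ∈ normalizer (m.V : Set G))
    (hq : (m.ψ x : P24) = pm q7a) {d : Finset GolayPt} (hd : d.card = 2) (hc : x * m.c d = m.c d * x) :
    Nat.card (Cx (m.c d) ⊓ Cx x : Subgroup G) ∣ 56 := by
  have h1 := (m.comm_duad_iff hx hd).1 hc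
  rw [hq] at h1
  obtain ⟨k, hk, rfl⟩ := duad_q7 hd h1
  let R : Subgroup P24 := M24 ⊓ (Cx (pm q7a) ⊓ MulAction.stabilizer P24 (ofMask k))
  have hR : Nat.card R = 14 := S7.card_cent_q7 hk ▸ Nat.card_congr (Equiv.subtypeEquivRight fun g => by
    simp only [R, mem_inf, mem_Cx, MulAction.mem_stabilizer_iff])
  have hle : Cx (m.c (ofMask k)) ⊓ Cx x ≤ normalizer (m.V : Set G) :=
    inf_le_left.trans (hm.cent_duad _ hd)
  have h2 := card_dvd_of_hom (K := m.V ⊓ Cx x) (m.ψh.comp (inclusion hle)) R (fun y hy =>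
    ⟨(m.ψ_eq_one_iff (hle y.2)).1 (Subtype.ext hy), y.2.2⟩) (fun y => by
      refine ⟨(m.ψ y).2, mem_Cx.2 ?_, (m.comm_duad_iff (hle y.2) hd).1 (mem_Cx.1 y.2.1)⟩
      show (m.ψ y : P24) * pm q7a = pm q7a * m.ψ y
      rw [← hq, ← Subgroup.coe_mul, ← Subgroup.coe_mul, ← m.ψ_mul (hle y.2) hx, ← m.ψ_mul hx (hle y.2),
        mem_Cx.1 y.2.2])
  rw [hR] at h2
  exact h2.trans (Nat.mul_dvd_mul_right (m.card_fix_seven hx hq) 14)

theorem MM.ψ_pow7 (m : MM z) {x : G} (hx : x ∈ normalizer (m.V : Set G)) (n : ℕ) :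
    m.ψ (x ^ n) = m.ψ x ^ n := by
  induction n with
  | zero => rw [pow_zero, pow_zero, m.ψ_one]
  | succ n ih => rw [pow_succ, pow_succ, m.ψ_mul (pow_mem hx n) hx, ih]

theorem MM.Full.card_cent_seven {m : MM z} (hm : m.Full) {x : G} (hx7 : orderOf x = 7)
    {d : Finset GolayPt} (hd : d.card = 2) (hc : x * m.c d = m.c d * x) :
    Nat.card (Cx (m.c d) ⊓ Cx x : Subgroup G) ∣ 56 := by
  have hx : x ∈ normalizer (m.V : Set G) := hm.cent_duad d hd (mem_Cx.2 hc)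
  have h7 : x ^ 7 = 1 := hx7 ▸ pow_orderOf_eq_one x
  have h1 : (m.ψ x : P24) ≠ 1 := fun h => by
    have h2 := m.V_sq ((m.ψ_eq_one_iff hx).1 (Subtype.ext h))
    rw [← sq, ← orderOf_dvd_iff_pow_eq_one, hx7] at h2
    exact absurd h2 (by norm_num)
  have key : ∀ (r : M24) (y : G), y ∈ zpowers x → (r : P24) * pm q7a * (r : P24)⁻¹ = m.ψ y →
      Nat.card (Cx (m.c d) ⊓ Cx x : Subgroup G) ∣ 56 := fun r y hy e => by
    have hyM : y ∈ normalizer (m.V : Set G) := (zpowers_le.2 hx) hy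
    have hy1 : y ≠ 1 := by
      rintro rfl
      rw [m.ψ_one, OneMemClass.coe_one, mul_inv_eq_one, mul_eq_left] at e
      have := orderOf_q7a
      rw [e, orderOf_one] at this
      exact absurd this (by norm_num)
    rw [← cx_eq_of_zpowers (zpowers_eq_of_prime (by norm_num) hx7 hy hy1), ← card_cx_conj (m.κ r⁻¹),
      m.conj _ _ (ev_two hd)]
    have hd' : (((r⁻¹ : M24) : P24) • d).card = 2 := by rw [Finset.card_smul_finset, hd]
    refine hm.card_cent_q7 (mul_mem (mul_mem (m.κ_mem_M _) hyM) (inv_mem (m.κ_mem_M _))) ?_ hd' ?_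
    · rw [m.ψ_conj (m.κ_mem_M _) hyM, m.ψ_κ]
      simp only [Subgroup.coe_mul, InvMemClass.coe_inv, ← e]
      group
    · rw [← m.conj _ _ (ev_two hd)]
      exact mem_Cx.1 (conj_mem_Cx.2 (Cx_comm.1 (cx_le_of_mem hy (mem_Cx.2 hc.symm))))
  rcases class_seven (m.ψ x).2 (by rw [← SubmonoidClass.coe_pow, ← m.ψ_pow7 hx, h7, m.ψ_one]; rfl) h1
    with ⟨r, hr, e⟩ | ⟨r, hr, e⟩
  · exact key ⟨r, hr⟩ x (mem_zpowers x) e
  · refine key ⟨r, hr⟩ (x ^ 5) (pow_mem (mem_zpowers x) 5) ?_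
    have hq : pm q7a ^ 7 = 1 := orderOf_q7a ▸ pow_orderOf_eq_one _
    rw [m.ψ_pow7 hx, SubmonoidClass.coe_pow, ← e, conj_pow, ← pow_mul, show 3 * 5 = 7 * 2 + 1 from rfl,
      pow_succ, pow_mul, hq, one_pow, one_mul]

/-- the centraliser of an involution and an element of order 7 -/
theorem JM.Good.card_cent_seven {j : JM z} (hj : j.Good) {w x : G} (hw : orderOf w = 2)
    (hx : orderOf x = 7) (hc : x * w = w * x) :
    (IsConj z w ∧ Nat.card (Cx w ⊓ Cx x : Subgroup G) ∣ 84) ∨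
      (¬ IsConj z w ∧ Nat.card (Cx w ⊓ Cx x : Subgroup G) ∣ 56) := by
  have key : ∀ a g : G, g * a * g⁻¹ = w → (g⁻¹ * x * g) * a = a * (g⁻¹ * x * g) ∧
      orderOf (g⁻¹ * x * g) = 7 ∧
      Nat.card (Cx w ⊓ Cx x : Subgroup G) = Nat.card (Cx a ⊓ Cx (g⁻¹ * x * g) : Subgroup G) := by
    rintro a g rfl
    refine ⟨?_, by simpa [hx] using ord_conj g⁻¹ x, ?_⟩
    · calc _ = g⁻¹ * (x * (g * a * g⁻¹)) * g := by group
        _ = _ := by rw [hc]; group
    · rw [← card_cx_conj g a]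
      congr 4
      group
  rcases hj.full.two w (ne_one_of_ord hw) (sq_of_ord hw) with h | h
  · obtain ⟨g, hg⟩ := isConj_iff.1 h
    obtain ⟨h1, h2, h3⟩ := key _ g hg
    exact Or.inl ⟨h, h3 ▸ j.toHM.card_cent_seven h1 h2⟩
  · obtain ⟨g, hg⟩ := isConj_iff.1 h
    obtain ⟨h1, h2, h3⟩ := key _ g hg
    exact Or.inr ⟨fun h' => hj.full.nconj _ card_3 (h'.trans h.symm),
      h3 ▸ hj.full.card_cent_seven h2 card_3 h1⟩

/-- an element of order 7 is not inverted by an element centralising a commuting conjugate of `z` -/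
theorem HM.not_real7' (h : HM z) {w x n : G} (hw : IsConj z w) (hx : x * w = w * x) (hx7 : orderOf x = 7)
    (hn : n * w = w * n) : n * x * n⁻¹ ≠ x⁻¹ := by
  obtain ⟨g, rfl⟩ := isConj_iff.1 hw
  intro e
  have key : ∀ y : G, y * (g * z * g⁻¹) = g * z * g⁻¹ * y → g⁻¹ * y * g * z = z * (g⁻¹ * y * g) :=
    fun y hy => by
      calc _ = g⁻¹ * (y * (g * z * g⁻¹)) * g := by group
        _ = _ := by rw [hy]; group
  refine h.not_real7 (key x hx) (by simpa [hx7] using ord_conj g⁻¹ x) (key n hn) ?_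
  calc _ = g⁻¹ * (n * x * n⁻¹) * g := by group
    _ = _ := by rw [e]; group

end CfsgLib.J4T
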