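import Mathlib
import Cfsg.Agent.Lib.J4T.Seven2
import Cfsg.Agent.Lib.J4T.WC
import Cfsg.Agent.Lib.Core.Frattini

/-!
# Groups of Janko-four type: the special group `L = 2^(3+12)`
-/

set_option autoImplicit false
set_option linter.unusedSectionVars false

namespace CfsgLib.J4T

open Cfsg CfsgLib.Golay CfsgLib.M24E CfsgLib.Tech CfsgLib.W2 Subgroup S7
open scoped Pointwise commutatorElement

namespace S7

theorem sq_vec {x v : ℕ} (hx : x < 16) (hv : v < 4096) (h1 : bf v 1 = 0) (h8 : bf v 8 = 0) :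
    v ^^^ mv (rM x) v ∈ ({0, 1, 8, 9} : Finset ℕ) := by
  have h := of_allLT (of_allLT (n := 4096) (f := fun v => frc (bf v 1) fun a => frc (bf v 8) fun b =>
    Bool.rec true (Bool.rec true (allLT 16 fun x => memL [0, 1, 8, 9] (Nat.xor v (mv (rM x) v)))
      (Nat.beq b 0)) (Nat.beq a 0)) (by decide +kernel) hv |> fun h => by
      rw [frc_eq, frc_eq, h1, h8] at h; exact h) hx
  rw [memL_iff] at h
  simpa using h

theorem rad_vec {v : ℕ} (hv : v < 4096)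
    (h : ∀ w ∈ [1, 2, 4, 8, 16, 32, 128, 256, 1024, 2048], bf v w = 0) :
    v ∈ ({0, 1, 8, 9} : Finset ℕ) := by
  have h1 := of_allLT (n := 4096) (f := fun v =>
    or (not (allL [1, 2, 4, 8, 16, 32, 128, 256, 1024, 2048] fun w => Nat.beq (bf v w) 0))
      (memL [0, 1, 8, 9] v)) (by decide +kernel) hv
  rw [(allL_iff _ _).2 fun w hw => beq_iff'.2 (h w hw), Bool.not_true, Bool.false_or, memL_iff] at h1
  simpa using h1

theorem rE_inj {x y : ℕ} (hx : x < 16) (hy : y < 16) (h : pm (rE x) = pm (rE y)) : x = y := by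
  rw [← (pm_rp (isM_rE (by omega))).eqF_iff (pm_rp (isM_rE (by omega)))] at h
  have h1 := of_allLT (of_allLT (n := 16) (f := fun x => allLT 16 fun y =>
    or (Nat.beq x y) (not (eqF (ap (rE x)) (ap (rE y))))) (by decide +kernel) hx) hy
  rwa [h, Bool.not_true, Bool.or_false, beq_iff'] at h1

theorem exists_perp_aux (n : ℕ) (hn : cntLT n (fun v => and (Nat.beq (bf v 1) 0) (Nat.beq (bf v 8) 0)) = 1024) :
    ∃ W : Finset ℕ, W.card = 1024 ∧ ∀ v, v ∈ W ↔ v < n ∧ bf v 1 = 0 ∧ bf v 8 = 0 := by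
  rw [cntLT_eq_card] at hn
  exact ⟨_, hn, fun v => by simp only [Finset.mem_filter, Finset.mem_range, Bool.and_eq_true, beq_iff']⟩

theorem exists_perp : ∃ W : Finset ℕ, W.card = 1024 ∧ ∀ v, v ∈ W ↔ v < 4096 ∧ bf v 1 = 0 ∧ bf v 8 = 0 :=
  exists_perp_aux 4096 (by decide +kernel)

end S7

variable {G : Type*} [Group G] [Finite G] {z : G}

namespace HM

variable (h : HM z)

/-- the centraliser of `Z8` -/
abbrev CZ : Subgroup G := centralizer (h.Z8 : Set G)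

/-- the normaliser of `Z8` -/
abbrev NZ8 : Subgroup G := normalizer (h.Z8 : Set G)

theorem Z8_le_of {D : Subgroup G} (h0 : z ∈ D) (h1 : h.s 1 ∈ D) (h8 : h.s 8 ∈ D) : h.Z8 ≤ D := by
  rintro _ ⟨w, hw, a, -, rfl⟩
  refine mul_mem ?_ (pow_mem h0 a)
  simp only [Finset.mem_insert, Finset.mem_singleton] at hw
  rcases hw with rfl | rfl | rfl | rfl
  · rw [h.s_zero]; exact one_mem _
  · exact h1
  · exact h8
  · rw [show 9 = 1 ^^^ 8 from rfl, h.s_xor (by norm_num) (by norm_num)]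
    exact mul_mem (mul_mem h1 h8) (pow_mem h0 _)

theorem mem_CZ {x : G} :
    x ∈ h.CZ ↔ x * z = z * x ∧ x * h.s 1 = h.s 1 * x ∧ x * h.s 8 = h.s 8 * x :=
  ⟨fun hx => ⟨(hx z h.z_mem_Z8).symm, (hx _ (h.s_mem_Z8 (by decide))).symm,
    (hx _ (h.s_mem_Z8 (by decide))).symm⟩, fun ⟨h0, h1, h8⟩ _ hy =>
    mem_Cx.1 (h.Z8_le_of (D := Cx x) (mem_Cx.2 h0.symm) (mem_Cx.2 h1.symm) (mem_Cx.2 h8.symm) hy)⟩

theorem CZ_z {x : G} (hx : x ∈ h.CZ) : x * z = z * x := (h.mem_CZ.1 hx).1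

theorem CZ_α1 {x : G} (hx : x ∈ h.CZ) : h.α x 1 = 1 :=
  h.α_fix_of_comm (h.CZ_z hx) (by norm_num) (h.mem_CZ.1 hx).2.1

theorem CZ_inner {x : G} (hx : x ∈ h.CZ) : h.θ x (pt 0) = pt 0 := by
  by_contra h0
  have h1 := h.α_rho_out' (h.CZ_z hx) h0 (v := 1) (by norm_num)
  rw [h.CZ_α1 hx, show rho 1 = 8 from rfl,
    h.α_fix_of_comm (h.CZ_z hx) (by norm_num) (h.mem_CZ.1 hx).2.2] at h1
  exact absurd h1 (by decide)

theorem s_mem_CZ {v : ℕ} (hv : v < 4096) : h.s v ∈ h.CZ ↔ bf v 1 = 0 ∧ bf v 8 = 0 := by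
  rw [h.mem_CZ, h.s_comm_iff hv (by norm_num), h.s_comm_iff hv (by norm_num)]
  exact and_iff_right (h.s_z hv)

theorem K2_mem_CZ {k : G} (hk : k ∈ h.K2) (h0 : h.θ k (pt 0) = pt 0) (h1 : h.α k 1 = 1) : k ∈ h.CZ := by
  have h8 : h.α k 8 = 8 := by
    have := h.α_rho_in hk h0 (v := 1) (by norm_num)
    rwa [h1] at this
  refine h.mem_CZ.2 ⟨h.K2_z hk, mul_inv_eq_iff_eq_mul.1 ?_, mul_inv_eq_iff_eq_mul.1 ?_⟩
  · rw [h.α_in k hk h0 1 (by norm_num), h1]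
  · rw [h.α_in k hk h0 8 (by norm_num), h8]

variable {h} in
theorem Rk.mem_CZ {k : G} {p A : ℕ} (r : h.Rk k p A) (h0 : ap p 0 = 0) (h1 : mv A 1 = 1) : k ∈ h.CZ :=
  h.K2_mem_CZ r.mem (r.inner_iff.2 h0) (by rw [r.α_eq (by norm_num), h1])

theorem Z8_le_CZ : h.Z8 ≤ h.CZ := fun _ hx _ hy => h.Z8_comm hy hx

theorem CZ_le_NZ8 : h.CZ ≤ h.NZ8 := centralizer_le_normalizer _

theorem conj_mem_CZ {n x : G} (hn : n ∈ h.NZ8) (hx : x ∈ h.CZ) : n * x * n⁻¹ ∈ h.CZ := fun y hy => by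
  have := hx _ (conj_mem_of_mem_normalizer' hn hy)
  calc y * (n * x * n⁻¹) = n * (n⁻¹ * y * n * x) * n⁻¹ := by group
    _ = _ := by rw [this]; group

/-- the special group of order `2 ^ 15` -/
def L15 : Subgroup G where
  carrier := {x | x ∈ h.CZ ∧ ∀ i < 5, h.θ x • ofMask (oc i) = ofMask (oc i)}
  one_mem' := ⟨one_mem _, fun i _ => by rw [h.θ_one, one_smul]⟩
  mul_mem' := fun {a b} ha hb => ⟨mul_mem ha.1 hb.1, fun i hi => by
    rw [h.θ_mul _ _ (h.CZ_z ha.1) (h.CZ_z hb.1), mul_smul, hb.2 i hi, ha.2 i hi]⟩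
  inv_mem' := fun {a} ha => ⟨inv_mem ha.1, fun i hi => by
    rw [h.θ_inv (h.CZ_z ha.1), inv_smul_eq_iff, ha.2 i hi]⟩

theorem mem_L15 {x : G} :
    x ∈ h.L15 ↔ x ∈ h.CZ ∧ ∀ i < 5, h.θ x • ofMask (oc i) = ofMask (oc i) := Iff.rfl

theorem L15_le_CZ : h.L15 ≤ h.CZ := fun _ hx => hx.1

theorem s_mem_L15 {v : ℕ} (hv : v < 4096) (h1 : bf v 1 = 0) (h8 : bf v 8 = 0) : h.s v ∈ h.L15 :=
  ⟨(h.s_mem_CZ hv).2 ⟨h1, h8⟩, fun i _ => by rw [h.θ_s hv, one_smul]⟩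

variable {h} in
theorem Rk.mem_L15 {k : G} {x : ℕ} (hx : x < 16) (r : h.Rk k (rE x) (rM x)) : k ∈ h.L15 :=
  ⟨r.mem_CZ (by clear r; revert x; decide +kernel) (by clear r; revert x; decide +kernel), fun i hi => by
    rw [r.θ_eq, rE_oc hx hi]⟩

theorem Z8_le_L15 : h.Z8 ≤ h.L15 := fun _ hx =>
  ⟨h.Z8_le_CZ hx, fun i _ => by rw [h.θ_E _ (h.Z8_le hx), one_smul]⟩

theorem L15_decomp {y : G} (hy : y ∈ h.L15) :
    ∃ v < 4096, bf v 1 = 0 ∧ bf v 8 = 0 ∧ ∃ x < 16, ∃ k, h.Rk k (rE x) (rM x) ∧ y = h.s v * k := by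
  have hz := h.CZ_z hy.1
  have h0 := h.CZ_inner hy.1
  obtain ⟨x, hx, hr⟩ := fix_five (h.θ_M24 hz) h0 (DD_fix23 (h.θ_mem y hz) h0) hy.2
  obtain ⟨v, hv, k, hk, rfl⟩ := h.decomp y hz
  have h1 := h.CZ_α1 hy.1
  rw [h.α_E_mul (h.s_mem hv) (h.K2_z hk) (by norm_num)] at h1
  rw [h.θ_E_mul (h.s_mem hv) (h.K2_z hk)] at hr
  have r : h.Rk k (rE x) (rM x) := rk_of_fix hk hr (chkL_rE (by omega))
    (h1.trans (by clear h1 hr; revert x; decide +kernel))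
  have h2 := mul_mem hy.1 (inv_mem (r.mem_L15 hx).1)
  rw [mul_inv_cancel_right, h.s_mem_CZ hv] at h2
  exact ⟨v, hv, h2.1, h2.2, x, hx, k, r, rfl⟩

theorem card_L15 : Nat.card h.L15 = 2 ^ 15 := by
  classical
  have hr : ∀ x : ℕ, ∃ k, x < 16 → h.Rk k (rE x) (rM x) := fun x => by
    by_cases hx : x < 16
    · obtain ⟨k, hk⟩ := h.exists_rk (chkL_rE (x := x) (by omega))
      exact ⟨k, fun _ => hk⟩
    · exact ⟨1, fun h => absurd h hx⟩
  choose r hr using hr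
  obtain ⟨perp, card_perp, mem_perp⟩ := exists_perp
  have e : (h.L15 : Set G) = ↑((perp ×ˢ Finset.range 16 ×ˢ Finset.range 2).image
      fun p : ℕ × ℕ × ℕ => h.s p.1 * (r p.2.1 * z ^ p.2.2)) := by
    ext y
    simp only [Finset.coe_image, Set.mem_image, Finset.mem_product, Finset.mem_range,
      mem_perp, SetLike.mem_coe]
    constructor
    · intro hy
      obtain ⟨v, hv, h1, h8, x, hx, k, hk, rfl⟩ := h.L15_decomp hy
      rcases (hr x hx).unique hk with rfl | rfl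
      · exact ⟨(v, x, 0), ⟨⟨hv, h1, h8⟩, hx, two_pos⟩, by simp⟩
      · exact ⟨(v, x, 1), ⟨⟨hv, h1, h8⟩, hx, one_lt_two⟩, by simp⟩
    · rintro ⟨⟨v, x, a⟩, ⟨⟨hv, h1, h8⟩, hx, -⟩, rfl⟩
      exact mul_mem (h.s_mem_L15 hv h1 h8)
        (mul_mem ((hr x hx).mem_L15 hx) (pow_mem (h.Z8_le_L15 h.z_mem_Z8) a))
  have e2 : Nat.card h.L15 = (h.L15 : Set G).ncard := Nat.card_coe_set_eq _
  rw [e2, e, Set.ncard_coe_finset, Finset.card_image_of_injOn, Finset.card_product,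
    Finset.card_product, card_perp, Finset.card_range, Finset.card_range]
  · norm_num
  rintro ⟨v, x, a⟩ h1 ⟨w, y, b⟩ h2 e
  simp only [Finset.mem_coe, Finset.mem_product, Finset.mem_range, mem_perp] at h1 h2
  obtain ⟨e1, e3⟩ := h.decomp_unique h1.1.1 h2.1.1
    (mul_mem (hr x h1.2.1).mem (pow_mem h.z_mem_K2 a)) (mul_mem (hr y h2.2.1).mem (pow_mem h.z_mem_K2 b)) e
  have e4 := congrArg h.θ e3
  rw [h.θ_mul_E (pow_mem h.z_mem a) (hr x h1.2.1).comm, h.θ_mul_E (pow_mem h.z_mem b) (hr y h2.2.1).comm,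
    (hr x h1.2.1).θ_eq, (hr y h2.2.1).θ_eq] at e4
  obtain rfl := rE_inj h1.2.1 h2.2.1 e4
  have e5 := h.zpow_eq_iff.1 (mul_left_cancel e3)
  exact Prod.ext e1 (Prod.ext rfl (show a = b by omega))

theorem sz_mem_Z8 {w : ℕ} (hw : w ∈ ({0, 1, 8, 9} : Finset ℕ)) (a : ℕ) : h.s w * z ^ a ∈ h.Z8 :=
  mul_mem (h.s_mem_Z8 hw) (pow_mem h.z_mem_Z8 a)

theorem L15_sq {y : G} (hy : y ∈ h.L15) : y * y ∈ h.Z8 := by
  obtain ⟨v, hv, h1, h8, x, hx, k, r, rfl⟩ := h.L15_decomp hy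
  have h2 : k * k ∈ h.Z8 := by
    rcases r.pow_eq (n := 2) (by clear r; revert x; decide +kernel) with e | e <;> rw [← sq, e]
    exacts [one_mem _, h.z_mem_Z8]
  have h3 := h.α_in k r.mem (h.CZ_inner (r.mem_L15 hx).1) v hv
  rw [show h.s v * k * (h.s v * k) = h.s v * (k * h.s v * k⁻¹) * (k * k) by group, h3,
    h.s_mul v hv _ (h.α_lt _ _), r.α_eq hv]
  exact mul_mem (h.sz_mem_Z8 (sq_vec hx hv h1 h8) _) h2

theorem L15_comm {a b : G} (ha : a ∈ h.L15) (hb : b ∈ h.L15) : a * b * a⁻¹ * b⁻¹ ∈ h.Z8 := by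
  have h1 := hb.1 _ (inv_mem (h.L15_sq ha))
  have : a * b * a⁻¹ * b⁻¹ = a * b * (a * b) * (a * a)⁻¹ * (b * b)⁻¹ := by
    calc _ = a * b * (a * b) * b⁻¹ * (((a * a)⁻¹ * b) * b⁻¹) * b⁻¹ := by group
      _ = a * b * (a * b) * (b⁻¹ * ((a * a)⁻¹ * b)) * (b * b)⁻¹ := by group
      _ = _ := by rw [h1]; group
  rw [this]
  exact mul_mem (mul_mem (h.L15_sq (mul_mem ha hb)) (inv_mem (h.L15_sq ha))) (inv_mem (h.L15_sq hb))

theorem mem_Z8_of_cent {y : G} (hy : y ∈ h.L15) (hc : ∀ x ∈ h.L15, x * y = y * x) : y ∈ h.Z8 := by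
  have hz := h.CZ_z hy.1
  have hW : ∀ w ∈ [1, 2, 4, 8, 16, 32, 128, 256, 1024, 2048], w < 4096 ∧ bf w 1 = 0 ∧ bf w 8 = 0 := by
    decide +kernel
  have key : ∀ w ∈ [1, 2, 4, 8, 16, 32, 128, 256, 1024, 2048], y * h.s w = h.s w * y := fun w hw =>
    (hc _ (h.s_mem_L15 (hW w hw).1 (hW w hw).2.1 (hW w hw).2.2)).symm
  have h2 := h.α_fix_of_comm hz (by norm_num) (key 2 (by simp))
  have h128 := h.α_fix_of_comm hz (by norm_num) (key 128 (by simp))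
  obtain ⟨v, hv, -, -, x, hx, k, r, rfl⟩ := h.L15_decomp hy
  rw [h.α_E_mul (h.s_mem hv) r.comm (by norm_num), r.α_eq (by norm_num)] at h2 h128
  obtain rfl : x = 0 :=
    (by decide +kernel : ∀ x < 16, mv (rM x) 2 = 2 → mv (rM x) 128 = 128 → x = 0) x hx h2 h128
  have hk : ∃ a : ℕ, k = z ^ a := by
    rcases (r.congr rfl (show rM 0 = mI by decide +kernel)).eq_one_or with e | e
    exacts [⟨0, by rw [e, pow_zero]⟩, ⟨1, by rw [e, pow_one]⟩]
  obtain ⟨a, rfl⟩ := hk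
  refine h.sz_mem_Z8 (rad_vec hv fun w hw => (h.s_comm_iff hv (hW w hw).1).1 ?_) a
  have := key w hw
  rw [mul_assoc, ← h.s_zpow (hW w hw).1, ← mul_assoc, ← mul_assoc] at this
  exact mul_right_cancel this

theorem center_L15 : center h.L15 = h.Z8.subgroupOf h.L15 := by
  ext y
  rw [mem_center_iff, mem_subgroupOf]
  exact ⟨fun hc => h.mem_Z8_of_cent y.2 fun x hx => congrArg Subtype.val (hc ⟨x, hx⟩),
    fun hy x => Subtype.ext (x.2.1 _ hy).symm⟩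

theorem commutator_L15 : commutator h.L15 = h.Z8.subgroupOf h.L15 := by
  refine le_antisymm (commutator_le.2 fun a _ b _ => h.L15_comm a.2 b.2) ?_
  let D := (commutator h.L15).map h.L15.subtype
  have key : ∀ a ∈ h.L15, ∀ b ∈ h.L15, a * b * a⁻¹ * b⁻¹ ∈ D := fun a ha b hb =>
    ⟨⁅(⟨a, ha⟩ : h.L15), ⟨b, hb⟩⁆, commutator_mem_commutator (mem_top _) (mem_top _), rfl⟩
  have hz : z ∈ D := by
    have := key _ (h.s_mem_L15 (v := 2) (by norm_num) (by decide +kernel) (by decide +kernel)) _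
      (h.s_mem_L15 (v := 1024) (by norm_num) (by decide +kernel) (by decide +kernel))
    rwa [h.s_conj (by norm_num) (by norm_num), show bf 2 1024 = 1 by decide +kernel, pow_one,
      h.s_z (by norm_num), mul_inv_cancel_right] at this
  obtain ⟨k, r⟩ := h.exists_rk (chkL_rE (x := 1) (by norm_num))
  have hk := r.mem_L15 (by norm_num)
  have key2 : ∀ w < 4096, bf w 1 = 0 → bf w 8 = 0 → h.s (mv (rM 1) w ^^^ w) ∈ D := fun w hw h1 h8 => by
    have := key _ hk _ (h.s_mem_L15 hw h1 h8)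
    rw [h.α_in k r.mem (h.CZ_inner hk.1) w hw, h.s_inv hw, ← mul_assoc, r.α_eq hw] at this
    rw [h.s_xor (mv_lt _ _) hw]
    refine mul_mem ?_ (pow_mem hz _)
    simpa using mul_mem this (inv_mem (pow_mem hz (qf w)))
  have h1 : h.s 1 ∈ D := by
    have := key2 1024 (by norm_num) (by decide +kernel) (by decide +kernel)
    rwa [show mv (rM 1) 1024 ^^^ 1024 = 1 by decide +kernel] at this
  have h8 : h.s 8 ∈ D := by
    have := key2 256 (by norm_num) (by decide +kernel) (by decide +kernel)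
    rwa [show mv (rM 1) 256 ^^^ 256 = 8 by decide +kernel] at this
  intro y hy
  obtain ⟨y', hy', e'⟩ := h.Z8_le_of hz h1 h8 hy
  rwa [← Subtype.ext (a1 := y') e']

theorem isPGroup_L15 : IsPGroup 2 h.L15 := IsPGroup.of_card h.card_L15

theorem isSpecial_L15 : IsSpecial 2 h.L15 := by
  refine ⟨h.isPGroup_L15, le_antisymm ?_ ?_, h.commutator_L15.trans h.center_L15.symm⟩
  · rw [h.center_L15]
    exact Core.frattini_le_of_commutator_le_of_pow_mem Nat.prime_two h.commutator_L15.le fun x => by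
      rw [mem_subgroupOf, sq]; exact h.L15_sq x.2
  · rw [h.center_L15, ← h.commutator_L15]
    exact Core.commutator_le_frattini_of_isPGroup h.isPGroup_L15

theorem card_center_L15 : Nat.card (center h.L15) = 8 := by
  rw [h.center_L15, ← h.card_Z8]
  exact Nat.card_congr (subgroupOfEquivOfLe h.Z8_le_L15).toEquiv

theorem norm_L15_le : normalizer (h.L15 : Set G) ≤ h.NZ8 := fun n hn =>
  mem_normalizer_of_forall fun y hy => h.mem_Z8_of_cent
    (conj_mem_of_mem_normalizer hn (h.Z8_le_L15 hy)) fun x hx => by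
      have := (conj_mem_of_mem_normalizer' hn hx).1 y hy
      calc x * (n * y * n⁻¹) = n * (n⁻¹ * x * n * y) * n⁻¹ := by group
        _ = _ := by rw [← this]; group

end HM

end CfsgLib.J4T
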