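import Mathlib
import Cfsg.Agent.Lib.J4T.Seven3
import Cfsg.Agent.Lib.InvChar.AutElem

/-!
# Groups of Janko-four type: the normaliser of `Z = 2^3` maps onto `S5 × L3(2)` with kernel `L`
-/

set_option autoImplicit false
set_option linter.unusedSectionVars false

namespace CfsgLib.J4T

open Cfsg CfsgLib.Golay CfsgLib.M24E CfsgLib.Tech CfsgLib.W2 Subgroup S7
open scoped Pointwise

variable {G : Type*} [Group G] [Finite G] {z : G}

theorem HM2.Z8_le_VV (h : HM2 z) : h.Z8 ≤ h.VV :=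
  h.Z8_le_of h.z_mem_VV (h.s_mem_VV (by norm_num)) (h.s_mem_VV (by norm_num))

theorem HM2.VV_le_CZ (h : HM2 z) : h.VV ≤ h.CZ := fun _ hx _ hy => h.VV_comm (h.Z8_le_VV hy) hx

theorem HM2.exists_oc (h : HM2 z) {g : G} (hg : g * z = z * g) (h1 : g⁻¹ * h.s 1 * g ∈ h.VV) :
    ∃ i < 5, h.θ g • ofMask o0 = ofMask (oc i) := by
  have hg' := comm_inv hg
  obtain ⟨w, hw, x, hx, a, -, e⟩ := h.mem_VV.1 h1
  obtain ⟨b, -, e'⟩ := h.exists_conj hg' (v := 1) (by norm_num)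
  rw [inv_inv, e, ← mul_one (h.s (h.α g⁻¹ 1)), ← h.l_zero] at e'
  have h2 := (h.v_inj (by omega) (h.α_lt _ _) hx (by norm_num) e').1
  obtain ⟨φ, hφ⟩ := exists_rp (h.θ g⁻¹)
  have hD := h.θ_mem _ hg'
  have h3 := h.geo' hg' hφ (a := 2) (b := 4) (by norm_num) (by norm_num) (by norm_num) (by norm_num)
    (by norm_num)
  rw [show dv 2 4 = 1 by decide +kernel, ← h2] at h3
  have r2 := WCa.DD_range hD hφ (a := 2) (by norm_num) (by norm_num)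
  have r4 := WCa.DD_range hD hφ (a := 4) (by norm_num) (by norm_num)
  obtain ⟨h4, h5⟩ := dv_o0 r2.2 r4.2 r2.1 r4.1
    (WCa.rp_ne hφ (by norm_num) (by norm_num) (by norm_num)) hw h3
  rw [← hφ.pt_eq (by norm_num)] at h4 h5
  obtain ⟨i, hi, e⟩ := oct_thru (smul_mem_octads (h.θ_M24 hg) o0_mem) (fun p hp => by
    rw [← Finset.inv_smul_mem_iff, ← h.θ_inv hg, Equiv.Perm.smul_def]
    have h0 : pt 0 ∈ ofMask o0 ∧ pt 23 ∈ ofMask o0 := by simp only [mem_ofMask]; decide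
    rcases (by simp only [mem_ofMask]; decide :
      ∀ p ∈ ofMask 8388629, p = pt 0 ∨ p = pt 23 ∨ p = pt 2 ∨ p = pt 4) p hp with rfl | rfl | rfl | rfl
    · rcases (mem_DD.1 hD).2 with e | e
      exacts [e.1.symm ▸ h0.1, e.1.symm ▸ h0.2]
    · rcases (mem_DD.1 hD).2 with e | e
      exacts [e.2.symm ▸ h0.2, e.2.symm ▸ h0.1]
    · exact h4
    · exact h5)
  exact ⟨i, hi, e⟩

/-- the action of the normaliser of `Z8` on the five conjugates of `V` containing `Z8` -/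
structure Pent (h : HM2 z) (φ : h.NZ8 →* Equiv.Perm (Fin 5)) : Prop where
  ker : ∀ n : h.NZ8, (n : G) ∈ h.CZ → (φ n = 1 ↔ (n : G) ∈ h.L15)
  mem_M : ∀ n : h.NZ8, φ n = 1 → (n : G) ∈ normalizer (h.VV : Set G)
  surj : ∀ σ, ∃ n : h.NZ8, (n : G) ∈ h.CZ ∧ φ n = σ

namespace F5

variable {h : HM2 z} {f t r : G} (d : F5 h f t r)
include d

theorem f_CZ : f ∈ h.CZ := d.rf.mem_CZ (by decide +kernel) (by decide +kernel)

theorem pent_iff {x : G} (hx : x * z = z * x) {i k : ℕ} (hi : i < 5) (hk : k < 5) :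
    (f ^ k)⁻¹ * x * f ^ i ∈ normalizer (h.VV : Set G) ↔ h.θ x • ofMask (oc i) = ofMask (oc k) := by
  have hf := comm_pow d.rf.comm
  rw [h.VV_norm_H _ (comm_mul (comm_mul (comm_inv (hf k)) hx) (hf i)),
    h.θ_mul _ _ (comm_mul (comm_inv (hf k)) hx) (hf i), h.θ_mul _ _ (comm_inv (hf k)) hx,
    h.θ_inv (hf k), h.θ_pow d.rf.comm, h.θ_pow d.rf.comm, d.rf.θ_eq, mul_smul, mul_smul,
    inv_smul_eq_iff, p5_pow hi, p5_pow hk]

theorem pent_cover {n : G} (hn : n ∈ h.NZ8) : ∃ i < 5, (f ^ i)⁻¹ * n ∈ normalizer (h.VV : Set G) := by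
  have hZ : h.Z8 ≤ Tech.cj n h.VV := fun y hy =>
    mem_cj.2 (h.Z8_le_VV (conj_mem_of_mem_normalizer' hn hy))
  have he := h.elem_conjS n
  obtain ⟨g, hg, e⟩ := h.wc.uniq_H (Tech.cj n h.VV) (fun y hy => mem_Cx.2
    (congrArg Subtype.val (he.1.is_comm.comm (⟨y, hy⟩ : Tech.cj n h.VV) ⟨z, hZ h.z_mem_Z8⟩))) he
    (by rw [card_cj, h.VV_card])
  have e' : Tech.cj n h.VV = Tech.cj g h.VV := e
  obtain ⟨i, hi, h1⟩ := h.exists_oc hg (mem_cj.1 (e' ▸ hZ (h.s_mem_Z8 (by decide))))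
  rw [← oc_zero, ← d.pent_iff hg (by norm_num) hi, pow_zero, mul_one] at h1
  have h2 : g⁻¹ * n ∈ normalizer (h.VV : Set G) := by
    rw [mem_normalizer_iff_cj, cj_mul, e', cj_inv_cj]
  exact ⟨i, hi, by simpa [mul_assoc] using mul_mem h1 h2⟩

theorem exists_pent : ∃ φ, Pent h φ := by
  classical
  let M0 := (normalizer (h.VV : Set G)).subgroupOf h.NZ8
  let F : h.NZ8 := ⟨f, h.CZ_le_NZ8 d.f_CZ⟩
  let e0 : Fin 5 → h.NZ8 ⧸ M0 := fun i => QuotientGroup.mk (F ^ (i : ℕ))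
  have hb : Function.Bijective e0 := by
    constructor
    · intro i k e
      have h1 : (f ^ (i : ℕ))⁻¹ * 1 * f ^ (k : ℕ) ∈ normalizer (h.VV : Set G) := by
        rw [mul_one]; exact (QuotientGroup.eq (s := M0)).1 e
      rw [d.pent_iff (by simp) k.2 i.2, h.θ_one, one_smul] at h1
      exact Fin.ext (oc_inj k.2 i.2 h1).symm
    · intro q
      obtain ⟨n, rfl⟩ := QuotientGroup.mk_surjective q
      obtain ⟨i, hi, h1⟩ := d.pent_cover n.2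
      exact ⟨⟨i, hi⟩, QuotientGroup.eq.2 h1⟩
  let e := Equiv.ofBijective e0 hb
  let φ := e.symm.permCongrHom.toMonoidHom.comp (MulAction.toPermHom h.NZ8 (h.NZ8 ⧸ M0))
  have hφ : ∀ (n : h.NZ8) (i k : Fin 5), φ n i = k ↔
      (f ^ (k : ℕ))⁻¹ * n * f ^ (i : ℕ) ∈ normalizer (h.VV : Set G) := fun n i k => by
    show e.symm (n • e0 i) = k ↔ _
    rw [Equiv.symm_apply_eq, eq_comm, mul_assoc]
    exact QuotientGroup.eq
  have hφ' : ∀ n : h.NZ8, (n : G) ∈ h.CZ → ∀ i k : Fin 5,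
      (φ n i = k ↔ h.θ n • ofMask (oc i) = ofMask (oc k)) := fun n hn i k => by
    rw [hφ, d.pent_iff (h.CZ_z hn) i.2 k.2]
  refine ⟨φ, fun n hn => ⟨fun h1 => ⟨hn, fun i hi => (hφ' n hn ⟨i, hi⟩ ⟨i, hi⟩).1 (by rw [h1]; rfl)⟩,
    fun h1 => Equiv.ext fun i => (hφ' n hn i i).2 (h1.2 i i.2)⟩, fun n h1 => ?_, fun σ => ?_⟩
  · simpa using (hφ n 0 0).1 (by rw [h1]; rfl)
  · let H := (h.CZ.subgroupOf h.NZ8).map φ
    obtain ⟨k, hk⟩ := h.exists_rk chkL_pT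
    have hkC : k ∈ h.CZ := hk.mem_CZ (by decide +kernel) (by decide +kernel)
    have h1 : φ ⟨k, h.CZ_le_NZ8 hkC⟩ = Equiv.swap 0 1 := Equiv.ext fun i => by
      rw [hφ' _ hkC, hk.θ_eq, pT_oc i.2]
      revert i
      decide +kernel
    have h2 : orderOf (φ F) = 5 := by
      have : Fact (Nat.Prime 5) := ⟨by norm_num⟩
      refine orderOf_eq_prime (by rw [← map_pow, show F ^ 5 = 1 from Subtype.ext d.f5, map_one]) fun e => ?_
      have h3 := (hφ' F d.f_CZ 0 0).1 (by rw [e]; rfl)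
      have h4 := p5_pow (i := 1) (by norm_num)
      rw [pow_one, ← oc_zero, ← d.rf.θ_eq] at h4
      exact absurd (oc_inj (by norm_num) (by norm_num) (h3.symm.trans h4)) (by norm_num)
    have h3 : H = ⊤ := Equiv.Perm.subgroup_eq_top_of_swap_mem (τ := Equiv.swap 0 1)
      (by rw [Fintype.card_fin]; norm_num) (by
        rw [Fintype.card_fin, ← Nat.card_eq_fintype_card]
        exact h2.symm.dvd.trans (Subgroup.orderOf_dvd_natCard H ⟨F, d.f_CZ, rfl⟩))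
      ⟨⟨k, h.CZ_le_NZ8 hkC⟩, hkC, h1⟩ ⟨0, 1, by decide, rfl⟩
    obtain ⟨n, h4, h5⟩ : σ ∈ H := h3 ▸ mem_top σ
    exact ⟨n, h4, h5⟩

end F5

/-- `SL3(2)` -/
abbrev S7.SL32 : Type := Matrix.SpecialLinearGroup (Fin 3) (ZMod 2)

theorem S7.toGL_bij : Function.Bijective
    (Matrix.SpecialLinearGroup.toGL : SL32 →* GL (Fin 3) (ZMod 2)) :=
  ⟨Matrix.SpecialLinearGroup.toGL_injective, fun A => ⟨⟨A, (by decide : ∀ x : ZMod 2, x ≠ 0 → x = 1)
    _ A.det_ne_zero⟩, Units.ext rfl⟩⟩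

theorem S7.card_SL32 : Nat.card SL32 = 168 := by
  rw [Nat.card_congr (Equiv.ofBijective _ toGL_bij), Matrix.card_GL_field]
  simp [Fin.prod_univ_three]

theorem HM.exists_autZ (h : HM z) : ∃ χ : h.NZ8 →* SL32, ∀ n, χ n = 1 ↔ (n : G) ∈ h.CZ := by
  have : IsMulCommutative h.Z8 := ⟨⟨fun a b => Subtype.ext (h.Z8_comm a.2 b.2)⟩⟩
  obtain ⟨f, hf⟩ := InvChar.exists_mulAut_hom_GL (V := h.Z8) (p := 2) (n := 3)
    (fun x => Subtype.ext (by rw [sq]; exact h.Z8_sq x.2)) h.card_Z8.le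
  refine ⟨(MulEquiv.ofBijective _ toGL_bij).symm.toMonoidHom.comp
    (f.comp h.Z8.normalizerMonoidHom), fun n => ?_⟩
  rw [MonoidHom.comp_apply, MonoidHom.comp_apply, MulEquiv.coe_toMonoidHom, map_eq_one_iff _
    (MulEquiv.injective _), map_eq_one_iff f hf, ← MonoidHom.mem_ker, normalizerMonoidHom_ker,
    mem_subgroupOf]

namespace JM

variable (j : JM z)

theorem zM_mem {m : ℕ} (hm : m ∈ zM) : Even (ofMask m).card ∧ j.c (ofMask m) ∈ j.Z8 := by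
  obtain ⟨w, hw, a, ha, hw', rfl⟩ := (by decide +kernel : ∀ m ∈ zM, ∃ w ∈ ({0, 1, 8, 9} : Finset ℕ),
    ∃ a < 2, w < 64 ∧ m = sm w ^^^ lm 0 ^^^ a * 15) m hm
  obtain ⟨h1, h2⟩ := j.v_eq hw' (x := 0) (by norm_num) ha
  rw [j.l_zero, mul_one] at h2
  exact ⟨h1, h2 ▸ j.sz_mem_Z8 hw a⟩

theorem exists_zM {y : G} (hy : y ∈ j.Z8) : ∃ m ∈ zM, y = j.c (ofMask m) := by
  obtain ⟨w, hw, a, ha, rfl⟩ := hy
  obtain ⟨hw', hm⟩ := (by decide +kernel : ∀ w ∈ ({0, 1, 8, 9} : Finset ℕ), ∀ a < 2,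
    w < 64 ∧ sm w ^^^ lm 0 ^^^ a * 15 ∈ zM) w hw a ha
  obtain ⟨-, h2⟩ := j.v_eq hw' (x := 0) (by norm_num) ha
  rw [j.l_zero, mul_one] at h2
  exact ⟨_, hm, h2⟩

theorem zG_mem {m : ℕ} (hm : m ∈ zG) : Even (ofMask m).card ∧ j.c (ofMask m) ∈ j.Z8 :=
  j.zM_mem ((by decide : ∀ m ∈ zG, m ∈ zM) m hm)

theorem Z8_le_of' {D : Subgroup G} (h : ∀ m ∈ zG, j.c (ofMask m) ∈ D) : j.Z8 ≤ D :=
  j.Z8_le_of (j.z_eq ▸ h 15 (by decide)) (j.link_s 1 (by norm_num) ▸ h _ (by decide +kernel))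
    (j.link_s 8 (by norm_num) ▸ h _ (by decide +kernel))

theorem mem_NZ8_iff {x : G} (hx : x ∈ normalizer (j.V : Set G)) : x ∈ j.NZ8 ↔ NZ (j.toMM.ψ x) := by
  constructor
  · intro h m hm
    obtain ⟨h1, h2⟩ := j.zG_mem hm
    obtain ⟨m', hm', e⟩ := j.exists_zM (conj_mem_of_mem_normalizer h h2)
    rw [j.toMM.ψ_act hx h1, j.toMM.c_eq_iff (ev_smul _ h1) (j.zM_mem hm').1] at e
    exact ⟨m', hm', e⟩
  · intro h
    refine mem_normalizer_of_forall fun y hy => ?_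
    have := j.Z8_le_of' (D := Tech.cj x⁻¹ j.Z8) (fun m hm => by
      obtain ⟨m', hm', e⟩ := h m hm
      have h1 := (j.zG_mem hm).1
      rw [mem_cj, inv_inv, j.toMM.ψ_act hx h1, (j.toMM.c_eq_iff (ev_smul _ h1) (j.zM_mem hm').1).2 e]
      exact (j.zM_mem hm').2) hy
    rwa [mem_cj, inv_inv] at this

theorem κ_mem_NZ8 {g : M24} (hg : g ∈ KL) : j.κ g ∈ j.NZ8 :=
  (j.mem_NZ8_iff (j.toMM.κ_mem_M g)).2 (by rw [j.toMM.ψ_κ]; exact (KL_spec hg).1)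

theorem eq_one_of_κ_mem_CZ {g : M24} (hg : g ∈ KL) (h : j.κ g ∈ j.CZ) : g = 1 :=
  (KL_spec hg).2 fun m hm => by
    have := (j.toMM.comm_iff (j.toMM.κ_mem_M g) (j.zG_mem hm).1).1 (h _ (j.zG_mem hm).2).symm
    rwa [j.toMM.ψ_κ] at this

/-- the embedding of `KL = L3(2)` in the normaliser of `Z8` -/
def κL : KL →* j.NZ8 := (j.κ.comp KL.subtype).codRestrict _ fun g => j.κ_mem_NZ8 g.2

theorem κL_bij {χ : j.NZ8 →* SL32} (hχ : ∀ n, χ n = 1 ↔ (n : G) ∈ j.CZ) :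
    Function.Bijective (χ.comp j.κL) := by
  refine (Nat.bijective_iff_injective_and_card _).2 ⟨(injective_iff_map_eq_one _).2 fun g hg =>
    Subtype.ext (j.eq_one_of_κ_mem_CZ g.2 ((hχ _).1 hg)), by rw [card_KL, card_SL32]⟩

end JM

end CfsgLib.J4T
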