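import Mathlib
import Cfsg.Agent.Lib.J4T.Seven4
import Cfsg.Agent.Lib.Coprime.Action
import Cfsg.Agent.Lib.Tech.Invol

/-!
# Groups of Janko-four type: the centraliser and the normaliser of a subgroup of order 7
-/

set_option autoImplicit false
set_option linter.unusedSectionVars false

namespace CfsgLib.J4T

open Cfsg CfsgLib.Golay CfsgLib.M24E CfsgLib.Tech CfsgLib.W2 Subgroup S7 Equiv
open scoped Pointwise commutatorElement

namespace S7

theorem s5_inv : ∀ w : Perm (Fin 5), w * w = 1 → w = 1 ∨ (∃ h : Perm (Fin 5), h * swap 0 1 * h⁻¹ = w) ∨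
    ∃ h : Perm (Fin 5), h * (swap 0 1 * swap 2 3) * h⁻¹ = w := by decide +kernel

theorem s5_card (w : Perm (Fin 5)) :
    Nat.card (Cx w) = (Finset.univ.filter fun g : Perm (Fin 5) => g * w = w * g).card := by
  rw [← Fintype.card_subtype, ← Nat.card_eq_fintype_card]
  exact Nat.card_congr (Equiv.subtypeEquivRight fun _ => mem_Cx)

theorem s5_card_a : Nat.card (Cx (swap 0 1 : Perm (Fin 5))) = 12 := by
  rw [s5_card]; decide +kernel

theorem s5_card_b : Nat.card (Cx (swap 0 1 * swap 2 3 : Perm (Fin 5))) = 8 := by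
  rw [s5_card]; decide +kernel

theorem card_s5 : Nat.card (Perm (Fin 5)) = 120 := by
  rw [Nat.card_perm, Nat.card_fin]; rfl

variable {G : Type*} [Group G] [Finite G]

theorem cx_le_norm (u : G) : Cx u ≤ normalizer (zpowers u : Set G) :=
  (cent_zpowers u).ge.trans (centralizer_le_normalizer _)

theorem cent_eq {u z : G} (hu : orderOf u = 7) (hz : orderOf z = 2) {I : Subgroup G} (hI : I ≤ Cx u)
    (e : I ≃* Perm (Fin 5)) (hc : ∀ w, orderOf w = 2 → u * w = w * u →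
      (IsConj z w ∧ Nat.card (Cx w ⊓ Cx u : Subgroup G) ∣ 84) ∨
      (¬ IsConj z w ∧ Nat.card (Cx w ⊓ Cx u : Subgroup G) ∣ 56)) :
    zpowers u ⊓ I = ⊥ ∧ zpowers u ⊔ I = Cx u ∧
      ∃ a ∈ I, IsConj z a ∧ ∀ w ∈ Cx u, IsConj z w → ∃ y ∈ I, y * a * y⁻¹ = w := by
  have hcI : Nat.card I = 120 := (Nat.card_congr e.toEquiv).trans card_s5
  have hd : zpowers u ⊓ I = ⊥ := eq_bot_iff.2 fun x hx => Coprime.eq_one_of_mem_of_coprime
    (by rw [Nat.card_zpowers, hu, hcI]; norm_num) hx.1 hx.2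
  have huu : zpowers u ≤ Cx u := zpowers_le.2 (mem_Cx.2 rfl)
  have hinv : ∀ w ∈ zpowers u ⊔ I, w * w = 1 → w ∈ I := fun w hw h2 => by
    obtain ⟨k, hk, a, ha, rfl⟩ := (Coprime.mem_sup_iff_of_le_normalizer (hI.trans (cx_le_norm u))).1 hw
    have h1 : a * k = k * a := mem_Cx.1 (cx_le_of_mem hk (hI ha))
    have h3 : k * k = (a * a)⁻¹ := by
      rw [eq_inv_iff_mul_eq_one, ← h2, mul_assoc k a, ← mul_assoc a k, h1]; group
    have h4 : k * k = 1 := mem_bot.1 (hd ▸ mem_inf.2 ⟨mul_mem hk hk, h3 ▸ inv_mem (mul_mem ha ha)⟩)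
    have h5 : k = 1 := by
      by_contra h6
      have := orderOf_dvd_natCard _ hk
      rw [ord_two h4 h6, Nat.card_zpowers, hu] at this
      exact absurd this (by norm_num)
    rwa [h5, one_mul]
  have key : ∀ w : I, 7 * Nat.card (Cx (e w)) ∣ Nat.card (Cx (w : G) ⊓ Cx u : Subgroup G) ∧
      (Nat.card (Cx (w : G) ⊓ Cx u : Subgroup G) ≤ 7 * Nat.card (Cx (e w)) →
        Cx u ⊓ Cx (w : G) ≤ zpowers u ⊔ I) := fun w => by
    have h1 : Nat.card (I ⊓ Cx (w : G) : Subgroup G) = Nat.card (Cx (e w)) := Nat.card_congr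
      { toFun := fun x => ⟨e ⟨x.1, x.2.1⟩, mem_Cx.2 (by
          rw [← map_mul, ← map_mul]; exact congrArg e (Subtype.ext (mem_Cx.1 x.2.2)))⟩
        invFun := fun y => ⟨e.symm y.1, (e.symm y.1).2, mem_Cx.2 (congrArg Subtype.val (e.injective (by
          rw [map_mul, map_mul, e.apply_symm_apply]; exact mem_Cx.1 y.2) :
            e.symm y.1 * w = w * e.symm y.1))⟩
        left_inv := fun x => Subtype.ext (by simp)
        right_inv := fun y => Subtype.ext (by simp) }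
    have h2 : Nat.card (zpowers u ⊔ I ⊓ Cx (w : G) : Subgroup G) = 7 * Nat.card (Cx (e w)) := by
      rw [Coprime.card_sup_of_le_normalizer (inf_le_left.trans (hI.trans (cx_le_norm u)))
        (eq_bot_iff.2 ((inf_le_inf_left _ inf_le_left).trans hd.le)), Nat.card_zpowers, hu, h1]
    have h3 : zpowers u ⊔ I ⊓ Cx (w : G) ≤ Cx (w : G) ⊓ Cx u :=
      sup_le (le_inf (zpowers_le.2 (Cx_comm.1 (hI w.2))) huu) (le_inf inf_le_right (inf_le_left.trans hI))
    refine ⟨h2 ▸ card_dvd_of_le h3, fun h4 => ?_⟩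
    rw [inf_comm, ← eq_of_le_of_card_ge h3 (h2 ▸ h4)]
    exact sup_le_sup_left inf_le_left _
  have H1 : ∀ w : I, orderOf (w : G) = 2 → Nat.card (Cx (e w)) = 12 →
      IsConj z w ∧ Cx u ⊓ Cx (w : G) ≤ zpowers u ⊔ I := fun w hw h => by
    obtain ⟨h1, h2⟩ := key w
    rw [h] at h1 h2
    rcases hc w hw (mem_Cx.1 (hI w.2)).symm with h3 | h3
    · exact ⟨h3.1, h2 (Nat.le_of_dvd (by norm_num) h3.2)⟩
    · exact absurd (h1.trans h3.2) (by norm_num)
  have H2 : ∀ w : I, orderOf (w : G) = 2 → Nat.card (Cx (e w)) = 8 →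
      ¬ IsConj z w ∧ Cx u ⊓ Cx (w : G) ≤ zpowers u ⊔ I := fun w hw h => by
    obtain ⟨h1, h2⟩ := key w
    rw [h] at h1 h2
    rcases hc w hw (mem_Cx.1 (hI w.2)).symm with h3 | h3
    · exact absurd (h1.trans h3.2) (by norm_num)
    · exact ⟨h3.1, h2 (Nat.le_of_dvd (by norm_num) h3.2)⟩
  obtain ⟨a, ha⟩ := e.surjective (swap 0 1)
  obtain ⟨b, hb⟩ := e.surjective (swap 0 1 * swap 2 3)
  have ho : ∀ w : I, e w * e w = 1 → e w ≠ 1 → orderOf (w : G) = 2 := fun w h1 h2 =>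
    ord_two (congrArg Subtype.val (e.injective (by rw [map_mul, h1, map_one]) : w * w = 1))
      fun h => h2 (by rw [show w = 1 from Subtype.ext h, map_one])
  have ha2 := ho a (by rw [ha]; decide) (by rw [ha]; decide)
  have hb2 := ho b (by rw [hb]; decide) (by rw [hb]; decide)
  have hA := (H1 a ha2 (ha ▸ s5_card_a)).1
  have hB := (H2 b hb2 (hb ▸ s5_card_b)).1
  have cls : ∀ w ∈ zpowers u ⊔ I, orderOf w = 2 → Cx u ⊓ Cx w ≤ zpowers u ⊔ I ∧
      ((IsConj z w ∧ ∃ y ∈ I, y * a * y⁻¹ = w) ∨ (¬ IsConj z w ∧ ∃ y ∈ I, y * b * y⁻¹ = w)) := by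
    intro w hw h2
    have hwI := hinv w hw (sq_of_ord h2)
    rcases s5_inv (e ⟨w, hwI⟩) (by
      rw [← map_mul, show (⟨w, hwI⟩ : I) * ⟨w, hwI⟩ = 1 from Subtype.ext (sq_of_ord h2), map_one])
      with h | ⟨g, h⟩ | ⟨g, h⟩
    · exact absurd (congrArg Subtype.val ((map_eq_one_iff e e.injective).1 h)) (ne_one_of_ord h2)
    · obtain ⟨y, rfl⟩ := e.surjective g
      have h3 := H1 ⟨w, hwI⟩ h2 (by rw [← h, ← cj_Cx, card_cj, s5_card_a])
      rw [← ha, ← map_inv, ← map_mul, ← map_mul] at h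
      exact ⟨h3.2, Or.inl ⟨h3.1, y, y.2, congrArg Subtype.val (e.injective h)⟩⟩
    · obtain ⟨y, rfl⟩ := e.surjective g
      have h3 := H2 ⟨w, hwI⟩ h2 (by rw [← h, ← cj_Cx, card_cj, s5_card_b])
      rw [← hb, ← map_inv, ← map_mul, ← map_mul] at h
      exact ⟨h3.2, Or.inr ⟨h3.1, y, y.2, congrArg Subtype.val (e.injective h)⟩⟩
  have hle : Cx u ≤ zpowers u ⊔ I := le_of_two_classes ha2 hb2 (hI a.2) (hI b.2)
    (mem_sup_right b.2) (mem_sup_right a.2) (fun k _ h => hB (hA.trans (isConj_iff.2 ⟨k, h⟩)))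
    (fun w _ hw h2 => (cls w hw h2).1) fun k _ h => by
      rcases (cls _ h ((ord_conj k b).trans hb2)).2 with h1 | ⟨-, y, hy, h1⟩
      · exact absurd (h1.1.trans (isConj_iff.2 ⟨k, rfl⟩).symm) hB
      · exact ⟨y, hI hy, mem_sup_right hy, h1⟩
  refine ⟨hd, le_antisymm (sup_le huu hI) hle, a, a.2, hA, fun w hw h => ?_⟩
  obtain ⟨g, rfl⟩ := isConj_iff.1 h
  exact ((cls _ (hle hw) ((ord_conj g z).trans hz)).2.resolve_right fun h1 => h1.1 h).2

theorem orderOf_N3 : orderOf N3 = 3 := by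
  rw [← Subgroup.orderOf_coe]
  exact orderOf_pm (by norm_num) isM_n3 (by decide +kernel) (by decide +kernel)

/-- the normaliser of a group of order 7 whose generator is not real -/
theorem norm_seven {u ν : G} (hu : orderOf u = 7) (hν : orderOf ν = 3) (h2 : ν * u * ν⁻¹ = u ^ 2)
    (hr : ∀ n : G, n * u * n⁻¹ ≠ u⁻¹) : normalizer (zpowers u : Set G) = Cx u ⊔ zpowers ν ∧
      Nat.card (normalizer (zpowers u : Set G)) = 3 * Nat.card (Cx u) := by
  classical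
  have h7 : u ^ 7 = 1 := hu ▸ pow_orderOf_eq_one u
  have h1 : u ≠ 1 := fun h => by rw [h, orderOf_one] at hu; exact absurd hu (by norm_num)
  have hν' : zpowers ν ≤ normalizer (zpowers u : Set G) :=
    zpowers_le.2 (mem_normalizer_of_cj_le (by
      rw [cj_zpowers, h2]; exact zpowers_le.2 (pow_mem (mem_zpowers u) 2)))
  have h4 : ν * ν * u * (ν * ν)⁻¹ = u ^ 4 := by
    rw [show ν * ν * u * (ν * ν)⁻¹ = ν * (ν * u * ν⁻¹) * ν⁻¹ by group, h2, ← conj_pow, h2, ← pow_mul]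
  have h6 : u ^ 6 = u⁻¹ := eq_inv_of_mul_eq_one_left (by rw [← pow_succ, h7])
  have hmul : ∀ (a n : G) (i k : ℕ), a * u * a⁻¹ = u ^ i → n * u * n⁻¹ = u ^ k →
      a * n * u * (a * n)⁻¹ = u ^ (i * k) := fun a n i k e1 e2 => by
    rw [show a * n * u * (a * n)⁻¹ = a * (n * u * n⁻¹) * a⁻¹ by group, e2, ← conj_pow, e1, ← pow_mul]
  have hsup : ∀ a ∈ zpowers ν, ∀ n : G, a * n * u * (a * n)⁻¹ = u ^ 8 → n ∈ Cx u ⊔ zpowers ν :=
    fun a ha n e => by
      rw [pow_succ, h7, one_mul] at e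
      simpa using mul_mem (mem_sup_right (inv_mem ha) : a⁻¹ ∈ Cx u ⊔ zpowers ν)
        (mem_sup_left (mem_Cx'.2 e))
  have hνν : ν * ν ∈ zpowers ν := mul_mem (mem_zpowers ν) (mem_zpowers ν)
  have e : normalizer (zpowers u : Set G) = Cx u ⊔ zpowers ν := by
    refine le_antisymm (fun n hn => ?_) (sup_le (cx_le_norm u) hν')
    obtain ⟨k, hk, e⟩ := Finset.mem_image.1 (mem_zpowers_iff_mem_range_orderOf.1
      (conj_mem_of_mem_normalizer hn (mem_zpowers u)))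
    rw [hu, Finset.mem_range] at hk
    replace e := e.symm
    interval_cases k
    · exact absurd (by simpa using e) h1
    · exact mem_sup_left (mem_Cx'.2 (by rw [e, pow_one]))
    · exact hsup _ hνν n (hmul _ _ _ _ h4 e)
    · exact absurd ((hmul _ _ _ _ h2 e).trans h6) (hr _)
    · exact hsup _ (mem_zpowers ν) n (hmul _ _ _ _ h2 e)
    · refine absurd ((hmul _ _ _ _ h4 e).trans ?_) (hr _)
      rw [show 4 * 5 = 7 * 2 + 6 from rfl, pow_add, pow_mul, h7, one_pow, one_mul, h6]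
    · exact absurd (e.trans h6) (hr _)
  refine ⟨e, ?_⟩
  rw [e, Coprime.card_sup_of_le_normalizer (by
    rw [← cent_zpowers]; exact Coprime.le_normalizer_centralizer hν') (eq_bot_iff.2 fun y hy => by
      by_contra h3
      have h5 : ν ∈ Cx u := (zpowers_le.2 hy.1)
        (zpowers_eq_of_prime Nat.prime_three hν hy.2 h3 ▸ mem_zpowers ν)
      rw [mem_Cx'.1 h5, sq, left_eq_mul] at h2
      exact h1 h2), Nat.card_zpowers, hν, mul_comm]

end S7

variable {G : Type*} [Group G] [Finite G] {z : G}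

namespace JM

variable (j : JM z)

/-- an element of order 7 normalising `Z8` -/
noncomputable def u7 : G := j.κ G7

theorem u7_ord : orderOf j.u7 = 7 := (orderOf_injective j.κ j.toMM.κ_inj G7).trans orderOf_G7

theorem u7_mem : j.u7 ∈ j.NZ8 := j.κ_mem_NZ8 G7_mem

theorem pent_u7 (φ : j.NZ8 →* Perm (Fin 5)) {n : j.NZ8} (hn : (n : G) ∈ zpowers j.u7) : φ n = 1 := by
  have h1 := orderOf_dvd_natCard (φ n)
  have h2 := (orderOf_map_dvd φ n).trans ((Subgroup.orderOf_coe n).symm.dvd.trans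
    (Subgroup.orderOf_dvd_natCard _ hn))
  rw [Nat.card_zpowers, j.u7_ord] at h2
  rw [card_s5] at h1
  exact orderOf_eq_one_iff.1 (Nat.eq_one_of_dvd_coprimes (by norm_num) h2 h1)

variable {j}

theorem Good.exists_I (hj : j.Good) {φ : j.NZ8 →* Perm (Fin 5)} (hφ : Pent j.toHM2 φ) :
    j.L15 ⊓ Cx j.u7 = ⊥ ∧ Nonempty ((j.CZ ⊓ Cx j.u7 : Subgroup G) ≃* Perm (Fin 5)) := by
  have hle : j.CZ ⊓ Cx j.u7 ≤ j.NZ8 := inf_le_left.trans j.CZ_le_NZ8
  let F := φ.comp (inclusion hle)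
  have hs : Function.Surjective F := fun σ => by
    obtain ⟨n, hn, rfl⟩ := hφ.surj σ
    obtain ⟨a, ha, c, hc, e⟩ := Coprime.exists_mul_centralizer_of_commutator_le (A := zpowers j.u7)
      j.L15_le_CZ (commutator_le.2 fun x hx y hy => by
        have hy' : y ∈ j.NZ8 := (zpowers_le.2 j.u7_mem) hy
        have h1 : ⁅x, y⁆ ∈ j.CZ := by
          rw [commutatorElement_def, mul_assoc, mul_assoc, ← mul_assoc y]
          exact mul_mem hx (j.conj_mem_CZ hy' (inv_mem hx))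
        refine (hφ.ker ⁅(⟨x, j.CZ_le_NZ8 hx⟩ : j.NZ8), ⟨y, hy'⟩⁆ h1).1 ?_
        rw [map_commutatorElement, j.pent_u7 φ (n := ⟨y, hy'⟩) hy, commutatorElement_one_right])
      (by rw [Nat.card_zpowers, j.u7_ord, j.card_L15]; norm_num)
      (Or.inl (Coprime.isSolvable_zpowers _)) hn
    rw [cent_zpowers] at hc
    refine ⟨⟨c, hc⟩, ?_⟩
    have h2 : n = ⟨a, j.CZ_le_NZ8 ha.1⟩ * ⟨c, hle hc⟩ := Subtype.ext e
    rw [h2, map_mul, (hφ.ker _ ha.1).2 ha, one_mul]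
    rfl
  have hk : ∀ x, F x = 1 ↔ (x : G) ∈ j.L15 := fun x => hφ.ker _ x.2.1
  have hb : j.L15 ⊓ Cx j.u7 = ⊥ := by
    by_contra hne
    obtain ⟨w, hw, hw2⟩ := exists_involution_of_pgroup (j.isPGroup_L15.to_le inf_le_left) hne
    have h1 := F.ker.card_mul_index
    rw [index_ker, MonoidHom.range_eq_top.2 hs, card_top, card_s5] at h1
    obtain ⟨c, hc⟩ : Even (Nat.card F.ker) := even_card_of_involution
      (x := ⟨w, hw.1.1, hw.2⟩) ((hk _).2 hw.1) (by rw [← Subgroup.orderOf_coe]; exact hw2)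
    obtain ⟨T, hT⟩ := exists_isSylowIn 2 (j.CZ ⊓ Cx j.u7)
    have h16 : 2 ^ 4 ∣ Nat.card T := by
      rw [hT.card_eq_pow]
      exact pow_dvd_pow 2 ((Nat.prime_two.pow_dvd_iff_le_factorization Nat.card_pos.ne').1
        ⟨c * 15, by rw [← h1, hc]; ring⟩)
    obtain ⟨y, hy, hy2, h3⟩ := exists_mem_center_of_normalized hT.pgroup le_rfl le_normalizer
      (fun h => by rw [h, card_bot] at h16; exact absurd h16 (by norm_num))
    have h4 := h16.trans (card_dvd_of_le (show T ≤ Cx y ⊓ Cx j.u7 from fun x hx =>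
      ⟨mem_Cx.2 (h3 x hx), (hT.le hx).2⟩))
    rcases hj.card_cent_seven hy2 j.u7_ord (mem_Cx.1 (hT.le hy).2).symm with h | h
    exacts [absurd (h4.trans h.2) (by norm_num), absurd (h4.trans h.2) (by norm_num)]
  exact ⟨hb, ⟨MulEquiv.ofBijective F ⟨(injective_iff_map_eq_one F).2 fun x hx =>
    Subtype.ext (mem_bot.1 (hb ▸ mem_inf.2 ⟨(hk x).1 hx, x.2.2⟩)), hs⟩⟩⟩

theorem Good.seven (hj : j.Good) : j.L15 ⊓ Cx j.u7 = ⊥ ∧
    Nonempty ((j.CZ ⊓ Cx j.u7 : Subgroup G) ≃* Perm (Fin 5)) ∧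
    zpowers j.u7 ⊓ (j.CZ ⊓ Cx j.u7) = ⊥ ∧ zpowers j.u7 ⊔ j.CZ ⊓ Cx j.u7 = Cx j.u7 ∧
    Nat.card (Cx j.u7) = 840 ∧ Nat.card (normalizer (zpowers j.u7 : Set G)) = 2520 ∧
    normalizer (zpowers j.u7 : Set G) ≤ j.NZ8 := by
  obtain ⟨f, t, r, d⟩ := j.toHM2.exists_F5
  obtain ⟨φ, hφ⟩ := d.exists_pent
  obtain ⟨h1, ⟨e⟩⟩ := hj.exists_I hφ
  obtain ⟨h2, h3, a, ha, hA, h4⟩ := cent_eq j.u7_ord j.orderOf_z inf_le_right e
    fun w hw hc => hj.card_cent_seven hw j.u7_ord hc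
  have h5 : Nat.card (Cx j.u7) = 840 := by
    rw [← h3, Coprime.card_sup_of_le_normalizer (inf_le_right.trans (cx_le_norm _)) h2,
      Nat.card_zpowers, j.u7_ord, Nat.card_congr e.toEquiv, card_s5]
  obtain ⟨h6, h7⟩ := norm_seven j.u7_ord ((orderOf_injective j.κ j.toMM.κ_inj N3).trans orderOf_N3)
    (by rw [u7, ← map_inv, ← map_mul, ← map_mul, N3_G7, map_pow]) (fun n hn => by
      obtain ⟨y, hy, e⟩ := h4 (n * a * n⁻¹) (by
        have := (conj_mem_Cx (g := n)).2 ha.2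
        rwa [hn, cx_eq_of_zpowers zpowers_inv] at this) (hA.trans (isConj_iff.2 ⟨n, rfl⟩))
      refine j.not_real7' hA (mem_Cx.1 ha.2).symm j.u7_ord (n := y⁻¹ * n) ?_ ?_
      · calc y⁻¹ * n * a = y⁻¹ * (n * a * n⁻¹) * n := by group
          _ = _ := by rw [← e]; group
      · have := mem_Cx.1 hy.2
        calc _ = y⁻¹ * (n * j.u7 * n⁻¹) * y := by group
          _ = (y⁻¹ * (j.u7 * y))⁻¹ := by rw [hn]; group
          _ = _ := by rw [← this]; group)
  refine ⟨h1, ⟨e⟩, h2, h3, h5, by rw [h7, h5], ?_⟩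
  rw [h6, ← h3]
  exact sup_le (sup_le (zpowers_le.2 j.u7_mem) (inf_le_left.trans j.CZ_le_NZ8))
    (zpowers_le.2 (j.κ_mem_NZ8 N3_mem))

theorem Good.sylow7 (hj : j.Good) : IsSylowIn 7 (zpowers j.u7) ⊤ :=
  haveI : Fact (Nat.Prime 7) := ⟨by norm_num⟩
  isSylowIn_of_isSylowIn_normalizer le_top (sylowIn_zpowers j.u7_ord
    ⟨mem_top _, le_normalizer (mem_zpowers _)⟩ (by rw [top_inf_eq, hj.seven.2.2.2.2.2.1]; norm_num))

theorem Good.conj7 (hj : j.Good) {S : Subgroup G} (hS : Nat.card S = 7) :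
    ∃ g, Tech.cj g (zpowers j.u7) = S := by
  have : Fact (Nat.Prime 7) := ⟨by norm_num⟩
  obtain ⟨g, -, h⟩ := hj.sylow7.exists_cj_eq (hj.sylow7.of_card_le (Q := S)
    (IsPGroup.of_card (n := 1) (by rw [hS, pow_one])) le_top (by rw [Nat.card_zpowers, j.u7_ord, hS]))
  exact ⟨g, h⟩

theorem Good.cent7 (hj : j.Good) :
    ∀ x : G, orderOf x = 7 → Nat.card (centralizer ({x} : Set G)) = 840 := fun x hx => by
  obtain ⟨g, h⟩ := hj.conj7 (S := zpowers x) (by rw [Nat.card_zpowers, hx])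
  have := cent_zpowers x
  rw [← h, ← cj_centralizer, cent_zpowers] at this
  exact (congrArg (fun H : Subgroup G => Nat.card H) this).symm.trans
    ((card_cj _ _).trans hj.seven.2.2.2.2.1)

theorem Good.s5573 (hj : j.Good) (S : Subgroup G) (hS : Nat.card S = 7) :
    ¬ (49 ∣ Nat.card G) ∧
    (∃ I : Subgroup G, IsInternalDirectProduct S I (centralizer (S : Set G)) ∧
      Nonempty (I ≃* Perm (Fin 5))) ∧
    Nat.card (normalizer (S : Set G)) = 3 * Nat.card (centralizer (S : Set G)) ∧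
    Nat.card (normalizer (S : Set G)) = 2 ^ 3 * 3 ^ 2 * 5 * 7 := by
  obtain ⟨-, ⟨e⟩, h2, h3, h4, h5, -⟩ := hj.seven
  obtain ⟨g, rfl⟩ := hj.conj7 hS
  rw [← cj_centralizer, ← cj_normalizer, cent_zpowers, card_cj, card_cj, h4, h5]
  refine ⟨fun h => hj.sylow7.not_dvd ?_, ⟨Tech.cj g (j.CZ ⊓ Cx j.u7),
    ⟨cj_mono g (zpowers_le.2 (mem_Cx.2 rfl)), cj_mono g inf_le_right, fun a ha b hb => ?_,
      by rw [← cj_inf, h2, cj_bot], by rw [← cj_sup, h3]⟩, ⟨(cjEquiv g _).symm.trans e⟩⟩, rfl, rfl⟩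
  · have := card_mul_relIndex' (le_top : zpowers j.u7 ≤ ⊤)
    rw [card_top, Nat.card_zpowers, j.u7_ord] at this
    rw [← this] at h
    exact Nat.dvd_of_mul_dvd_mul_left (by norm_num : 0 < 7) h
  · have := mem_Cx.1 (cx_le_of_mem (mem_cj.1 ha) (mem_cj.1 hb).2)
    calc a * b = g * (g⁻¹ * a * g * (g⁻¹ * b * g)) * g⁻¹ := by group
      _ = _ := by rw [← this]; group

end JM

end CfsgLib.J4T
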