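import Mathlib
import Cfsg.Agent.Lib.J4T.ClsTwo
import Cfsg.Agent.Lib.J4T.ClsFive
import Cfsg.Agent.Lib.J4T.Seven5
import Cfsg.Agent.Lib.J4T.Big
import Cfsg.Agent.S1496

/-! # A group of Janko-four type has 62 conjugacy classes -/

set_option autoImplicit false
set_option linter.unusedSectionVars false

namespace CfsgLib.J4T.C62

open Cfsg Subgroup

theorem nc_s5 : NC (⊤ : Subgroup (Equiv.Perm (Fin 5))) Set.univ 7 := by
  have h1 : ∀ i : Fin 7, ∃ g : Equiv.Perm (Fin 5),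
      g.cycleType = (![0, {2}, {3}, {4}, {5}, {2, 2}, {2, 3}] : Fin 7 → Multiset ℕ) i := fun i =>
    (Equiv.Perm.exists_with_cycleType_iff _).2 (by revert i; decide)
  choose f hf using h1
  refine NC.of_fun f (fun _ => trivial) (fun x _ => ?_) fun i j h _ e => ?_
  · suffices h : ∃ i, x.cycleType = (![0, {2}, {3}, {4}, {5}, {2, 2}, {2, 3}] : Fin 7 → Multiset ℕ) i by
      obtain ⟨i, hi⟩ := h
      obtain ⟨c, hc⟩ := isConj_iff.1 (Equiv.Perm.isConj_iff_cycleType_eq.2 ((hf i).trans hi.symm))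
      exact ⟨i, c, mem_top _, hc⟩
    obtain ⟨h2, h3⟩ := (Equiv.Perm.exists_with_cycleType_iff _).1 ⟨x, rfl⟩
    rw [Fintype.card_fin] at h2
    generalize x.cycleType = m at h2 h3
    have h4 := Multiset.card_nsmul_le_sum h3
    rw [smul_eq_mul] at h4
    rcases (by omega : m.card = 0 ∨ m.card = 1 ∨ m.card = 2) with h | h | h
    · exact ⟨0, Multiset.card_eq_zero.1 h⟩
    · obtain ⟨a, rfl⟩ := Multiset.card_eq_one.1 h
      have := h3 a (by simp)
      rw [Multiset.sum_singleton] at h2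
      interval_cases a
      exacts [⟨1, rfl⟩, ⟨2, rfl⟩, ⟨3, rfl⟩, ⟨4, rfl⟩]
    · obtain ⟨a, b, rfl⟩ := Multiset.card_eq_two.1 h
      have := h3 a (by simp)
      have := h3 b (by simp)
      rw [Multiset.insert_eq_cons, Multiset.sum_cons, Multiset.sum_singleton] at h2
      rcases (by omega : (a = 2 ∧ b = 2) ∨ (a = 2 ∧ b = 3) ∨ (a = 3 ∧ b = 2)) with
        ⟨rfl, rfl⟩ | ⟨rfl, rfl⟩ | ⟨rfl, rfl⟩
      exacts [⟨5, rfl⟩, ⟨6, rfl⟩, ⟨6, by decide⟩]
  · have h2 := Equiv.Perm.isConj_iff_cycleType_eq.1 (isConj_iff.2 ⟨h, e⟩)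
    rw [hf, hf] at h2
    clear e
    revert i j
    decide

variable {G : Type*} [Group G] [Finite G] {z : G}

theorem NC.semi {a : G} {U S : Subgroup G} {N n : ℕ} (hU : U ≤ centralizer {a}) (hS : S ≤ centralizer {a})
    (hn : centralizer {a} ≤ normalizer (U : Set G)) (hc : N.Coprime (Nat.card U)) (hN : Nat.card S ∣ N)
    (hcard : Nat.card (centralizer ({a} : Set G)) = Nat.card U * Nat.card S) (h : NC S S n) :
    NC (centralizer {a}) {y | y ^ N = 1 ∧ y * a = a * y} n := by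
  have pS : ∀ s ∈ S, s ^ N = 1 := fun s hs =>
    orderOf_dvd_iff_pow_eq_one.1 ((S.orderOf_dvd_natCard hs).trans hN)
  have pU : ∀ w ∈ U, w ^ N = 1 → w = 1 := fun w hw e =>
    (pow_eq_one_iff_of_coprime hc).1 ⟨e, orderOf_dvd_iff_pow_eq_one.1 (U.orderOf_dvd_natCard hw)⟩
  have h1 : U ⊔ S = centralizer {a} := eq_of_le_of_card_ge (sup_le hU hS) (by
    rw [hcard, Coprime.card_sup_of_le_normalizer (hS.trans hn)
      (eq_bot_iff.2 fun w hw => mem_bot.2 (pU w hw.1 (pS w hw.2)))])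
  have dec : ∀ y ∈ centralizer ({a} : Set G), ∃ w ∈ U, ∃ s ∈ S, w * s = y := fun y hy =>
    (Core.mem_sup_of_le_normalizer_left (hS.trans hn)).1 (h1.ge hy)
  refine h.ctrl hS (fun y hy => ⟨pS y hy, mem_centralizer_singleton_iff.1 (hS hy)⟩) (fun y hy => ?_)
    fun y hy g hg hg' => ?_
  · obtain ⟨w, hw, s, hs, rfl⟩ := dec y (mem_centralizer_singleton_iff.2 hy.2)
    obtain ⟨x, hx, c, hc', e1, e2⟩ := Cfsg.Agent.S1496.result U s (hn (hS hs))
      (hc.coprime_dvd_left (orderOf_dvd_of_pow_eq_one (pS s hs))) w hw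
    have e3 : (c * s) ^ N = 1 := by rw [← e2, conj_pow, hy.1]; simp
    rw [Commute.mul_pow e1, pS s hs, mul_one] at e3
    rw [pU c hc' e3, one_mul] at e2
    exact ⟨s, hs, x⁻¹, inv_mem (hU hx), by rw [inv_inv, mul_assoc, inv_mul_eq_iff_eq_mul, ← mul_inv_eq_iff_eq_mul.1 e2]⟩
  · obtain ⟨w, hw, s, hs, rfl⟩ := dec g hg
    refine ⟨s, hs, ?_⟩
    have r1 : s * y * s⁻¹ ∈ S := mul_mem (mul_mem hs hy) (inv_mem hs)
    have e := pU (w * s * y * (w * s)⁻¹ * (s * y * s⁻¹)⁻¹) (by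
      have := mul_mem hw ((mem_normalizer_iff.1 (hn (hS r1)) _).1 (inv_mem hw))
      convert this using 1
      group) (pS _ (mul_mem hg' (inv_mem r1)))
    exact (mul_inv_eq_one.1 e).symm

theorem InvCent.le_norm {u w : G} {W : Subgroup G} (h : K.InvCent u w W) :
    centralizer {u} ≤ normalizer (W : Set G) := fun g hg =>
  mem_normalizer_fintype (h.norm g (by
    rw [mem_centralizer_singleton_iff.1 hg, mul_inv_cancel_right]; exact mem_zpowers u))

theorem nc_u {h : HM z} {u k : G} {U : Subgroup G} (E : K.Elv h u k U) {N : ℕ} (h24 : 24 ∣ N)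
    (h11 : N.Coprime 11) : NC (centralizer {u}) {y | y ^ N = 1 ∧ y * u = u * y} 7 := by
  have hm : ∀ x < 24, ∀ y < 24, K.mulT x y < 24 := by decide +kernel
  have mul : ∀ x < 24, ∀ y < 24, K.nf h k x * K.nf h k y = K.nf h k (K.mulT x y) := fun x hx y hy =>
    E.uu.nf_mul x (by omega) y (by omega)
  have inj : ∀ x < 24, ∀ y < 24, K.nf h k x = K.nf h k y → x = y := fun x hx y hy =>
    E.uu.nf_inj' x (by omega) y (by omega)
  let S : Subgroup G :=
    { carrier := {g | ∃ x < 24, K.nf h k x = g}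
      mul_mem' := by
        rintro _ _ ⟨x, hx, rfl⟩ ⟨y, hy, rfl⟩
        exact ⟨_, hm x hx y hy, (mul x hx y hy).symm⟩
      one_mem' := ⟨0, by norm_num, K.UU.nf_zero⟩
      inv_mem' := by
        rintro _ ⟨x, hx, rfl⟩
        obtain ⟨y, hy, e⟩ := (by decide +kernel : ∀ x < 24, ∃ y < 24, K.mulT x y = 0) x hx
        exact ⟨y, hy, (inv_eq_of_mul_eq_one_right (by rw [mul x hx y hy, e, K.UU.nf_zero])).symm⟩ }
  have cS : Nat.card S = 24 := by
    refine (Nat.card_congr (Equiv.ofBijective (fun x : Fin 24 => (⟨K.nf h k x, x, x.2, rfl⟩ : S))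
      ⟨fun x y e => Fin.ext (inj _ x.2 _ y.2 (congrArg Subtype.val e)), ?_⟩)).symm.trans (by simp)
    rintro ⟨_, x, hx, rfl⟩
    exact ⟨⟨x, hx⟩, rfl⟩
  refine NC.semi (S := S) E.ic.le ?_ (InvCent.le_norm E.ic) (E.cardU ▸ h11.pow_right 3) (cS ▸ h24)
    (by rw [E.cardC, E.cardU, cS]; norm_num) ?_
  · rintro _ ⟨x, hx, rfl⟩
    exact mem_centralizer_singleton_iff.2 (E.uu.nf_u hx)
  have hr : ∀ i : Fin 7, ![0, 1, 4, 8, 9, 16, 20] i < 24 := by decide
  refine NC.of_fun (fun i => K.nf h k (![0, 1, 4, 8, 9, 16, 20] i)) (fun i => ⟨_, hr i, rfl⟩) ?_ ?_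
  · rintro _ ⟨x, hx, rfl⟩
    obtain ⟨i, y, hy, e⟩ := (by decide +kernel : ∀ x < 24, ∃ i : Fin 7, ∃ y < 24,
      K.mulT y (![0, 1, 4, 8, 9, 16, 20] i) = K.mulT x y) x hx
    exact ⟨i, _, ⟨y, hy, rfl⟩, by rw [mul_inv_eq_iff_eq_mul, mul y hy _ (hr i), mul x hx y hy, e]⟩
  · rintro i j _ ⟨y, hy, rfl⟩ e
    rw [mul_inv_eq_iff_eq_mul, mul y hy _ (hr i), mul _ (hr j) y hy] at e
    exact (by decide +kernel : ∀ i j : Fin 7, ∀ y < 24, K.mulT y (![0, 1, 4, 8, 9, 16, 20] i) =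
      K.mulT (![0, 1, 4, 8, 9, 16, 20] j) y → i = j) i j y hy (inj _ (hm _ hy _ (hr i)) _ (hm _ (hr j) _ hy) e)

theorem nc_uu {u t : G} {O : Subgroup G} (ic : K.InvCent u t O) (ht : orderOf t = 2) (hc : u * t = t * u)
    (cO : Nat.card O = 11 ^ 2) (cC : Nat.card (centralizer ({u} : Set G)) = 242) {N : ℕ} (h2 : 2 ∣ N)
    (h11 : N.Coprime 11) : NC (centralizer {u}) {y | y ^ N = 1 ∧ y * u = u * y} 2 := by
  refine NC.semi (S := zpowers t) ic.le (zpowers_le.2 (mem_centralizer_singleton_iff.2 hc.symm))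
    (InvCent.le_norm ic) (cO ▸ h11.pow_right 2) (by rwa [Nat.card_zpowers, ht])
    (by rw [cC, cO, Nat.card_zpowers, ht]; norm_num) (NC.two (one_mem _) (mem_zpowers t) (fun x hx => ?_) fun g _ e => ?_)
  · obtain ⟨i, hi, rfl⟩ := K.exists_pow_of_mem ht hx
    interval_cases i
    · exact Or.inl ⟨1, one_mem _, by simp⟩
    · exact Or.inr ⟨1, one_mem _, by simp⟩
  · rw [← e] at ht
    simp at ht

theorem conj_into {p : ℕ} (hp : p.Prime) {x : G} (hx : orderOf x = p) (h : ¬ p ^ 2 ∣ Nat.card G) (y : G)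
    (hy : y ^ p = 1) : ∃ g, g * y * g⁻¹ ∈ zpowers x := by
  have := Fact.mk hp
  obtain ⟨P, hP⟩ := (K.isPGroup_zp hx).exists_le_sylow
  obtain ⟨Q, hQ⟩ := (show IsPGroup p (zpowers y) from IsPGroup.of_card_dvd_pow (n := 1) (by
    rw [Nat.card_zpowers, pow_one]; exact orderOf_dvd_of_pow_eq_one hy)).exists_le_sylow
  obtain ⟨g, rfl⟩ := MulAction.exists_smul_eq G Q P
  refine ⟨g, ?_⟩
  rw [← K.eq_zpowers_of_not_sq hp hx (g • Q).isPGroup' (hP (mem_zpowers x))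
    fun e => h (e.trans (card_subgroup_dvd_card _))]
  exact smul_mem_pointwise_smul y (MulAut.conj g) (Q : Subgroup G) (hQ (mem_zpowers y))

theorem ne_one_of_ord {x : G} {p : ℕ} (h : orderOf x = p) (hp : p ≠ 1) : x ≠ 1 := fun e => hp (by simp [← h, e])

variable {j : JM z} (hj : j.Good) (hl : Loc j) (hc : Nat.card G = 86775571046077562880)
include hj hl hc

theorem step_big {p r c m n : ℕ} (hp : (p, r) ∈ [(23, 22), (29, 28), (31, 10), (37, 12), (43, 14)])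
    (hr : p = c * r + 1) (hm : p.Coprime m) (h : NC (⊤ : Subgroup G) {y | y ^ m = 1} n) :
    NC (⊤ : Subgroup G) {y | y ^ (p * m) = 1} (n + c * 1) := by
  obtain ⟨h1, h2, h3, h4, h5⟩ := (by decide +kernel : ∀ q ∈ [(23, 22), (29, 28), (31, 10), (37, 12), (43, 14)],
    q.1 ∈ [23, 29, 31, 37, 43] ∧ q.1.Prime ∧ q.1 ∣ 86775571046077562880 ∧ ¬ q.1 ^ 2 ∣ 86775571046077562880 ∧
      ∀ q' ∈ [(23, 22), (29, 28), (31, 10), (37, 12), (43, 14)], q'.1 = q.1 → q'.2 = q.2) _ hp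
  have := Fact.mk h2
  obtain ⟨x, hx⟩ := exists_prime_orderOf_dvd_card' (G := G) p (hc ▸ h3)
  obtain ⟨a1, s, a2, a3⟩ := K.big hj hl hc h1 hx
  obtain rfl : s = r := h5 _ a3 rfl
  refine h.step' hm (nc_prime h2 hx (fun y _ => conj_into h2 hx (hc ▸ h4) y) (by rw [a1, a2]) hr) fun a a4 a5 => ?_
  refine NC.one ⟨one_pow _, by simp⟩ fun y hy => ⟨1, one_mem _, ?_⟩
  have a6 := (centralizer {a}).orderOf_dvd_natCard (mem_centralizer_singleton_iff.2 hy.2)
  rw [(K.big hj hl hc h1 (orderOf_eq_prime a5 a4)).1] at a6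
  rw [(pow_eq_one_iff_of_coprime hm).1 ⟨orderOf_dvd_iff_pow_eq_one.1 a6, hy.1⟩]
  simp

/-- 62 classes -/
theorem card_conj : Nat.card (ConjClasses G) = 62 := by
  have h2 := nc_two hj
  have h3 : NC (⊤ : Subgroup G) {y | y ^ (3 ^ 3 * 2 ^ 21) = 1} (10 + 9) := by
    refine h2.step1 (by norm_num) j.rho_ne (by rw [pow_succ', pow_mul, j.rho_three, one_pow]) (fun x h1 hx => ?_)
      (nc_three j.toHM2 hl.cent3)
    have := Fact.mk Nat.prime_three
    obtain ⟨a, b, g⟩ := G3.exists_gens j.toHM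
    obtain ⟨Q, hQ⟩ := g.sylow hl.cent3
    obtain ⟨P, hP⟩ := (show IsPGroup 3 (zpowers x) from IsPGroup.of_card_dvd_pow (n := 3) (by
      rw [Nat.card_zpowers]; exact orderOf_dvd_of_pow_eq_one hx)).exists_le_sylow
    obtain ⟨c, rfl⟩ := MulAction.exists_smul_eq G P Q
    have h4 : c * x * c⁻¹ ∈ G3.R0 j.toHM :=
      hQ ▸ smul_mem_pointwise_smul x (MulAut.conj c) (P : Subgroup G) (hP (mem_zpowers x))
    exact (G3.conj_of_R0 hj h4 (by simpa using h1)).trans (isConj_iff.2 ⟨c, rfl⟩).symm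
  have h5 : NC (⊤ : Subgroup G) {y | y ^ (5 * (3 ^ 3 * 2 ^ 21)) = 1} (10 + 9 + 9) := by
    obtain ⟨f, x, r, d⟩ := hj.exists_fd
    have := Fact.mk Nat.prime_five
    exact h3.step1 (by norm_num) (ne_one_of_ord d.ord (by norm_num)) (d.ord ▸ pow_orderOf_eq_one f)
      (fun x h1 hx => isConj_iff.2 (d.conj5 (orderOf_eq_prime hx h1)))
      (nc_five j.toHM d (by norm_num) (by norm_num) (by norm_num))
  have h7 : NC (⊤ : Subgroup G) {y | y ^ (7 * (5 * (3 ^ 3 * 2 ^ 21))) = 1} (10 + 9 + 9 + 2 * 7) := by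
    have p7 : Nat.Prime 7 := by norm_num
    have := Fact.mk p7
    refine h5.step' (by norm_num) (nc_prime (e := 3) p7 j.u7_ord
      (fun y _ => conj_into p7 j.u7_ord (by rw [hc]; norm_num) y)
      (by rw [hj.seven.2.2.2.2.2.1, hl.cent7 _ j.u7_ord]) rfl) fun a h1 ha => ?_
    have o7 := orderOf_eq_prime ha h1
    obtain ⟨-, ⟨I, hI, ⟨e⟩⟩, -⟩ := hj.s5573 (zpowers a) (by rw [Nat.card_zpowers, o7])
    rw [Five.cent_zpowers] at hI
    refine NC.direct hI (by rw [o7]; norm_num) ((nc_s5.of_equiv I e).congr fun y =>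
      ⟨fun hy => ⟨hy, orderOf_dvd_iff_pow_eq_one.1 ((I.orderOf_dvd_natCard hy).trans ?_)⟩, fun hy => hy.1⟩)
    rw [Nat.card_congr e.toEquiv, S7.card_s5]
    norm_num
  have h11 : NC (⊤ : Subgroup G) {y | y ^ (11 ^ 3 * (7 * (5 * (3 ^ 3 * 2 ^ 21)))) = 1}
      (10 + 9 + 9 + 2 * 7 + (7 + 2)) := by
    obtain ⟨u, k, U, E⟩ := K.exists_elv j.toHM2 hl.cent3 hc
    obtain ⟨O, ic, cO, cC⟩ := K.exists_core hj hl hc
    have p11 : Nat.Prime 11 := by norm_num
    have := Fact.mk p11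
    refine h7.step2 (by norm_num) (ne_one_of_ord E.uu.ord (by norm_num))
      (by rw [pow_succ', pow_mul, E.uu.u11, one_pow]) (ne_one_of_ord (K.ord_uu j.toMM) (by norm_num))
      (by rw [pow_succ', pow_mul, K.uu_pow, one_pow]) (fun h => ?_) (fun x h1 hx => ?_)
      (nc_u E (by norm_num) (by norm_num))
      (nc_uu ic (K.ord_tt _) (K.uu_tt _) cO cC (by norm_num) (by norm_num))
    · obtain ⟨g, e⟩ := isConj_iff.1 h.symm
      exact K.not_conj hj e E.uu.uz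
    · obtain ⟨g, hg⟩ := K.exists_conj_mem hc E.cardU (show IsPGroup 11 (zpowers x) from
        IsPGroup.of_card_dvd_pow (n := 3) (by rw [Nat.card_zpowers]; exact orderOf_dvd_of_pow_eq_one hx))
      have h4 := E.pow hj hl hc (hg x (mem_zpowers x))
      rw [conj_pow, conj_eq_one_iff] at h4
      exact E.two_classes hj hl hc (orderOf_eq_prime h4 h1)
  have h23 := step_big hj hl hc (p := 23) (r := 22) (c := 1) (by simp) rfl (by norm_num) h11
  have h29 := step_big hj hl hc (p := 29) (r := 28) (c := 1) (by simp) rfl (by norm_num) h23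
  have h31 := step_big hj hl hc (p := 31) (r := 10) (c := 3) (by simp) rfl (by norm_num) h29
  have h37 := step_big hj hl hc (p := 37) (r := 12) (c := 3) (by simp) rfl (by norm_num) h31
  have h43 := step_big hj hl hc (p := 43) (r := 14) (c := 3) (by simp) rfl (by norm_num) h37
  refine NC.card_conj (h43.congr fun x => ⟨fun _ => trivial, fun _ => ?_⟩)
  have := pow_card_eq_one' (G := G) (x := x)
  rw [hc] at this
  exact this

end CfsgLib.J4T.C62
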