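import Mathlib
import Cfsg.Agent.Lib.J4T.Three
import Cfsg.Agent.Lib.J4T.Five
import Cfsg.Agent.Lib.J4T.Seven5
import Cfsg.Agent.Lib.J4T.Ten
import Cfsg.Agent.Lib.J4T.Pgl

/-! # Groups of Janko-four type: the local data at the primes 3, 5, 7 -/

set_option autoImplicit false

namespace CfsgLib.J4T

theorem JM.Good.loc {G : Type*} [Group G] [Finite G] {z : G} {j : JM z} (hj : j.Good) : Loc j :=
  ⟨hj.conj3, hj.cent3, hj.cent5, hj.cent7, hj.sl5⟩

end CfsgLib.J4T
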