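import Mathlib
import Cfsg.Agent.Lib.J4T.Seven5
import Cfsg.Agent.Lib.J4T.Five

/-!
# Groups of Janko-four type: the subgroup `2^(3+12).(S5 × L3(2))`
-/

set_option autoImplicit false
set_option linter.unusedSectionVars false

namespace CfsgLib.J4T

open Cfsg CfsgLib.Golay CfsgLib.M24E CfsgLib.Tech CfsgLib.W2 Subgroup S7 Equiv
open scoped Pointwise

variable {G : Type*} [Group G] [Finite G] {z : G}

theorem Pent.le_norm {h : HM2 z} {φ : h.NZ8 →* Perm (Fin 5)} (hφ : Pent h φ) :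
    h.NZ8 ≤ normalizer (h.L15 : Set G) := fun n hn => mem_normalizer_of_forall fun x hx => by
  refine (hφ.ker (⟨n, hn⟩ * ⟨x, h.CZ_le_NZ8 hx.1⟩ * ⟨n, hn⟩⁻¹) (h.conj_mem_CZ hn hx.1)).1 ?_
  rw [map_mul, map_mul, (hφ.ker ⟨x, h.CZ_le_NZ8 hx.1⟩ hx.1).2 hx, mul_one, map_inv, mul_inv_cancel]

namespace JM

variable {j : JM z}

theorem Good.nonsplit_aux (hj : j.Good) {φ : j.NZ8 →* Perm (Fin 5)} (hφ : Pent j.toHM2 φ)
    {χ : j.NZ8 →* SL32} (hχ : ∀ n, χ n = 1 ↔ (n : G) ∈ j.CZ) (K : Subgroup j.NZ8)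
    (inj : ∀ k ∈ K, φ k = 1 → χ k = 1 → k = 1) (sur : ∀ a b, ∃ k ∈ K, φ k = a ∧ χ k = b)
    (hu : (⟨j.u7, j.u7_mem⟩ : j.NZ8) ∈ K) : False := by
  have hVC : j.V ≤ j.CZ := hj.V_eq ▸ j.toHM2.VV_le_CZ
  have hcomm : ∀ a ∈ K, ∀ b ∈ K, φ a = 1 → χ b = 1 → (a : G) * b = b * a := fun a ha b hb h1 h2 => by
    have := inj (a * b * a⁻¹ * b⁻¹) (mul_mem (mul_mem (mul_mem ha hb) (inv_mem ha)) (inv_mem hb))
      (by simp [h1]) (by simp [h2])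
    rw [mul_inv_eq_one, mul_inv_eq_iff_eq_mul] at this
    exact congrArg Subtype.val this
  have hV : ∀ v (hv : v ∈ j.V), v ∈ Cx j.u7 → (⟨v, j.CZ_le_NZ8 (hVC hv)⟩ : j.NZ8) ∈ K := fun v hv hc => by
    obtain ⟨k, hk, h1, h2⟩ := sur (φ ⟨v, j.CZ_le_NZ8 (hVC hv)⟩) 1
    have h3 := hcomm _ hu k hk (j.pent_u7 φ (mem_zpowers _)) h2
    have h4 : v⁻¹ * k ∈ j.L15 ⊓ Cx j.u7 := mem_inf.2 ⟨(hφ.ker ((⟨v, j.CZ_le_NZ8 (hVC hv)⟩ : j.NZ8)⁻¹ * k)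
      (mul_mem (inv_mem (hVC hv)) ((hχ k).1 h2))).1 (by rw [map_mul, map_inv, h1, inv_mul_cancel]),
      mul_mem (inv_mem hc) (mem_Cx.2 h3.symm)⟩
    rw [hj.seven.1, mem_bot, inv_mul_eq_one] at h4
    rwa [show (⟨v, j.CZ_le_NZ8 (hVC hv)⟩ : j.NZ8) = k from Subtype.ext h4]
  have : Fact (Nat.Prime 2) := ⟨Nat.prime_two⟩
  obtain ⟨a, ha⟩ := exists_prime_orderOf_dvd_card' (G := SL32) 2 (by rw [card_SL32]; norm_num)
  obtain ⟨k, hk, h1, h2⟩ := sur 1 a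
  have hM : (k : G) ∈ normalizer (j.V : Set G) := hj.V_eq ▸ hφ.mem_M k h1
  have h3 : (k : G) * k = 1 := congrArg Subtype.val (inj (k * k) (mul_mem hk hk) (by simp [h1])
    (by rw [map_mul, h2, sq_of_ord ha]))
  have h4 : ∀ m ∈ [17, 2097153], (j.toMM.ψ k : P24) • ofMask m = ofMask m := fun m hm => by
    have hd : (ofMask m).card = 2 := by
      rw [card_ofMask_pcN]; revert m; decide +kernel
    have hv := j.toMM.c_mem (ev_two hd)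
    refine (j.toMM.comm_duad_iff hM hd).1 (hcomm k hk _ (hV _ hv (mem_Cx.2 ?_)) h1 ((hχ _).2 (hVC hv)))
    exact (j.toMM.comm_of_fix (j.toMM.κ_mem_M G7) (ev_two hd)
      (by rw [j.toMM.ψ_κ]; exact G7_fix hm)).symm
  have h5 := eq_one_of_fix_three (j.toMM.ψ k).2 (by rw [sq]; exact j.toMM.ψ_sq hM h3) (fun p hp => by
    have e1 := smul_mem_smul' (j.toMM.ψ k : P24) (s := ofMask 17) (p := p)
    have e2 := smul_mem_smul' (j.toMM.ψ k : P24) (s := ofMask 2097153) (p := p)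
    rw [h4 _ (by simp)] at e1 e2
    exact (by simp only [mem_ofMask]; decide +kernel : ∀ p q : GolayPt, p ∈ ofMask 2097169 →
      (q ∈ ofMask 17 ↔ p ∈ ofMask 17) → (q ∈ ofMask 2097153 ↔ p ∈ ofMask 2097153) → q = p) p _ hp e1 e2)
    ((j.mem_NZ8_iff hM).1 k.2)
  have h6 := (hχ k).2 (hVC ((j.toMM.ψ_eq_one_iff hM).1 (Subtype.ext h5)))
  exact ne_one_of_ord ha (h2.symm.trans h6)

theorem Good.nonsplit (hj : j.Good) {φ : j.NZ8 →* Perm (Fin 5)} (hφ : Pent j.toHM2 φ)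
    {χ : j.NZ8 →* SL32} (hχ : ∀ n, χ n = 1 ↔ (n : G) ∈ j.CZ) (K : Subgroup j.NZ8)
    (inj : ∀ k ∈ K, φ k = 1 → χ k = 1 → k = 1) (sur : ∀ a b, ∃ k ∈ K, φ k = a ∧ χ k = b) : False := by
  have : Fact (Nat.Prime 7) := ⟨by norm_num⟩
  let u : j.NZ8 := ⟨j.u7, j.u7_mem⟩
  have hu : orderOf u = 7 := (Subgroup.orderOf_coe u).symm.trans j.u7_ord
  have h7 : u ^ 7 = 1 := hu ▸ pow_orderOf_eq_one u
  obtain ⟨k, hk, h1, h2⟩ := sur (φ u) (χ u)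
  have h3 : k ^ 7 = 1 := inj _ (pow_mem hk 7) (by rw [map_pow, h1, ← map_pow, h7, map_one])
    (by rw [map_pow, h2, ← map_pow, h7, map_one])
  have h4 : k ≠ 1 := by
    rintro rfl
    have h5 : j.u7 ∈ j.L15 ⊓ Cx j.u7 :=
      ⟨(hφ.ker u ((hχ u).1 (by rw [← h2, map_one]))).1 (by rw [← h1, map_one]), mem_Cx.2 rfl⟩
    rw [hj.seven.1, mem_bot] at h5
    have := j.u7_ord
    rw [h5, orderOf_one] at this
    exact absurd this (by norm_num)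
  obtain ⟨g, hg, h5⟩ := (hj.sylow7.of_le (zpowers_le.2 j.u7_mem) le_top).exists_conj_mem k.2
    (isPGroup_zpowers_of_pow (k := 1) (by rw [pow_one]; exact congrArg Subtype.val h3))
  have h6 := zpowers_eq_of_prime (by norm_num) j.u7_ord h5 fun h => h4 (Subtype.ext (by simpa using h))
  obtain ⟨m, hm⟩ : j.u7 ∈ zpowers (g * k * g⁻¹) := h6 ▸ mem_zpowers _
  let g' : j.NZ8 := ⟨g, hg⟩
  refine hj.nonsplit_aux hφ hχ (Tech.cj g' K) (fun x hx e1 e2 => ?_) (fun a b => ?_) ?_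
  · have := inj _ (mem_cj.1 hx) (by simp [e1]) (by simp [e2])
    calc x = g' * (g'⁻¹ * x * g') * g'⁻¹ := by group
      _ = 1 := by rw [this]; group
  · obtain ⟨x, hx, e1, e2⟩ := sur ((φ g')⁻¹ * a * φ g') ((χ g')⁻¹ * b * χ g')
    exact ⟨_, conj_mem_cj.2 hx, by simp [e1, mul_assoc], by simp [e2, mul_assoc]⟩
  · rw [show (⟨j.u7, j.u7_mem⟩ : j.NZ8) = (g' * k * g'⁻¹) ^ m from Subtype.ext hm.symm]
    exact zpow_mem (conj_mem_cj.2 hk) m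

theorem Good.s5574 (hj : j.Good) :
    ∃ L : Subgroup G, IsSpecial 2 L ∧ Nat.card L = 2 ^ 15 ∧ Nat.card (center L) = 8 ∧
    Nonempty (normalizer (L : Set G) ⧸ L.subgroupOf (normalizer (L : Set G)) ≃*
      Perm (Fin 5) × Matrix.SpecialLinearGroup (Fin 3) (ZMod 2)) ∧
    (∀ K : Subgroup (normalizer (L : Set G)), ¬ (L.subgroupOf (normalizer (L : Set G))).IsComplement' K) ∧
    (∃ K₁ : Subgroup G, K₁ ≤ normalizer (L : Set G) ∧ Nonempty (K₁ ≃* Perm (Fin 5))) ∧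
    (∃ K₂ : Subgroup G, K₂ ≤ normalizer (L : Set G) ∧
      Nonempty (K₂ ≃* Matrix.SpecialLinearGroup (Fin 3) (ZMod 2))) ∧
    (∃ Q : Sylow 5 G, normalizer ((Q : Subgroup G) : Set G) ≤ normalizer (L : Set G)) ∧
    (∃ S : Sylow 7 G, normalizer ((S : Subgroup G) : Set G) ≤ normalizer (L : Set G)) := by
  have : Fact (Nat.Prime 5) := ⟨by norm_num⟩
  have : Fact (Nat.Prime 7) := ⟨by norm_num⟩
  obtain ⟨f, t, r, d⟩ := j.toHM2.exists_F5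
  obtain ⟨φ, hφ⟩ := d.exists_pent
  obtain ⟨χ, hχ⟩ := j.exists_autZ
  have hle := hφ.le_norm
  let ι := inclusion j.norm_L15_le
  have hι : Function.Bijective ι := ⟨inclusion_injective _, fun n => ⟨⟨n, hle n.2⟩, rfl⟩⟩
  let Φ := (φ.prod χ).comp ι
  have hk : Φ.ker = j.L15.subgroupOf (normalizer (j.L15 : Set G)) := by
    ext n
    rw [MonoidHom.mem_ker, mem_subgroupOf, Prod.ext_iff]
    exact ⟨fun h => (hφ.ker (ι n) ((hχ _).1 h.2)).1 h.1,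
      fun h => ⟨(hφ.ker (ι n) h.1).2 h, (hχ _).2 h.1⟩⟩
  have hs : Function.Surjective Φ := by
    rintro ⟨a, b⟩
    obtain ⟨x, rfl⟩ := (j.κL_bij hχ).2 b
    obtain ⟨c, hc, e⟩ := hφ.surj (a * (φ (j.κL x))⁻¹)
    obtain ⟨n, hn⟩ := hι.2 (c * j.κL x)
    refine ⟨n, Prod.ext ?_ ?_⟩
    · show φ (ι n) = a
      rw [hn, map_mul, e, inv_mul_cancel_right]
    · show χ (ι n) = χ (j.κL x)
      rw [hn, map_mul, (hχ c).2 hc, one_mul]
  refine ⟨j.L15, j.isSpecial_L15, j.card_L15, j.card_center_L15,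
    ⟨(QuotientGroup.quotientMulEquivOfEq hk.symm).trans
      (QuotientGroup.quotientKerEquivOfSurjective Φ hs)⟩, fun K hK => ?_,
    ⟨_, inf_le_left.trans (j.CZ_le_NZ8.trans hle), hj.seven.2.1⟩, ⟨KL.map j.κ, ?_,
      ⟨(KL.equivMapOfInjective _ j.toMM.κ_inj).symm.trans (MulEquiv.ofBijective _ (j.κL_bij hχ))⟩⟩,
    ⟨(d.fd hj).syl.toSylowTop, (d.norm_le hj).trans hle⟩,
    ⟨hj.sylow7.toSylowTop, hj.seven.2.2.2.2.2.2.trans hle⟩⟩
  · rw [← hk] at hK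
    refine hj.nonsplit hφ hχ (K.map ι) ?_ fun a b => ?_
    · rintro _ ⟨k, h1, rfl⟩ e1 e2
      rw [(disjoint_def.1 hK.disjoint) (show Φ k = 1 from Prod.ext e1 e2) h1, map_one]
    · obtain ⟨n, hn⟩ := hs (a, b)
      obtain ⟨⟨l, k⟩, e⟩ := hK.2 n
      have e' : Φ k = (a, b) := by
        rw [← hn, ← e, map_mul, show Φ l = 1 from l.2, one_mul]
      exact ⟨ι k, mem_map_of_mem _ k.2, congrArg Prod.fst e', congrArg Prod.snd e'⟩
  · rintro _ ⟨g, hg, rfl⟩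
    exact hle (j.κ_mem_NZ8 hg)

end JM

end CfsgLib.J4T
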