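import Mathlib
import Cfsg.Agent.Lib.J4T.TenB
import Cfsg.Agent.Lib.M24E.Pairs

/-!
# `A0` as the exterior square of `GF(2)^5`: tables

`Q x` is the Pfaffian of the element number `x`, `L h` the exterior square of the hyperplane `h`.
-/

set_option autoImplicit false

namespace CfsgLib.J4T.Ten

open Cfsg CfsgLib.Golay CfsgLib.M24E Subgroup
open scoped Pointwise

/-- table of Pfaffians -/
def QT : ℕ := 0xf8cb94d66f36b80073465581ce02ca9bf25aa7e3602dad580cae5e39fd25cd67f78ca903146329808b5773efa10734636b8007156b2b808b767bafa103356b69808f567beda18f7773ada103146329809381c0724e5df254d7673ecb9aa6ebf0b80e03c20325e9780ccd567ddd25ae6fb3aca9601c270980e01d274b806c7e37cfa16c5f3f8fa1e03c2f0b80603d2f4980ec5e3fcda1ec7f378da1601c270980a01da0534e6e6e34f6670515ea03cacb667ea6e338fb99dd2df6880d78049df3d38da95380472880d381476a805fe257eea157814f2a80dbe25faea15be35feca1d7804f6880dfe357aca15380472880cb57f4f76f05246052466e5fbea7eba02c2a02c25bf3ddfd2d9580495804fefb97ada93088030880b8cb13cea134a8034a803ccb1b8ea1b0a80b0a8038eb1bcca1b4880b4880bceb138ca13088030880c001875ace0630037bc66d4bdd8e6bab7a59af6358e7bed4ad9ed63af5a5f5ade40008339c602100b39d60630037bc6063003fdf78a721bbfe78a7213bff78e521bfde78e521b7bd602100339c602100ab4bd3feef6d7a57dfe70601892a4ac0300d0b423beffaf4adfdde7ed5a596a5a020085094240100d8d734c7215cf634c72154952c0300d0b42c030058f73cc521dcd63cc521d4b5240100509424010098d7b3dfef5ee637fee73ddff98f6bfbee7dae6300318a518cc6000e7084a539c001086308442000eb4b54e6216f6a54e6216f4b5ca621eb6a5ca62163294c6000e7084c6000e7294420006308442000f39de77bce35ac635ac65695ad2b4a90a4290a426339ce718ca5084a5084c631842108000000000080010042000420004200040108020080200802000021084000840008400084210000000000000000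

/-- the Pfaffian -/
def Q (x : ℕ) : ℕ := ap QT x

/-- table of `σ` -/
def sigT : ℕ := 0xe70790a705a0e30690a304c0e50710a50520e10610a100c0e60780a60580e20680a20480e40700a40500e00600a0000

/-- an element with Pfaffian `h` -/
def σ (h : ℕ) : ℕ := col sigT h

/-- table of `tl` -/
def tT : ℕ := 0x2621640c103302d0262a81b004103d03b03826216408103702f02633809004201e0190182661200c10370280222b812004102d02a02826612008103302a02212809804400a0090082201660c103002f0242201b804103403303022016608103402d0242300980420140110102241220c103402a0202301280410240220202241220810300280200240140080060050042661660c003302d0262b81b804003d03b03826616608003702f02631809804001e0190182621220c00370280222a812804002d02a02826212208003302a02210808804000a0090082241640c003002f0242301b004003403303022416408003402d0242100900400140110102201200c003402a020220120040024022020220120080030028020000000000000000000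

/-- a basis of the exterior square of the hyperplane `h` -/
def tl (h : ℕ) : List ℕ :=
  [col tT (Nat.mul 6 h), col tT (Nat.add (Nat.mul 6 h) 1), col tT (Nat.add (Nat.mul 6 h) 2),
    col tT (Nat.add (Nat.mul 6 h) 3), col tT (Nat.add (Nat.mul 6 h) 4), col tT (Nat.add (Nat.mul 6 h) 5)]

/-- table of `LM` -/
def LMT : ℕ := 0x801004020204108000000000000000000000000000000000402008010108204000000000000000002040010808014020108002040402801000000000000000000000000000000000080140202040010804028010108002040000000000000000020410808010040200000000000000000000000000000000010820404020080100000000000000000000000000000000000000969600000000000069690000000000960000960000000069000069000000000000000000000000000000000000009600000000960000690000000069000000000000000000000000000000000000000000000000000000000000000000960000000000009669000000000000690000000000000000020101028040408000000000000000000102020140808040080404082010102000000000000000000408080410202010000000000000000020101020080404080000000000000000102020100408080400000000000000000000000000000000804040800201010200000000000000004080804001020201003c3c000000000000c3c300000000003c00003c00000000c30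000c3000000000000000000000000000000000000000000000000000000000000000000000000000000000000000000000000000000000000000000000000000000000000000000000000003c3c000000000000c3c300000000003c00003c00000000c30000c30000000000000000040180200104208008024010020810400000000000000000000000000000000001042080040180200208104008024010000000000000000040100802104002080000000000000000000000000000000080200401208001041040020840100802000000000000000000000000000000002080010480200401005a00005a00000000a50000a5000000000000000000000000000000000000005a000000005a0000a500000000a5000000000000000000000000000000000000000000000000000000000000000000000000005a00005a00000000a50000a5000000000000000000000000000000000000005a000000005a0000a500000000a5101020204040808000000000000000002020101080804040000000000000000040408080101020200000000000000000808040402020101000000000000000000000000000000000010102020404080800000000000000000202010108080404000000000000000004040808010102020000000000000000080804040202010100000000000000000000000000000000000000000000000000000000000000000000000000000000000000000000000000000000000000000000000000000000f0f00000000000000f0f0000000000000000f0f000000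00000000f0f0000000000000000f0f00000000000000f0f0000000000000000f0f00000000000000f0f0000000000000000108001080108108020400204020420400000000000000000402004020402402000000000000000000000000000000000801008010801801000000000000000000108108010800108020420402040020400000000000000000402402040200402000000000000000000000000000000000801801080100801000066006600000000009900990000000000000000000000000000000000000000000000000000000000000000000000000000660066000000000099009900006600000000006600990000000000990000000000000000000000000000000000000000000000000000000000000000000066000000000066009900000000009904080408408040800000000000000000080408048040804000000000000000000000000000000000010201021020102000000000000000000201020120102010408040800408040800000000000000008040804008040804000000000000000000000000000000001020102001020102000000000000000020102010020102010000000000000000000000000000000000000000000000000000000000000000cc00cc0000000000330033000000000000cc00cc000000000033003300000000000000000000000000000000000000000000000000000000000000000000000000000000cc00cc0000000000330033000000000000cc00cc0000000000330033020820800208208000000000000000000000000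000000000010410400104104008028020080280200000000000000000000000000000000004014010040140102080020820800208000000000000000000000000000000001040010410400104802008028020080200000000000000000000000000000000401004014010040100000000000000000000000000000000aa000000aa00000055000000550000000000000000000000000000000000000000aa000000aa00000055000000550000000000000000000000000000000000000000aa000000aa00000055000000550000000000000000000000000000000000000000aa000000aa00000055000000550000000000000000808080808080808000000000000000004040404040404040000000000000000020202020202020200000000000000000101010101010101000000000000000000808080808080808000000000000000004040404040404040000000000000000020202020202020200000000000000000101010101010101000000000000000000000000000000000000000000000000000000000000000000000000000000000000000000000000000000000000000000000000000000000000000000000000000000000000000000000000000000000000000000000000000000000000000000000000000000000000000000000000ffffffffffffffff01082040402008010000000000000000000000000000000001082040402008010000000000000000010820404020080101082040402008010000000000000000000000000000000001082040402008010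108204040200801000000000000000001082040402008010000000000000000000000000000000001082040402008010000000000000000000000000000000069000000000000696900000000000069690000000000006969000000000000690000000000000000000000000000000069000000000000696900000000000069000000000000000000000000000000000000000000000000000000000000000069000000000000696900000000000069000000000000000040808040010202010000000000000000408080400102020140808040010202010000000000000000408080400102020100000000000000004080804001020201000000000000000040808040010202010000000000000000000000000000000040808040010202010000000000000000408080400102020100000000c30000c300000000c30000c300000000c30000c300000000c30000c30000000000000000000000000000000000000000000000000000000000000000000000000000000000000000000000000000000000000000000000000000000000000000c30000c300000000c30000c300000000c30000c300000000c30000c300000000000000002080010480200401208001048020040100000000000000000000000000000000208001048020040120800104802004010000000000000000208001048020040100000000000000000000000000000000208001048020040120800104802004010000000000000000000000000000000020800104802004010000a500000000a50000a500000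000a5000000000000000000000000000000000000a500000000a50000a500000000a500000000000000000000000000000000000000000000000000000000000000000000a500000000a50000a500000000a5000000000000000000000000000000000000a500000000a50000a500000000a50808040402020101000000000000000008080404020201010000000000000000080804040202010100000000000000000808040402020101000000000000000000000000000000000808040402020101000000000000000008080404020201010000000000000000080804040202010100000000000000000808040402020101000000000000000000000000000000000000000000000000000000000000000000000000000000000000000000000000000000000000000000000000000000000000000000000f0f0000000000000f0f0000000000000f0f0000000000000f0f0000000000000f0f0000000000000f0f0000000000000f0f0000000000000f0f000000000000000008018010801008010801801080100801000000000000000008018010801008010000000000000000000000000000000008018010801008010000000000000000080180108010080108018010801008010000000000000000080180108010080100000000000000000000000000000000080180108010080100990000000000990099000000000099000000000000000000000000000000000000000000000000000000000000000000990000000000990099000000000099009900000000009900990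00000000099000000000000000000000000000000000000000000000000000000000000000000990000000000990099000000000099201020100201020100000000000000002010201002010201000000000000000000000000000000002010201002010201000000000000000020102010020102012010201002010201000000000000000020102010020102010000000000000000000000000000000020102010020102010000000000000000201020100201020100000000000000000000000000000000000000000000000000000000000000000000000000330033000000000033003300000000003300330000000000330033000000000000000000000000000000000000000000000000000000000000000000000000003300330000000000330033000000000033003300000000003300334010040140100401000000000000000000000000000000004010040140100401401004014010040100000000000000000000000000000000401004014010040140100401401004010000000000000000000000000000000040100401401004014010040140100401000000000000000000000000000000004010040140100401000000000000000000000000000000000000005500000055000000550000005500000000000000000000000000000000000000550000005500000055000000550000000000000000000000000000000000000055000000550000005500000055000000000000000000000000000000000000005500000055000000550000005500000000000000000101010101010101000000000000000001010101010101010000000000000000010101010101010100000000000000000101010101010101000000000000000001010101010101010000000000000000010101010101010100000000000000000101010101010101000000000000000001010101010101010000000000000000000000000000000000000000000000000000000000000000000000000000000000000000000000000000000000000000000000000000000000000000000000000000000000000000000000000000000000000000000000000000000000000000000000000000000000000000000000000000000000000000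

/-- mask of the exterior square of the hyperplane `h` -/
def LM (h : ℕ) : ℕ := Nat.land (Nat.shiftRight LMT (Nat.mul 1024 h)) (Nat.pred (Nat.shiftLeft 1 1024))

/-- table of code words fixed by the `uE y` -/
def WT : ℕ := 0x60b54010f1300cb250149f0008dc6003da1051a61021e2600527c024c5a00293e00149f020ab901262d00527c020ab900a4f800149f0265640149f000cb25010f13008dc600293e021e26010f130046e3008dc60046e300149f046e3002656401745108453900995900293e046e3002ae4101262d031135009959003da1020ab90182d50046e3000000000000000000

/-- `a` lies in the exterior square of the hyperplane `h` -/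
def L (h a : ℕ) : Prop := tb (LM h) a = true

theorem Q_lt (x : ℕ) : Q x < 32 := by
  rw [Q, ap_eq]; exact Nat.mod_lt _ (by norm_num)

theorem Q_zero : Q 0 = 0 := by decide +kernel

theorem σ_zero : σ 0 = 0 := by decide +kernel

theorem lm_check : allLT 32 (fun h => or (Nat.beq h 0)
    (frcL (tl h) fun l => Nat.beq (LM h) (imgN (encL l) 0xffffffffffffffff 64))) = true := by decide +kernel

theorem L_iff {h a : ℕ} (hh : h < 32) (h0 : h ≠ 0) : L h a ↔ ∃ k < 64, encL (tl h) k = a := by
  have h1 := of_allLT lm_check hh
  rw [Bool.or_eq_true, beq_iff', frcL_eq, beq_iff'] at h1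
  rw [L, tb_eq, h1.resolve_left h0, testBit_imgN]
  refine exists_congr fun k => and_congr_right fun hk => and_iff_right ?_
  exact (Nat.testBit_two_pow_sub_one 64 k).trans (decide_eq_true hk)

theorem L_xor {h a b : ℕ} (hh : h < 32) (h0 : h ≠ 0) (ha : L h a) (hb : L h b) : L h (a ^^^ b) := by
  rw [L_iff hh h0] at *
  obtain ⟨j, hj, rfl⟩ := ha
  obtain ⟨k, hk, rfl⟩ := hb
  exact ⟨_, xor_lt (n := 6) hj hk, encL_xor _ _ _⟩

theorem L_zero {h : ℕ} (hh : h < 32) (h0 : h ≠ 0) : L h 0 := by
  have := encL_xor (tl h) 0 0
  rw [Nat.xor_self, Nat.xor_self] at this
  exact (L_iff hh h0).2 ⟨0, by norm_num, this⟩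

theorem sig_check : allLT 32 (fun h => and (and (Nat.beq (Q (σ h)) h) (Nat.blt (σ h) 1024))
    (allL (tl h) fun t => and (Nat.blt t 1024) (and (Nat.beq (Q t) 0) (Nat.beq (Q (Nat.xor t (σ h))) 0)))) = true := by
  decide +kernel

theorem Q_σ {h : ℕ} (hh : h < 32) : Q (σ h) = h := by
  have h1 := of_allLT sig_check hh
  simp only [Bool.and_eq_true, beq_iff'] at h1
  exact h1.1.1

theorem σ_lt {h : ℕ} (hh : h < 32) : σ h < 1024 := by
  have h1 := of_allLT sig_check hh
  simp only [Bool.and_eq_true, Nat.blt_eq] at h1
  exact h1.1.2

theorem tl_spec {h t : ℕ} (hh : h < 32) (ht : t ∈ tl h) : t < 1024 ∧ Q t = 0 ∧ Q (t ^^^ σ h) = 0 := by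
  have h1 := of_allLT sig_check hh
  simp only [Bool.and_eq_true, allL_iff, Nat.blt_eq, beq_iff'] at h1
  exact h1.2 t ht

theorem L_lt {h a : ℕ} (hh : h < 32) (h0 : h ≠ 0) (ha : L h a) : a < 1024 := by
  obtain ⟨k, -, rfl⟩ := (L_iff hh h0).1 ha
  exact encL_induction (P := (· < 2 ^ 10)) (by norm_num) (fun _ _ => xor_lt) _ (fun t ht => (tl_spec hh ht).1) k

theorem f1_check : allLT 1024 (fun a => or (not (Nat.beq (Q a) 0)) (allLT 1024 fun x =>
    or (not (Nat.beq (Q (Nat.xor a x)) 0)) (frc (Q x) fun h => or (Nat.beq h 0) (tb (LM h) a)))) = true := by
  decide +kernel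

theorem L_of_Q {a x : ℕ} (ha : a < 1024) (hx : x < 1024) (h1 : Q a = 0) (h2 : Q (a ^^^ x) = 0) (h3 : Q x ≠ 0) :
    L (Q x) a := by
  have h := of_allLT f1_check ha
  rw [beq_iff'.2 h1, Bool.not_true, Bool.false_or] at h
  have h4 := of_allLT h hx
  rw [show Nat.beq (Q (Nat.xor a x)) 0 = true from beq_iff'.2 h2, Bool.not_true, Bool.false_or, frc_eq,
    Bool.or_eq_true, beq_iff'] at h4
  exact h4.resolve_left h3

theorem L_Q {x : ℕ} (hx : x < 1024) (h : Q x ≠ 0) : L (Q x) x := by
  have h1 := of_allLT (f := fun x => frc (Q x) fun h => or (Nat.beq h 0) (tb (LM h) x)) (by decide +kernel) hx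
  rw [frc_eq, Bool.or_eq_true, beq_iff'] at h1
  exact h1.resolve_left h

theorem Q_of_L {h a : ℕ} (hh : h < 32) (h0 : h ≠ 0) (ha : L h a) (h1 : Q a ≠ 0) : Q a = h := by
  obtain ⟨k, hk, rfl⟩ := (L_iff hh h0).1 ha
  have h2 := of_allLT (f := fun h => frcL (tl h) fun l => allLT 64 fun k =>
    frc (Q (encL l k)) fun q => or (Nat.beq q 0) (Nat.beq q h)) (by decide +kernel) hh
  rw [frcL_eq] at h2
  have h3 := of_allLT h2 hk
  rw [frc_eq, Bool.or_eq_true, beq_iff', beq_iff'] at h3
  exact h3.resolve_left h1

theorem f5_check : allLT 32 (fun u => or (Nat.beq u 0) (frc (LM u) fun a => allLT 32 fun u' =>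
    or (Nat.beq u' 0) (or (Nat.beq u u') (frc (Nat.land a (LM u')) fun b => allLT 32 fun w =>
      or (Nat.beq w 0) (eqB (Nat.beq (Nat.land b (LM w)) b)
        (or (Nat.beq w u) (or (Nat.beq w u') (Nat.beq w (Nat.xor u u'))))))))) = true := by decide +kernel

theorem collinear {u u' w : ℕ} (hu : u < 32) (hu' : u' < 32) (hw : w < 32) (u0 : u ≠ 0) (u0' : u' ≠ 0) (w0 : w ≠ 0)
    (hne : u ≠ u') : (∀ a, L u a → L u' a → L w a) ↔ w = u ∨ w = u' ∨ w = u ^^^ u' := by
  have h1 := of_allLT f5_check hu
  rw [Bool.or_eq_true, beq_iff', frc_eq] at h1
  have h2 := of_allLT (h1.resolve_left u0) hu'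
  rw [Bool.or_eq_true, Bool.or_eq_true, beq_iff', beq_iff', frc_eq] at h2
  have h3 := of_allLT ((h2.resolve_left u0').resolve_left hne) hw
  simp only [Bool.or_eq_true, beq_iff', eqB_iff] at h3
  refine Iff.trans ?_ (h3.resolve_left w0)
  show _ ↔ LM u &&& LM u' &&& LM w = LM u &&& LM u'
  simp only [L, tb_eq]
  constructor
  · intro h
    refine Nat.eq_of_testBit_eq fun i => ?_
    have := h i
    simp only [Nat.testBit_and]
    cases h4 : (LM u).testBit i <;> cases h5 : (LM u').testBit i <;> simp_all
  · intro h a h4 h5
    have := congrArg (fun x => Nat.testBit x a) h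
    simpa [Nat.testBit_and, h4, h5] using this

theorem eq_of_L {i a : ℕ} (hi : i < 10) (ha : a < 1024) (h : ∀ u < 32, u ≠ 0 → L u (2 ^ i) → L u a) :
    a = 0 ∨ a = 2 ^ i := by
  have h1 := of_allLT (of_allLT (f := fun i => allLT 1024 fun a => or (Nat.beq a 0) (or (Nat.beq a (Nat.pow 2 i))
    (anyLT 32 fun u => frc (LM u) fun l => and (not (Nat.beq u 0)) (and (tb l (Nat.pow 2 i)) (not (tb l a))))))
    (by decide +kernel) hi) ha
  simp only [Bool.or_eq_true, beq_iff'] at h1
  rcases h1 with h1 | h1 | h1
  · exact Or.inl h1
  · exact Or.inr h1
  · obtain ⟨u, hu, h2⟩ := exists_of_anyLT h1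
    simp only [frc_eq, Bool.and_eq_true, Bool.not_eq_true'] at h2
    have h3 := h u hu (Nat.ne_of_beq_eq_false h2.1) h2.2.1
    rw [L, h2.2.2] at h3
    cases h3

theorem exists_L {a : ℕ} (ha : a < 1024) : ∃ h < 32, h ≠ 0 ∧ L h a := by
  obtain ⟨h, hh, h1⟩ := exists_of_anyLT (of_allLT (f := fun a => anyLT 32 fun h =>
    and (not (Nat.beq h 0)) (tb (LM h) a)) (by decide +kernel) ha)
  simp only [Bool.and_eq_true, Bool.not_eq_true'] at h1
  exact ⟨h, hh, Nat.ne_of_beq_eq_false h1.1, h1.2⟩

theorem L_16 {a : ℕ} : L 16 a ↔ a < 64 := by
  rw [L, tb_eq, show LM 16 = 2 ^ 64 - 1 by decide +kernel, Nat.testBit_two_pow_sub_one, decide_eq_true_eq]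

theorem Q_pow {i : ℕ} (hi : i < 10) : Q (2 ^ i) = 0 := by
  revert i; decide +kernel

theorem low_check {x : ℕ} (hx : x < 64) (h0 : x ≠ 0) : ∃ t ⊆ ofMask o0, symmDiff (e6 x) t ∈ codeSets ∧
    (t.card = 4 ∧ Q x = 0 ∨ t.card = 2 ∧ Q x ≠ 0) := by
  have h1 := of_allLT (f := fun x => or (Nat.beq x 0) (frc (encL B6 x) fun a =>
    or (and (Nat.beq (pc a) 4) (Nat.beq (Q x) 0)) (and (not (Nat.beq (Q x) 0))
      (or (Nat.beq (pc a) 2) (Nat.beq (pc (Nat.xor a o0)) 2))))) (by decide +kernel) hx
  have lt : encL B6 x < 2 ^ 24 := encL_lt (by decide) x
  simp only [frc_eq, Bool.or_eq_true, Bool.and_eq_true, beq_iff', Bool.not_eq_true'] at h1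
  have e : symmDiff (e6 x) (e6 x) ∈ codeSets := by rw [symmDiff_self]; exact empty_mem_codeSets
  rcases h1.resolve_left h0 with h1 | ⟨h1, h2 | h2⟩
  · exact ⟨_, e6_subset x, e, Or.inl ⟨(card_ofMask lt).trans h1.1, h1.2⟩⟩
  · exact ⟨_, e6_subset x, e, Or.inr ⟨(card_ofMask lt).trans h2, Nat.ne_of_beq_eq_false h1⟩⟩
  · refine ⟨symmDiff (e6 x) (ofMask o0),
      Finset.symmDiff_subset_union.trans (Finset.union_subset (e6_subset x) le_rfl), ?_,
      Or.inr ⟨?_, Nat.ne_of_beq_eq_false h1⟩⟩
    · rw [symmDiff_symmDiff_cancel_left]; exact o0_mem.1
    · rw [e6, ← ofMask_xor, card_ofMask (xor_lt lt (by decide))]; exact h2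

theorem high_check : allLT 1024 (fun x => or (Nat.blt x 64) (frc (uE (Nat.div x 64)) fun q => frc (encL B6 x) fun a =>
    Bool.rec
      (anyLT 3 fun i => frc (fld WT (Nat.add (Nat.mul 3 (Nat.div x 64)) i)) fun w =>
        and (and (isCode w) (Nat.beq (img (ap q) w) w)) (Nat.beq (Nat.mod (pc (Nat.land w a)) 2) 1))
      (anyLT 24 fun r => frc (Nat.xor 2 (Nat.shiftLeft 1 r)) fun b =>
        and (Nat.beq (Nat.mod (pc b) 2) 0) (frc (Nat.xor a (Nat.xor b (img (ap q) b))) isCode))
      (Nat.beq (Q x) 0))) = true := by decide +kernel

theorem inComm_iff {x : ℕ} (hx : x < 1024) (h64 : 64 ≤ x) : InComm (U (x / 64)) (e6 x) ↔ Q x = 0 := by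
  have h1 := of_allLT high_check hx
  have r : Rp (ap (uE (Nat.div x 64))) (U (x / 64)) := U_rp (x := x / 64) (by omega)
  rw [Bool.or_eq_true, Nat.blt_eq, frc_eq, frc_eq] at h1
  replace h1 := h1.resolve_left (by omega)
  cases h2 : Nat.beq (Q x) 0
  · rw [h2] at h1
    refine iff_of_false ?_ (Nat.ne_of_beq_eq_false h2)
    obtain ⟨i, -, h3⟩ := exists_of_anyLT h1
    simp only [frc_eq, Bool.and_eq_true, beq_iff'] at h3
    generalize fld WT _ = w at h3
    obtain ⟨⟨h3, h4⟩, h5⟩ := h3
    rintro ⟨b, -, hb⟩
    have h6 := even_card_inter (mem_of_isCode h3) hb
    have h7 := inter_symmDiff_card (ofMask w) (e6 x) (symmDiff b ((U (x / 64) : P24) • b))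
    have h8 := inter_symmDiff_card (ofMask w) b ((U (x / 64) : P24) • b)
    have h9 : (ofMask w ∩ (U (x / 64) : P24) • b).card = (ofMask w ∩ b).card := by
      conv_lhs => rw [← h4, r.ofMask_img, ← smul_inter', Finset.card_smul_finset]
    have h10 : (ofMask w ∩ e6 x).card % 2 = 1 := by
      rw [e6, card_inter_ofMask (lt_of_isCode h3)]; exact h5
    rw [Nat.even_iff] at h6
    omega
  · rw [h2] at h1
    refine iff_of_true ?_ (beq_iff'.1 h2)
    obtain ⟨i, hi, h3⟩ := exists_of_anyLT h1
    simp only [frc_eq, Bool.and_eq_true, beq_iff'] at h3
    have lt : Nat.xor 2 (Nat.shiftLeft 1 i) < 2 ^ 24 :=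
      (by decide : ∀ i < 24, Nat.xor 2 (Nat.shiftLeft 1 i) < 2 ^ 24) i hi
    refine ⟨ofMask (Nat.xor 2 (Nat.shiftLeft 1 i)), ?_, ?_⟩
    · rw [card_ofMask lt, Nat.even_iff]; exact h3.1
    · rw [← r.ofMask_img, e6, ← ofMask_xor, ← ofMask_xor]
      exact mem_of_isCode h3.2

theorem not_code_v {y w : ℕ} (hy : y < 16) (hw : w < 64)
    (h : symmDiff (symmDiff (ofMask 3) ((U y : P24) • ofMask 3)) (e7 w) ∈ codeSets) : y = 0 := by
  rw [← (U_rp hy).ofMask_img, e7, ← ofMask_xor, ← ofMask_xor,
    ofMask_mem_iff (xor_lt (xor_lt (by norm_num) ((U_rp hy).img_lt _)) (encL_lt (by decide) w))] at h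
  have h1 := of_allLT (of_allLT (f := fun y => allLT 64 fun w => or (Nat.beq y 0)
    (not (frc (Nat.xor (Nat.xor 3 (img (ap (uE y)) 3)) (encL B7 w)) isCode))) (by decide +kernel) hy) hw
  rw [frc_eq, show isCode (Nat.xor (Nat.xor 3 (img (ap (uE y)) 3)) (encL B7 w)) = true from h] at h1
  simpa [beq_iff'] using h1

theorem card_QA : ((Finset.range 1024).filter fun x => x ≠ 0 ∧ Q x = 0).card = 155 := by
  rw [← show cntLT 1024 (fun x => and (not (Nat.beq x 0)) (Nat.beq (Q x) 0)) = 155 by decide +kernel, cntLT_eq_card]
  refine congrArg Finset.card (Finset.filter_congr fun x _ => ?_)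
  rw [Bool.and_eq_true, beq_iff', Bool.not_eq_true', ← Bool.not_eq_true, beq_iff']

theorem card_QB : ((Finset.range 1024).filter fun x => Q x ≠ 0).card = 868 := by
  rw [← show cntLT 1024 (fun x => not (Nat.beq (Q x) 0)) = 868 by decide +kernel, cntLT_eq_card]
  refine congrArg Finset.card (Finset.filter_congr fun x _ => ?_)
  rw [Bool.not_eq_true', ← Bool.not_eq_true, beq_iff']

/-! ### vectors of length five -/

/-- the vector with the bits of `h` -/
def dec (h : ℕ) : Fin 5 → ZMod 2 := fun i => if h.testBit i then 1 else 0

/-- the number of a vector -/
def enc (v : Fin 5 → ZMod 2) : ℕ := (v 0).val + 2 * (v 1).val + 4 * (v 2).val + 8 * (v 3).val + 16 * (v 4).val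

theorem enc_lt (v : Fin 5 → ZMod 2) : enc v < 32 := by revert v; decide +kernel

theorem dec_enc (v : Fin 5 → ZMod 2) : dec (enc v) = v := by revert v; decide +kernel

theorem enc_dec {h : ℕ} (hh : h < 32) : enc (dec h) = h := by revert h; decide +kernel

theorem dec_xor (h k : ℕ) : dec (h ^^^ k) = dec h + dec k := by
  funext i
  simp only [dec, Nat.testBit_xor, Pi.add_apply]
  cases h.testBit i <;> cases k.testBit i <;> rfl

theorem enc_add (v w : Fin 5 → ZMod 2) : enc (v + w) = enc v ^^^ enc w := by
  rw [← enc_dec (xor_lt (n := 5) (enc_lt v) (enc_lt w)), dec_xor, dec_enc, dec_enc]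

/-- subsets of an octad are permuted transitively by its stabiliser -/
theorem exists_stab {o t t' : Finset GolayPt} (ho : o ∈ octads) (ht : t ⊆ o) (ht' : t' ⊆ o) (h : t.card = t'.card)
    (h5 : t.card ≤ 5) : ∃ g ∈ M24, g • o = o ∧ g • t = t' := by
  obtain ⟨s, h1, h2, h3⟩ := Finset.exists_subsuperset_card_eq ht h5 (by rw [ho.2]; norm_num)
  obtain ⟨s', h1', h2', h3'⟩ := Finset.exists_subsuperset_card_eq ht' (h ▸ h5) (by rw [ho.2]; norm_num)
  have nd : ∀ a b : Finset GolayPt, (a.toList ++ (b \ a).toList).Nodup := fun a b =>
    List.nodup_append'.2 ⟨a.nodup_toList, (b \ a).nodup_toList, fun p hp hq =>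
      (Finset.mem_sdiff.1 (Finset.mem_toList.1 hq)).2 (Finset.mem_toList.1 hp)⟩
  have len : ∀ a b : Finset GolayPt, a ⊆ b → (a.toList ++ (b \ a).toList).length = b.card := fun a b hab => by
    rw [List.length_append, Finset.length_toList, Finset.length_toList, add_comm, Finset.card_sdiff_add_card_eq_card hab]
  obtain ⟨g, hg, e⟩ := list_trans _ _ (nd t s) (nd t' s') (by rw [len _ _ h1, h3])
    (by rw [len _ _ h1, len _ _ h1', h3, h3'])
  have key : ∀ a b : Finset GolayPt, a.toList.map g = b.toList → g • a = b := fun a b e => by
    ext p
    rw [← Finset.mem_toList (s := b), ← e, List.mem_map, Finset.mem_smul_finset]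
    simp only [Finset.mem_toList]
    rfl
  rw [List.map_append] at e
  obtain ⟨e1, e2⟩ := List.append_inj e (by rw [List.length_map, Finset.length_toList, Finset.length_toList, h])
  have e3 : g • s = s' := by
    rw [← Finset.union_sdiff_of_subset h1, ← Finset.union_sdiff_of_subset h1', smul_union', key _ _ e1, key _ _ e2]
  refine ⟨g, hg, octad_eq_of_five_le (smul_mem_octads hg ho) ho ?_, key _ _ e1⟩
  rw [← h3']
  exact Finset.card_le_card (Finset.subset_inter (e3 ▸ Finset.smul_finset_subset_smul_finset h2) h2')

theorem card_stab_o0' : Nat.card (MulAction.stabilizer M24 (ofMask o0)) = 322560 := by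
  have h1 := card_stab_mul inv_octads (trans_of_base octad_trans) o0_mem
  rw [ncard_octads] at h1
  exact Nat.eq_of_mul_eq_mul_right (m := 759) (by norm_num) (h1.trans (by norm_num))

end CfsgLib.J4T.Ten
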